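import Cfsg.Agent.Lib.HallJankoType.Five

/-!
The `A₄` factor does not occur; a group of Hall–Janko type has order 604800.
-/

set_option autoImplicit false
set_option linter.style.haveILetI false
set_option linter.unusedSectionVars false

namespace Cfsg.Agent.HallJankoType

open Cfsg.Agent.JankoOrder (Inv inv_iff_orderOf)
open Subgroup

universe u

local notation "A5" => alternatingGroup (Fin 5)

namespace Setup

variable {G : Type u} [Group G] (S : Setup G) [Finite G]

include S in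
/-- In a group of order `51840` the Sylow 5-subgroups would all lie in `C(z)`. -/
theorem card_ne : Nat.card G ≠ 51840 := by
  intro hG
  haveI : Fact (Nat.Prime 5) := ⟨by decide⟩
  haveI : Fact (Nat.Prime 2) := ⟨Nat.prime_two⟩
  obtain ⟨g, hg, h5⟩ := S.exists_five
  set Y := Subgroup.zpowers g with hY
  have hY5 : Nat.card ↥Y = 5 := by rw [hY, Nat.card_zpowers, h5]
  set N := Subgroup.normalizer (Y : Set G) with hN
  set CY := Subgroup.centralizer ({g} : Set G) with hCY
  have hCN : CY ≤ N := by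
    rw [hCY, hN, hY, ← Subgroup.centralizer_closure, ← Subgroup.zpowers_eq_closure]
    exact Subgroup.centralizer_le_normalizer _
  have hzY : S.z ∈ CY := mem_cent.mpr (S.z_comm hg).symm
  -- `z` is the only involution of `C(g) ∩ C(z)`, so `⟨z⟩` is a Sylow subgroup of `C(g)`
  have hzN : ∀ c ∈ N, c * S.z * c⁻¹ ∈ CY := by
    intro c hc
    have hmem : c⁻¹ * g * c ∈ Y := by
      have := (Subgroup.mem_normalizer_iff.mp (inv_mem hc) g).mp (Subgroup.mem_zpowers g)
      simpa using this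
    obtain ⟨k, hk⟩ := Subgroup.mem_zpowers_iff.mp hmem
    rw [mem_cent]
    have hzc : Commute S.z (g ^ k) := (show Commute S.z g from (S.z_comm hg).symm).zpow_right k
    rw [hk] at hzc
    calc c * S.z * c⁻¹ * g = c * (S.z * (c⁻¹ * g * c)) * c⁻¹ := by group
      _ = c * ((c⁻¹ * g * c) * S.z) * c⁻¹ := by rw [hzc.eq]
      _ = g * (c * S.z * c⁻¹) := by group
  set zy : ↥CY := ⟨S.z, hzY⟩ with hzy
  have hno4 : ∀ M : Subgroup ↥CY, IsPGroup 2 ↥M → zy ∈ M → Nat.card ↥M ≤ 2 := by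
    intro M hM hzM
    by_contra hlt
    obtain ⟨i, hi⟩ := hM.exists_card_eq
    have h2 : 2 ≤ i := by
      by_contra k
      apply hlt
      rw [hi]
      interval_cases i <;> norm_num
    obtain ⟨M', hM', hzM'⟩ := Sylow.exists_subgroup_card_pow_prime_le 2 (n := 1) (m := 2)
      (show 2 ^ 2 ∣ Nat.card ↥M by rw [hi]; exact pow_dvd_pow 2 h2) (zpowers (⟨zy, hzM⟩ : ↥M))
      (by rw [Nat.card_zpowers, ← Subgroup.orderOf_coe, ← Subgroup.orderOf_coe, pow_one]; exact S.hz)
      (by norm_num)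
    have hab := IsPGroup.isMulCommutative_of_card_eq_prime_sq hM'
    have hle : ((M'.map M.subtype).map CY.subtype) ≤ S.C ⊓ Subgroup.centralizer ({g} : Set G) := by
      rintro _ ⟨_, ⟨x, hx, rfl⟩, rfl⟩
      refine Subgroup.mem_inf.mpr ⟨mem_cent.mpr ?_, (x : ↥CY).2⟩
      exact congrArg (fun w : ↥M' => (((w : ↥M) : ↥CY) : G))
        (hab.is_comm.comm (⟨x, hx⟩ : ↥M') ⟨⟨zy, hzM⟩, hzM' (mem_zpowers _)⟩)
    have h := Subgroup.card_dvd_of_le hle
    rw [Subgroup.card_map_of_injective CY.subtype_injective,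
      Subgroup.card_map_of_injective M.subtype_injective, hM', S.card_cent_five hg h5] at h
    norm_num at h
  have hconj : ∀ w : ↥CY, orderOf w = 2 → ∃ c : ↥CY, c * zy * c⁻¹ = w := by
    intro w hw
    obtain ⟨T, hT⟩ := (IsPGroup.of_card (n := 1) (by
      rw [Nat.card_zpowers, ← Subgroup.orderOf_coe, pow_one]; exact S.hz) :
      IsPGroup 2 ↥(zpowers zy)).exists_le_sylow
    obtain ⟨T', hT'⟩ := (IsPGroup.of_card (n := 1) (by rw [Nat.card_zpowers, hw, pow_one]) :
      IsPGroup 2 ↥(zpowers w)).exists_le_sylow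
    obtain ⟨c, hc⟩ := MulAction.exists_smul_eq ↥CY T T'
    refine ⟨c, ?_⟩
    have hT2 : (T : Subgroup ↥CY) = zpowers zy := (Subgroup.eq_of_le_of_card_ge hT (by
      rw [Nat.card_zpowers, ← Subgroup.orderOf_coe, show orderOf ((zy : ↥CY) : G) = 2 from S.hz]
      exact hno4 _ T.2 (hT (mem_zpowers _)))).symm
    have hw' : w ∈ (T' : Subgroup ↥CY) := hT' (mem_zpowers _)
    rw [← hc, Sylow.coe_subgroup_smul] at hw'
    obtain ⟨x, hx, e⟩ := hw'
    have hx' : x ∈ (T : Subgroup ↥CY) := hx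
    rw [hT2] at hx'
    obtain ⟨k, hk⟩ := mem_zpowers_iff.mp hx'
    have h2 : zy ^ (2 : ℤ) = 1 := by rw [zpow_two]; exact Subtype.ext S.zz
    rcases Int.even_or_odd k with ⟨j, rfl⟩ | ⟨j, rfl⟩
    · rw [← two_mul, zpow_mul, h2, one_zpow] at hk
      replace e : c * x * c⁻¹ = w := e
      rw [← hk, mul_one, mul_inv_cancel] at e
      rw [← e, orderOf_one] at hw
      norm_num at hw
    · rw [zpow_add_one, zpow_mul, h2, one_zpow, one_mul] at hk
      rw [hk]
      exact (e : c * x * c⁻¹ = w)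
  have hNC : Nat.card ↥N = 2 * Nat.card ↥CY := by
    have e1 := card_orbit_mul N S.z
    have e2 := card_orbit_mul CY S.z
    have hzi := inv_iff_orderOf.mp S.inv_z
    have hset : Nat.card {v : G // ∃ h ∈ N, h * S.z * h⁻¹ = v} =
        Nat.card {v : G // ∃ h ∈ CY, h * S.z * h⁻¹ = v} := by
      refine Nat.card_congr (Equiv.subtypeEquivRight fun v => ⟨?_, fun ⟨c, hc, e⟩ => ⟨c, hCN hc, e⟩⟩)
      rintro ⟨c, hc, rfl⟩
      obtain ⟨d, hd⟩ := hconj ⟨_, hzN c hc⟩ (by
        rw [← Subgroup.orderOf_coe]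
        show orderOf (c * S.z * c⁻¹) = 2
        rw [← MulAut.conj_apply, MulEquiv.orderOf_eq]; exact S.hz)
      exact ⟨d, d.2, congrArg Subtype.val hd⟩
    rw [inf_comm, show Subgroup.centralizer ({S.z} : Set G) = S.C from rfl] at e1 e2
    rw [S.card_norm_five hg h5] at e1
    rw [S.card_cent_five hg h5, ← hset] at e2
    omega
  have h10 : 10 ∣ Nat.card ↥CY := by
    rw [← S.card_cent_five hg h5]; exact Subgroup.card_dvd_of_le inf_le_right
  have hdvdN : Nat.card ↥N ∣ 51840 := hG ▸ Subgroup.card_subgroup_dvd_card N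
  have hCYodd : ¬ 2 ^ 2 ∣ Nat.card ↥CY := fun h => by
    obtain ⟨M, hM⟩ := Sylow.exists_subgroup_card_pow_prime 2 h
    obtain ⟨T, hT⟩ := (IsPGroup.of_card hM).exists_le_sylow
    obtain ⟨T', hT'⟩ := (IsPGroup.of_card (n := 1) (by
      rw [Nat.card_zpowers, ← Subgroup.orderOf_coe, pow_one]; exact S.hz) :
      IsPGroup 2 ↥(zpowers zy)).exists_le_sylow
    have := Subgroup.card_le_of_le hT
    rw [hM, Sylow.card_eq_multiplicity T, ← Sylow.card_eq_multiplicity T'] at this
    have := hno4 _ T'.2 (hT' (mem_zpowers _))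
    omega
  -- the number of Sylow 5-subgroups
  have hYp : IsPGroup 5 ↥Y := IsPGroup.of_card (n := 1) (by rw [hY5, pow_one])
  obtain ⟨P, hP⟩ := hYp.exists_le_sylow
  have hfac : (51840 : ℕ).factorization 5 = 1 := by
    rw [Nat.factorization_def _ (by norm_num : Nat.Prime 5), show (51840 : ℕ) = 5 ^ 1 * 10368 by norm_num,
      padicValNat.mul (by norm_num) (by norm_num), padicValNat.prime_pow,
      padicValNat.eq_zero_of_not_dvd (by norm_num : ¬ 5 ∣ 10368)]
  have hPY : (P : Subgroup G) = Y := (Subgroup.eq_of_le_of_card_ge hP (le_of_eq (by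
    rw [hY5, Sylow.card_eq_multiplicity, hG, hfac, pow_one]))).symm
  have hidx : Nat.card (Sylow 5 G) = N.index := by
    rw [Sylow.card_eq_index_normalizer P, hN, ← hPY]
    rfl
  have hlag := Subgroup.index_mul_card N
  rw [← hidx, hG, hNC] at hlag
  have hmod : Nat.card (Sylow 5 G) % 5 = 1 := card_sylow_modEq_one 5 G
  obtain ⟨e, he⟩ := h10
  rw [he] at hlag hCYodd
  rw [hNC, he] at hdvdN
  have hedvd : e ∣ 3 ^ 4 * 32 := by
    refine Nat.dvd_of_mul_dvd_mul_left (show 0 < 20 by norm_num) ?_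
    rw [show 20 * (3 ^ 4 * 32) = 51840 by norm_num, show 20 * e = 2 * (10 * e) by ring]
    exact hdvdN
  have heodd : ¬ 2 ∣ e := fun h => hCYodd (by
    obtain ⟨f, rfl⟩ := h
    exact ⟨5 * f, by ring⟩)
  have he81 : e ∣ 3 ^ 4 := by
    refine Nat.Coprime.dvd_of_dvd_mul_right ?_ hedvd
    rw [show (32 : ℕ) = 2 ^ 5 by norm_num]
    exact Nat.Coprime.pow_right _ (Nat.prime_two.coprime_iff_not_dvd.mpr heodd).symm
  obtain ⟨i, hi, rfl⟩ := (Nat.dvd_prime_pow Nat.prime_three).mp he81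
  have h96 : Nat.card (Sylow 5 G) = 96 := by
    interval_cases i <;> omega
  -- all of them lie in `C(z)`
  have hcount : Nat.card {v : Subgroup G // ∃ h ∈ S.C, Y.map (MulAut.conj h).toMonoidHom = v} = 96 := by
    have hst : ∀ h k : G, Y.map (MulAut.conj h).toMonoidHom = Y.map (MulAut.conj k).toMonoidHom →
        h⁻¹ * k ∈ N := by
      intro h k e
      refine Subgroup.mem_normalizer_iff.mpr fun x => ?_
      have key : ∀ y : G, y ∈ Y ↔ h * y * h⁻¹ ∈ Y.map (MulAut.conj k).toMonoidHom := fun y => by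
        rw [← e]
        refine ⟨fun hy => ⟨y, hy, rfl⟩, ?_⟩
        rintro ⟨y', hy', e'⟩
        have e'' : h * y' * h⁻¹ = h * y * h⁻¹ := e'
        rwa [mul_left_cancel (mul_right_cancel e'')] at hy'
      rw [key (h⁻¹ * k * x * (h⁻¹ * k)⁻¹),
        show h * (h⁻¹ * k * x * (h⁻¹ * k)⁻¹) * h⁻¹ = k * x * k⁻¹ by group]
      refine ⟨fun hx => ⟨x, hx, rfl⟩, ?_⟩
      rintro ⟨y', hy', e'⟩
      have e'' : k * y' * k⁻¹ = k * x * k⁻¹ := e'
      rwa [mul_left_cancel (mul_right_cancel e'')] at hy'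
    set M := (N.subgroupOf S.C) with hM
    have hcardM : Nat.card ↥M = 20 := by
      rw [← S.card_norm_five hg h5, hM, ← Subgroup.inf_subgroupOf_left,
        Nat.card_congr (Subgroup.subgroupOfEquivOfLe inf_le_left).toEquiv]
    have h := Subgroup.card_eq_card_quotient_mul_card_subgroup M
    rw [S.card_C, hcardM] at h
    have hstab : ∀ h k : G, h⁻¹ * k ∈ N →
        Y.map (MulAut.conj h).toMonoidHom = Y.map (MulAut.conj k).toMonoidHom := by
      intro h k hk
      ext x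
      constructor
      · rintro ⟨y, hy, rfl⟩
        refine ⟨(h⁻¹ * k)⁻¹ * y * (h⁻¹ * k),
          by simpa using (Subgroup.mem_normalizer_iff.mp (inv_mem hk) y).mp hy, ?_⟩
        show k * ((h⁻¹ * k)⁻¹ * y * (h⁻¹ * k)) * k⁻¹ = h * y * h⁻¹
        group
      · rintro ⟨y, hy, rfl⟩
        refine ⟨h⁻¹ * k * y * (h⁻¹ * k)⁻¹, (Subgroup.mem_normalizer_iff.mp hk y).mp hy, ?_⟩
        show h * (h⁻¹ * k * y * (h⁻¹ * k)⁻¹) * h⁻¹ = k * y * k⁻¹
        group
    rw [show (96 : ℕ) = Nat.card (↥S.C ⧸ M) by omega]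
    refine (Nat.card_eq_of_bijective (Quotient.lift
      (fun c : ↥S.C => (⟨_, (c : G), c.2, rfl⟩ :
        {v : Subgroup G // ∃ h ∈ S.C, Y.map (MulAut.conj h).toMonoidHom = v}))
      fun c d hcd => Subtype.ext (hstab (c : G) (d : G) ((QuotientGroup.leftRel_apply (s := M)).mp hcd))) ⟨?_, ?_⟩).symm
    · intro x y
      refine Quotient.inductionOn₂' x y fun c d e => Quotient.sound' ((QuotientGroup.leftRel_apply (s := M)).mpr ?_)
      exact hst (c : G) (d : G) (congrArg Subtype.val e)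
    · rintro ⟨v, c, hc, e⟩
      exact ⟨QuotientGroup.mk ⟨c, hc⟩, Subtype.ext e⟩
  let emb : {v : Subgroup G // ∃ h ∈ S.C, Y.map (MulAut.conj h).toMonoidHom = v} → Sylow 5 G :=
    fun v => Sylow.ofCard v.1 (by
      obtain ⟨h, -, e⟩ := v.2
      rw [← e, Subgroup.card_map_of_injective (MulAut.conj h).injective, hG, hfac, pow_one, hY5])
  have hemb : Function.Bijective emb :=
    (Nat.bijective_iff_injective_and_card emb).mpr
      ⟨fun v w e => Subtype.ext (congrArg (fun P : Sylow 5 G => (P : Subgroup G)) e :),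
        hcount.trans h96.symm⟩
  obtain ⟨w, hw, hw2, hwz, hwc⟩ := S.exists_noncentral
  obtain ⟨k, hk⟩ := isConj_iff.mp hwc
  obtain ⟨v, hv⟩ := hemb.2 (k⁻¹ • P)
  obtain ⟨h, hh, e⟩ := v.2
  have hv' : v.1 = ((k⁻¹ • P : Sylow 5 G) : Subgroup G) :=
    congrArg (fun P : Sylow 5 G => (P : Subgroup G)) hv
  have hgmem : k⁻¹ * g * k ∈ v.1 := by
    rw [hv', Sylow.coe_subgroup_smul]
    exact ⟨g, hPY.symm ▸ Subgroup.mem_zpowers g, by simp⟩
  rw [← e] at hgmem
  obtain ⟨y, hy, hye⟩ := hgmem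
  have hyC : k⁻¹ * g * k ∈ S.C := by
    rw [← hye]
    exact mul_mem (mul_mem hh ((Subgroup.zpowers_le.mpr hg) hy)) (inv_mem hh)
  refine hwz (S.fix_five hg h5 hw ?_)
  rw [← hk]
  calc g * (k * S.z * k⁻¹) = k * ((k⁻¹ * g * k) * S.z) * k⁻¹ := by group
    _ = k * (S.z * (k⁻¹ * g * k)) * k⁻¹ := by rw [S.z_comm hyC]
    _ = k * S.z * k⁻¹ * g := by group

end Setup

namespace Setup.Local.Factor

variable {G : Type u} [Group G] {S : Setup G} [Finite G] {a : G} {L : Setup.Local S a}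

/-- The factor is `A₅`. -/
theorem nonempty_iso (K : Setup.Local.Factor L) : Nonempty (↥K.B ≃* A5) := by
  rcases K.card_twelve_or_iso with ⟨hnorm, h12⟩ | h
  · exfalso
    have hD : Nat.card ↥(Subgroup.centralizer ({a} : Set G)) = 48 := by rw [K.index, h12]
    -- the involutions of `B`
    have hinvF : ∀ {b : G}, b ∈ K.B → Inv b → b ∈ F S a := by
      intro b hb hb2
      obtain ⟨g, hg, hgb⟩ := K.sylow b (K.le hb) hb2
      obtain ⟨t, ht, c, hc, rfl⟩ := K.decomp hg
      have e : t * c * b * (t * c)⁻¹ = c * b * c⁻¹ := by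
        calc t * c * b * (t * c)⁻¹ = (t * (c * b * c⁻¹)) * t⁻¹ := by group
          _ = c * b * c⁻¹ := by
              rw [K.T_comm ht (mul_mem (mul_mem hc hb) (inv_mem hc)), mul_inv_cancel_right]
      rw [e] at hgb
      have hF := K.inf_E _ hgb (mul_mem (mul_mem hc hb) (inv_mem hc))
      have hnF : ∀ d ∈ K.B, ∀ x ∈ F S a, d * x * d⁻¹ ∈ F S a := by
        intro d hd x hx
        have hu : d * L.u * d⁻¹ ∈ F S a := by
          have h := hnorm (d * L.n⁻¹) (mul_mem hd (inv_mem K.n_mem))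
          rwa [show d * L.n⁻¹ * S.z * (d * L.n⁻¹)⁻¹ = d * L.u * d⁻¹ by rw [← L.n_u]; group] at h
        rcases L.mem_F_cases hx with k | k | k | k <;> rw [k]
        · simp
        · exact hnorm d hd
        · exact hu
        · rw [show d * (S.z * L.u) * d⁻¹ = d * S.z * d⁻¹ * (d * L.u * d⁻¹) by group]
          exact mul_mem (hnorm d hd) hu
      have h := hnF c⁻¹ (inv_mem hc) _ hF
      rwa [show c⁻¹ * (c * b * c⁻¹) * c⁻¹⁻¹ = b by group] at h
    have hF4 : Nat.card ↥(F S a) = 4 := S.card_cent_Q_outside L.outside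
    have hm : Nat.card {b : ↥K.B // Inv b} = 3 := by
      classical
      have h1 := Nat.card_congr (Equiv.sumCompl fun x : ↥(F S a) => (x : G) = 1)
      rw [Nat.card_sum, hF4] at h1
      have h2 : Nat.card {x : ↥(F S a) // (x : G) = 1} = 1 :=
        Nat.card_eq_one_iff_unique.mpr ⟨⟨fun p q => Subtype.ext (Subtype.ext (p.2.trans q.2.symm))⟩,
          ⟨⟨1, rfl⟩⟩⟩
      have h3 : Nat.card {x : ↥(F S a) // ¬ (x : G) = 1} = Nat.card {b : ↥K.B // Inv b} :=
        Nat.card_congr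
          { toFun := fun x => ⟨⟨x.1, K.F_le x.1.2⟩, Subtype.ext (S.E_sq L.outside (F_le_E x.1.2)),
              fun k => x.2 (congrArg Subtype.val k)⟩
            invFun := fun b => ⟨⟨b.1, hinvF b.1.2 ⟨congrArg Subtype.val b.2.1,
              fun k => b.2.2 (Subtype.ext k)⟩⟩, fun k => b.2.2 (Subtype.ext k)⟩
            left_inv := fun _ => rfl
            right_inv := fun _ => rfl }
      omega
    have hcommInv : ∀ p q : ↥K.B, Inv p → Inv q → p * q = q * p := fun p q hp hq =>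
      Subtype.ext (S.E_comm L.outside
        (F_le_E (hinvF p.2 ⟨congrArg Subtype.val hp.1, fun k => hp.2 (Subtype.ext k)⟩))
        (F_le_E (hinvF q.2 ⟨congrArg Subtype.val hq.1, fun k => hq.2 (Subtype.ext k)⟩)))
    have hp : Nat.card {q : ↥K.B × ↥K.B // Inv q.1 ∧ Inv q.2 ∧ q.1 * q.2 = q.2 * q.1} = 9 := by
      rw [show (9 : ℕ) = Nat.card ({b : ↥K.B // Inv b} × {b : ↥K.B // Inv b}) by
        rw [Nat.card_prod, hm]]
      exact Nat.card_congr
        { toFun := fun q => (⟨q.1.1, q.2.1⟩, ⟨q.1.2, q.2.2.1⟩)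
          invFun := fun q => ⟨(q.1.1, q.2.1), q.1.2, q.2.2, hcommInv _ _ q.1.2 q.2.2⟩
          left_inv := fun _ => rfl
          right_inv := fun _ => rfl }
    have hr : Nat.card {q : ↥K.B × ↥K.B // Inv q.1 ∧ q.2 * q.2 = 1 ∧ (q.1 * q.2) ^ 15 = 1} = 3 := by
      rw [← hm]
      refine Nat.card_eq_of_bijective (fun q => ⟨q.1.1, q.2.1⟩) ⟨?_, ?_⟩
      · rintro ⟨⟨p, q⟩, hp1, hq, hpq⟩ ⟨⟨p', q'⟩, hp1', hq', hpq'⟩ e
        have e1 : p = p' := congrArg Subtype.val e
        subst e1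
        have key : ∀ x : ↥K.B, x * x = 1 → (p * x) ^ 15 = 1 → x = p := by
          intro x hx hpx
          have hc : p * x = x * p := by
            by_cases hx1 : x = 1
            · rw [hx1, mul_one, one_mul]
            · exact hcommInv p x hp1 ⟨hx, hx1⟩
          have h2 : (p * x) ^ 2 = 1 := by
            rw [(show Commute p x from hc).mul_pow, pow_two, pow_two, hp1.1, hx, one_mul]
          rw [show (15 : ℕ) = 2 * 7 + 1 by norm_num, pow_succ, pow_mul, h2, one_pow, one_mul] at hpx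
          rw [eq_inv_of_mul_eq_one_right hpx, inv_of_sq hp1.1]
        refine Subtype.ext (Prod.ext rfl ?_)
        exact (key q hq hpq).trans (key q' hq' hpq').symm
      · rintro ⟨b, hb⟩
        exact ⟨⟨(b, b), hb, hb.1, by rw [hb.1, one_pow]⟩, rfl⟩
    have h := K.order_formula hm hp hr (fun {x k} hk h => by
      have h1 : orderOf x ∣ 12 := h12 ▸ orderOf_dvd_natCard x
      have h2 : orderOf x ∣ k := orderOf_dvd_of_pow_eq_one h
      have h3 : Nat.Coprime (orderOf x) (2 ^ 2) :=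
        Nat.Coprime.pow_right _ (Nat.prime_two.coprime_iff_not_dvd.mpr fun k2 =>
          (Nat.not_even_iff_odd.mpr hk) (even_iff_two_dvd.mpr (k2.trans h2))).symm
      have h4 : orderOf x ∣ 3 := Nat.Coprime.dvd_of_dvd_mul_left h3 (by simpa using h1)
      exact orderOf_dvd_iff_pow_eq_one.mp (h4.trans ⟨5, rfl⟩)) (by rw [hD]) (by rw [hD])
    rw [hD] at h
    exact S.card_ne h
  · exact h

theorem card_B (K : Setup.Local.Factor L) : Nat.card ↥K.B = 60 := by
  obtain ⟨e⟩ := K.nonempty_iso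
  rw [Nat.card_congr e.toEquiv, five_card]

theorem card_D (K : Setup.Local.Factor L) :
    Nat.card ↥(Subgroup.centralizer ({a} : Set G)) = 240 := by rw [K.index, K.card_B]

theorem card_group (K : Setup.Local.Factor L) : Nat.card G = 604800 := by
  obtain ⟨e⟩ := K.nonempty_iso
  rw [K.order_formula (JankoOrder.card_inv e) (JankoOrder.card_comm e) (JankoOrder.card_odd e)
    (fun hk h => JankoOrder.pow_fifteen_of_odd e hk h) (by rw [K.card_D]) (by rw [K.card_D]), K.card_D]

end Setup.Local.Factor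

theorem Setup.card_group {G : Type u} [Group G] [Finite G] (S : Setup G) : Nat.card G = 604800 := by
  obtain ⟨a, ha⟩ := S.exists_outside
  obtain ⟨L⟩ := S.exists_local ha
  obtain ⟨K⟩ := L.exists_factor
  exact K.card_group

end Cfsg.Agent.HallJankoType
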