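import Mathlib.GroupTheory.SpecificGroups.Alternating
import Mathlib.GroupTheory.GroupAction.ConjAct
import Mathlib.GroupTheory.Index
import Cfsg.Agent.Lib.JankoOrder.Alt

/-!
Facts about `A₅` and a counting lemma for conjugation orbits of subgroups, for the
Hall–Janko type analysis.
-/

set_option autoImplicit false

namespace Cfsg.Agent.HallJankoType

open Cfsg.Agent.JankoOrder (Inv)

local notation "A5" => alternatingGroup (Fin 5)

set_option maxRecDepth 8000 in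
theorem five_inv_conj : ∀ a b : A5, Inv a → Inv b → ∃ x : A5, x * a * x⁻¹ = b := by decide +kernel

set_option maxRecDepth 8000 in
theorem five_inv_product : ∀ a : A5, Inv a →
    ∃ x : A5, (a * (x * a * x⁻¹)) ^ 5 = 1 ∧ a * (x * a * x⁻¹) ≠ 1 := by decide +kernel

set_option maxRecDepth 8000 in
theorem five_inv_cent : ∀ a : A5, Inv a → Fintype.card {x : A5 // x * a = a * x} = 4 := by
  decide +kernel

set_option maxRecDepth 8000 in
theorem five_cent_sq : ∀ a x : A5, Inv a → x * a = a * x → x * x = 1 := by decide +kernel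

set_option maxRecDepth 8000 in
theorem five_cent_pair : ∀ a : A5, Inv a → ∀ x : A5, x * a = a * x ∧ x ≠ 1 ∧ x ≠ a →
    ∀ y : A5, y * a = a * y ∧ y ≠ 1 ∧ y ≠ a → x⁻¹ * y = 1 ∨ x⁻¹ * y = a := by decide +kernel

set_option maxRecDepth 8000 in
set_option synthInstance.maxSize 2000 in
set_option synthInstance.maxHeartbeats 200000 in
theorem five_twelve : ∀ a : A5, Inv a → ∀ b : A5, Inv b ∧ a ≠ b ∧ a * b = b * a →
    ∀ y : A5, y * y * y = 1 ∧ y ≠ 1 →
    (a * y) ^ 5 ≠ 1 ∧ (b * y) ^ 5 ≠ 1 ∧ (a * b * y) ^ 5 ≠ 1 →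
    a * (y * a * y⁻¹) = (y * a * y⁻¹) * a ∧ y * a * y⁻¹ ≠ a ∧
      y * (y * a * y⁻¹) * y⁻¹ = a * (y * a * y⁻¹) := by
  decide +kernel

theorem five_exists_inv : ∃ a : A5, Inv a := by
  obtain ⟨a, b, ha, -⟩ := JankoOrder.alt_exists
  exact ⟨a, ha⟩

theorem five_card : Nat.card A5 = 60 := by
  rw [nat_card_alternatingGroup, Nat.card_fin]; rfl

/-- Orbit-stabiliser for a subgroup acting by conjugation. -/
theorem card_orbit_mul {G : Type*} [Group G] [Finite G] (H : Subgroup G) (a : G) :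
    Nat.card {v : G // ∃ h ∈ H, h * a * h⁻¹ = v} *
      Nat.card ↥(H ⊓ Subgroup.centralizer ({a} : Set G) : Subgroup G) = Nat.card ↥H := by
  classical
  let f : ↥H → {v : G // ∃ h ∈ H, h * a * h⁻¹ = v} := fun h => ⟨h * a * (h : G)⁻¹, h, h.2, rfl⟩
  set K := (H ⊓ Subgroup.centralizer ({a} : Set G) : Subgroup G).subgroupOf H with hK
  have hcard : Nat.card ↥K = Nat.card ↥(H ⊓ Subgroup.centralizer ({a} : Set G) : Subgroup G) :=
    Nat.card_congr (Subgroup.subgroupOfEquivOfLe inf_le_left).toEquiv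
  have hiff : ∀ g h : ↥H, g⁻¹ * h ∈ K ↔ (g : G) * a * (g : G)⁻¹ = h * a * (h : G)⁻¹ := by
    intro g h
    rw [hK, Subgroup.mem_subgroupOf, Subgroup.mem_inf, Subgroup.mem_centralizer_singleton_iff]
    refine ⟨fun e => ?_, fun e => ⟨(g⁻¹ * h).2, ?_⟩⟩
    · calc (g : G) * a * (g : G)⁻¹ = g * (a * (g⁻¹ * h : ↥H)) * (h : G)⁻¹ := by
            push_cast; group
        _ = g * ((g⁻¹ * h : ↥H) * a) * (h : G)⁻¹ := by rw [e.2]
        _ = h * a * (h : G)⁻¹ := by push_cast; group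
    · calc ((g⁻¹ * h : ↥H) : G) * a = (g : G)⁻¹ * (h * a * (h : G)⁻¹) * h := by push_cast; group
        _ = (g : G)⁻¹ * (g * a * (g : G)⁻¹) * h := by rw [e]
        _ = a * ((g⁻¹ * h : ↥H) : G) := by push_cast; group
  let e : ↥H ⧸ K ≃ {v : G // ∃ h ∈ H, h * a * h⁻¹ = v} := Equiv.ofBijective
    (Quotient.lift f fun g h hgh => Subtype.ext ((hiff g h).mp (QuotientGroup.leftRel_apply.mp hgh)))
    ⟨fun x y => Quotient.inductionOn₂' x y fun g h e =>
      Quotient.sound' (QuotientGroup.leftRel_apply.mpr ((hiff g h).mpr (congrArg Subtype.val e))),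
      fun v => by
        obtain ⟨h, hh, e⟩ := v.2
        exact ⟨QuotientGroup.mk ⟨h, hh⟩, Subtype.ext e⟩⟩
  rw [← hcard, ← Nat.card_congr e, ← Subgroup.card_eq_card_quotient_mul_card_subgroup K]

/-- An element of order three fixing a subgroup of index two of a 2-group pointwise fixes the group. -/
theorem fix_of_index_two {G : Type*} [Group G] {K H : Subgroup G} {y : G} (hy : y ^ 3 = 1)
    (hK : ∀ k ∈ K, y * k * y⁻¹ = k) (hH : ∀ r ∈ H, r⁻¹ * (y * r * y⁻¹) ∈ K)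
    (h2 : ∀ k ∈ K, k ^ 3 = 1 → k = 1) {r : G} (hr : r ∈ H) : y * r * y⁻¹ = r := by
  set m := r⁻¹ * (y * r * y⁻¹) with hm
  have h1 : y * r * y⁻¹ = r * m := by rw [hm]; group
  have hfix := hK m (hH r hr)
  have h3 : y ^ 3 * r * (y ^ 3)⁻¹ = r * m ^ 3 := by
    calc y ^ 3 * r * (y ^ 3)⁻¹ = y * (y * (y * r * y⁻¹) * y⁻¹) * y⁻¹ := by
          simp only [pow_succ, pow_zero, one_mul]; group
      _ = y * (y * (r * m) * y⁻¹) * y⁻¹ := by rw [h1]
      _ = y * ((y * r * y⁻¹) * (y * m * y⁻¹)) * y⁻¹ := by group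
      _ = y * (r * m * m) * y⁻¹ := by rw [hfix, h1]
      _ = (y * r * y⁻¹) * (y * m * y⁻¹) * (y * m * y⁻¹) := by group
      _ = r * m ^ 3 := by rw [hfix, h1]; simp only [pow_succ, pow_zero, one_mul, mul_assoc]
  rw [hy, one_mul, inv_one, mul_one, left_eq_mul] at h3
  rw [h1, h2 m (hH r hr) h3, mul_one]

end Cfsg.Agent.HallJankoType
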