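import Cfsg.Agent.Lib.HallJankoType.AltFive
import Cfsg.Agent.S2119

/-!
Automorphisms of `A₅` fixing a subgroup isomorphic to `A₄` pointwise are trivial.
-/

set_option autoImplicit false

namespace Cfsg.Agent.HallJankoType

open Cfsg.Agent.JankoOrder (Inv)

local notation "A5" => alternatingGroup (Fin 5)

set_option maxRecDepth 8000 in
set_option synthInstance.maxSize 2000 in
set_option synthInstance.maxHeartbeats 200000 in
theorem five_perm_fix : ∀ π : Equiv.Perm (Fin 5), ∀ w : A5, Inv w ∧ π * w = w * π →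
    ∀ v : A5, Inv v ∧ v ≠ w ∧ v * w = w * v ∧ π * v = v * π →
    ∀ y : A5, (y * y * y = 1 ∧ y ≠ 1) ∧ (y * w * y⁻¹ = v ∨ y * v * y⁻¹ = w) ∧ π * y = y * π →
    π = 1 := by
  decide +kernel

theorem aut_fix {B : Type*} [Group B] (e : B ≃* A5) (σ : B ≃* B) {w v y : B}
    (hw : Inv w) (hv : Inv v) (hne : v ≠ w) (hc : v * w = w * v) (hy : y * y * y = 1) (hy1 : y ≠ 1)
    (hconj : y * w * y⁻¹ = v ∨ y * v * y⁻¹ = w) (sw : σ w = w) (sv : σ v = v) (sy : σ y = y)
    (x : B) : σ x = x := by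
  obtain ⟨π, hπ⟩ := (S2119.result 5 (by norm_num) (by norm_num)).2 ((e.symm.trans σ).trans e)
  have hfix : ∀ b : B, σ b = b → π * (e b : Equiv.Perm (Fin 5)) = (e b : Equiv.Perm (Fin 5)) * π := by
    intro b hb
    have h1 := DFunLike.congr_fun hπ (e b)
    simp only [MulEquiv.trans_apply, MulEquiv.symm_apply_apply, hb] at h1
    have h2 := congrArg Subtype.val h1
    rw [MulAut.conjNormal_apply] at h2
    exact mul_inv_eq_iff_eq_mul.mp h2
  have hy' : e y * e y * e y = 1 := by rw [← map_mul, ← map_mul, hy, map_one]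
  have hconj' : e y * e w * (e y)⁻¹ = e v ∨ e y * e v * (e y)⁻¹ = e w := by
    refine hconj.imp (fun h => ?_) (fun h => ?_) <;> rw [← map_inv, ← map_mul, ← map_mul, h]
  have hπ1 : π = 1 :=
    five_perm_fix π (e w) ⟨(JankoOrder.inv_map e).mp hw, hfix w sw⟩ (e v)
      ⟨(JankoOrder.inv_map e).mp hv, fun h => hne (e.injective h),
        by rw [← map_mul, ← map_mul, hc], hfix v sv⟩ (e y)
      ⟨⟨hy', fun h => hy1 (e.injective (h.trans (map_one e).symm))⟩, hconj', hfix y sy⟩
  apply e.injective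
  have h1 := DFunLike.congr_fun hπ (e x)
  rw [hπ1, map_one] at h1
  simpa using h1.symm

end Cfsg.Agent.HallJankoType
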