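import Cfsg.Agent.Lib.HallJankoType.Ten
import Cfsg.Agent.Lib.HallJankoType.AutFive

/-!
Generators of a group of Hall–Janko type satisfying a fixed set of relations.
-/

set_option autoImplicit false
set_option linter.style.haveILetI false
set_option linter.unusedSectionVars false

namespace Cfsg.Agent.HallJankoType

open Cfsg.Agent.JankoOrder (Inv inv_iff_orderOf)
open Subgroup

universe u

local notation "A5" => alternatingGroup (Fin 5)

set_option maxRecDepth 8000 in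
set_option synthInstance.maxSize 4000 in
set_option synthInstance.maxHeartbeats 400000 in
theorem five_pick : ∀ g : A5, g ^ 3 = 1 ∧ g ≠ 1 → ∀ w : A5, w * w = 1 ∧ w ≠ 1 ∧ w * g * w⁻¹ = g⁻¹ →
    ∀ a : A5, a * a = 1 ∧ a ≠ 1 ∧ g * a * g⁻¹ ≠ a ∧ a * (g * a * g⁻¹) = g * a * g⁻¹ * a →
      (a * w) ^ 3 = 1 ∨ (g * a * g⁻¹ * w) ^ 3 = 1 ∨ (g⁻¹ * a * g * w) ^ 3 = 1 := by
  decide +kernel

set_option maxRecDepth 8000 in
set_option synthInstance.maxSize 4000 in
set_option synthInstance.maxHeartbeats 400000 in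
theorem five_gen_five : ∀ g : A5, g ^ 3 = 1 ∧ g ≠ 1 → ∀ w : A5, w * w = 1 ∧ w ≠ 1 ∧ w * g * w⁻¹ = g⁻¹ →
    ∀ a : A5, a * a = 1 ∧ a ≠ 1 ∧ g * a * g⁻¹ ≠ a ∧ a * (g * a * g⁻¹) = g * a * g⁻¹ * a →
      ((a * w) ^ 5 = 1 ∧ a * w ≠ 1) ∨ ((g * a * w) ^ 5 = 1 ∧ g * a * w ≠ 1) ∨
        ((g * g * a * w) ^ 5 = 1 ∧ g * g * a * w ≠ 1) := by
  decide +kernel

/-- A subgroup of `A₅` with elements of orders two, three and five is everything. -/
theorem five_top_of_orders {M : Subgroup A5} {a g c : A5} (ha : a * a = 1) (ha1 : a ≠ 1) (hg : g ^ 3 = 1)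
    (hg1 : g ≠ 1) (hc : c ^ 5 = 1) (hc1 : c ≠ 1) (haM : a ∈ M) (hgM : g ∈ M) (hcM : c ∈ M) : M = ⊤ := by
  haveI : Fact (Nat.Prime 2) := ⟨Nat.prime_two⟩
  haveI : Fact (Nat.Prime 3) := ⟨Nat.prime_three⟩
  haveI : Fact (Nat.Prime 5) := ⟨by decide⟩
  have h2 : 2 ∣ Nat.card ↥M :=
    (orderOf_eq_prime (p := 2) (by rw [pow_two]; exact ha) ha1).symm.dvd.trans
      (Subgroup.orderOf_dvd_natCard _ haM)
  have h3 : 3 ∣ Nat.card ↥M :=
    (orderOf_eq_prime hg hg1).symm.dvd.trans (Subgroup.orderOf_dvd_natCard _ hgM)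
  have h5 : 5 ∣ Nat.card ↥M := (orderOf_eq_prime hc hc1).symm.dvd.trans (Subgroup.orderOf_dvd_natCard _ hcM)
  have h30 : 30 ∣ Nat.card ↥M := by
    have h := Nat.Coprime.mul_dvd_of_dvd_of_dvd (by norm_num : Nat.Coprime (2 * 3) 5)
      (Nat.Coprime.mul_dvd_of_dvd_of_dvd (by norm_num : Nat.Coprime 2 3) h2 h3) h5
    simpa using h
  have hci := M.card_mul_index
  rw [five_card] at hci
  obtain ⟨k, hk⟩ := h30
  rw [hk] at hci
  have hki : k * M.index = 2 := by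
    have : 30 * (k * M.index) = 30 * 2 := by rw [← mul_assoc]; exact hci
    omega
  rcases (Nat.dvd_prime Nat.prime_two).mp (Dvd.intro_left _ hki) with h | h
  · exact Subgroup.index_eq_one.mp h
  · exfalso
    haveI : M.Normal := Subgroup.normal_of_index_eq_two h
    haveI := alternatingGroup.isSimpleGroup_five
    rcases Subgroup.Normal.eq_bot_or_eq_top (inferInstance : M.Normal) with e | e
    · rw [e, Subgroup.mem_bot] at hgM
      exact hg1 hgM
    · rw [e, Subgroup.index_top] at h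
      norm_num at h

/-- An `A₄` and an involution inverting one of its elements of order three generate `A₅`. -/
theorem five_eq_top {M : Subgroup A5} {g w a : A5} (hg : g ^ 3 = 1 ∧ g ≠ 1)
    (hw : w * w = 1 ∧ w ≠ 1 ∧ w * g * w⁻¹ = g⁻¹)
    (ha : a * a = 1 ∧ a ≠ 1 ∧ g * a * g⁻¹ ≠ a ∧ a * (g * a * g⁻¹) = g * a * g⁻¹ * a)
    (hgM : g ∈ M) (hwM : w ∈ M) (haM : a ∈ M) : M = ⊤ := by
  obtain ⟨c, hc, hcM⟩ : ∃ c : A5, (c ^ 5 = 1 ∧ c ≠ 1) ∧ c ∈ M := by
    rcases five_gen_five g hg w hw a ha with h | h | h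
    · exact ⟨_, h, mul_mem haM hwM⟩
    · exact ⟨_, h, mul_mem (mul_mem hgM haM) hwM⟩
    · exact ⟨_, h, mul_mem (mul_mem (mul_mem hgM hgM) haM) hwM⟩
  exact five_top_of_orders ha.1 ha.2.1 hg.1 hg.2 hc.1 hc.2 haM hgM hcM

namespace Setup.Local.Factor

variable {G : Type u} [Group G] {S : Setup G} [Finite G] {a : G} {L : Setup.Local S a}
  {K : Setup.Local.Factor L}

theorem bOf_comm_T (e : ↥K.B ≃* A5) {t : G} (ht : t ∈ L.T) (b : A5) : t * bOf e b = bOf e b * t :=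
  K.T_comm ht (bOf_mem e b)

/-- Elements satisfying the relations used to identify a group of Hall–Janko type. -/
structure Amalgam (e : ↥K.B ≃* A5) (y a' j : G) : Prop where
  yB : ∀ b ∈ K.B, y * b = b * y
  y_norm : y ∈ Subgroup.normalizer (L.T : Set G)
  y3 : y ^ 3 = 1
  y_ne : y ≠ 1
  a_mem : a' ∈ L.T
  a_ne : a' ≠ 1
  a_move : y * a' * y⁻¹ ≠ a'
  a2 : a' * a' = 1
  ay : (a' * y) ^ 3 = 1
  j2 : j * j = 1
  jy : j * y * j⁻¹ = y⁻¹
  jx : j * bOf e xT = bOf e xT * j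
  jw : j * bOf e wT = bOf e wT * j
  aj : (a' * j) ^ 3 = 1
  key : bOf e qT * (j * bOf e q1T * j⁻¹) * (bOf e qT)⁻¹ * (j * bOf e q1T * j⁻¹)⁻¹ * y = 1

theorem IsThree.inv {y : G} (hy : K.IsThree y) : K.IsThree y⁻¹ where
  order := by rw [orderOf_inv, hy.order]
  norm := inv_mem hy.norm
  comm b hb := ((show Commute y b from hy.comm b hb).inv_left).eq
  free t ht h := hy.free t ht (Commute.inv_right_iff.mp (show Commute t y⁻¹ from h)).eq

theorem IsThree.ay_cube {y : G} (hy : K.IsThree y) {t : G} (ht : t ∈ L.T) (ht1 : t ≠ 1) :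
    (t * y) ^ 3 = 1 ∧ y * t * y⁻¹ ≠ t := by
  haveI : Fact (Nat.Prime 2) := ⟨Nat.prime_two⟩
  have hy3 : y ^ 3 = 1 := hy.order ▸ pow_orderOf_eq_one y
  have hconj : ∀ s ∈ L.T, y * s * y⁻¹ ∈ L.T := fun s hs => (Subgroup.mem_normalizer_iff.mp hy.norm s).mp hs
  have hmove : ∀ s ∈ L.T, s ≠ 1 → y * s * y⁻¹ ≠ s := fun s hs hs1 h =>
    hs1 (hy.free s hs (mul_inv_eq_iff_eq_mul.mp h).symm)
  refine ⟨?_, hmove t ht ht1⟩
  set t₁ := y * t * y⁻¹ with ht₁
  set t₂ := y * t₁ * y⁻¹ with ht₂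
  have h1 := hconj t ht
  have h2 := hconj _ h1
  have n1 : t₁ ≠ 1 := fun k => ht1 (conj_eq_one_iff.mp k)
  have e01 : t₁ ≠ t := hmove t ht ht1
  have e12 : t₂ ≠ t₁ := fun k => e01 (mul_left_cancel (mul_right_cancel k))
  have e02 : t₂ ≠ t := fun k => by
    refine hmove t₂ h2 (fun l => n1 (conj_eq_one_iff.mp l)) ?_
    calc y * t₂ * y⁻¹ = y ^ 3 * t * (y ^ 3)⁻¹ := by
          rw [ht₂, ht₁]; simp only [pow_succ, pow_zero, one_mul]; group
      _ = t₂ := by rw [hy3, k]; group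
  have hprod : t * t₁ * t₂ = 1 := by
    have hT4 := L.card_T
    have hsq : ∀ s ∈ L.T, s * s = 1 := fun s hs => S.E_sq L.outside hs.1
    by_contra hne
    let f : Fin 5 → ↥L.T := ![1, ⟨t, ht⟩, ⟨t₁, h1⟩, ⟨t₂, h2⟩, ⟨t * t₁, mul_mem ht h1⟩]
    have hinj : Function.Injective f := by
      have a0 : t * t₁ ≠ 1 := fun k => e01 (by
        calc t₁ = t * (t * t₁) := by rw [← mul_assoc, hsq t ht, one_mul]
          _ = t := by rw [k, mul_one])
      have a1 : t * t₁ ≠ t := fun k => n1 (mul_eq_left.mp k)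
      have a2 : t * t₁ ≠ t₁ := fun k => ht1 (mul_eq_right.mp k)
      have a3 : t * t₁ ≠ t₂ := fun k => hne (by rw [k]; exact hsq t₂ h2)
      have n2 : t₂ ≠ 1 := fun k => n1 (conj_eq_one_iff.mp k)
      intro p q h
      have h' := congrArg Subtype.val h
      fin_cases p <;> fin_cases q <;>
        first
          | rfl
          | (simp [f] at h'; first
              | exact absurd h' ht1 | exact absurd h'.symm ht1 | exact absurd h' n1 | exact absurd h'.symm n1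
              | exact absurd h' n2 | exact absurd h'.symm n2 | exact absurd h' e01 | exact absurd h'.symm e01
              | exact absurd h' e12 | exact absurd h'.symm e12 | exact absurd h' e02 | exact absurd h'.symm e02
              | exact absurd h' a0 | exact absurd h'.symm a0 | exact absurd h' a1 | exact absurd h'.symm a1
              | exact absurd h' a2 | exact absurd h'.symm a2 | exact absurd h' a3 | exact absurd h'.symm a3)
    have := Nat.card_le_card_of_injective f hinj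
    rw [hT4, Nat.card_fin] at this
    omega
  calc (t * y) ^ 3 = t * t₁ * t₂ * y ^ 3 := by
        rw [ht₂, ht₁]; simp only [pow_succ, pow_zero, one_mul]; group
    _ = 1 := by rw [hprod, hy3, one_mul]

theorem exists_amalgam (e : ↥K.B ≃* A5) : ∃ y a' j, Amalgam e y a' j := by
  classical
  haveI : Fact (Nat.Prime 2) := ⟨Nat.prime_two⟩
  haveI : Fact (Nat.Prime 3) := ⟨Nat.prime_three⟩
  haveI : Fact (Nat.Prime 5) := ⟨by decide⟩
  obtain ⟨y, hy⟩ := K.exists_isThree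
  set x := bOf e xT with hx
  set w := bOf e wT with hw
  have hx5 : x ^ 5 = 1 := by rw [hx, ← bOf_pow, five_xw.1, bOf_one]
  have hxo : orderOf x = 5 := orderOf_eq_prime hx5 fun k => five_xw.2.1 (bOf_injective e (k.trans (bOf_one e).symm))
  set M : Subgroup G := Subgroup.centralizer ({x} : Set G) with hM
  obtain ⟨f, hf, hker⟩ : ∃ f : ↥M →* A5, Function.Surjective f ∧ ∀ m, f m = 1 ↔ (m : G) ∈ zpowers x :=
    (K.cent_five_full (bOf_mem e xT) hxo).2.2.2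
  have hxk5 : ∀ {c : G}, c ∈ zpowers x → c ^ 5 = 1 := fun {c} hc => by
    obtain ⟨k, rfl⟩ := mem_zpowers_iff.mp hc
    rw [← zpow_natCast, ← zpow_mul, mul_comm, zpow_mul, zpow_natCast, hx5, one_zpow]
  have hyM : y ∈ M := mem_cent.mpr (hy.comm _ (bOf_mem e _))
  have hTM : ∀ t ∈ L.T, t ∈ M := fun t ht => mem_cent.mpr (bOf_comm_T e ht _)
  have hy3 : y ^ 3 = 1 := hy.order ▸ pow_orderOf_eq_one y
  have hy1 : y ≠ 1 := fun k => by
    have := hy.order
    rw [k, orderOf_one] at this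
    norm_num at this
  have hfy : f ⟨y, hyM⟩ ^ 3 = 1 ∧ f ⟨y, hyM⟩ ≠ 1 := by
    refine ⟨?_, fun k => hy1 (eq_one_of_coprime_orders (m := 5) (n := 3) (by norm_num)
      (hxk5 ((hker _).mp k)) hy3)⟩
    rw [← map_pow]
    convert map_one f using 2
    exact Subtype.ext hy3
  -- `j`
  obtain ⟨w₀, hw₀, hw₀1, hw₀g⟩ := five_three_inverter _ hfy
  obtain ⟨m, hm⟩ := hf w₀
  set jm : ↥M := m ^ 5 with hjm
  set j : G := (jm : G) with hj
  have hfj : f jm = w₀ := by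
    rw [hjm, map_pow, hm, show w₀ ^ 5 = w₀ * w₀ * (w₀ * w₀) * w₀ by simp only [pow_succ, pow_zero, one_mul, mul_assoc], hw₀, one_mul, one_mul]
  have hj2 : j * j = 1 := by
    have h : ((m ^ 2 : ↥M) : G) ^ 5 = 1 := hxk5 ((hker _).mp (by rw [map_pow, hm, pow_two, hw₀]))
    rw [hj, hjm, ← Subgroup.coe_mul, ← pow_add, show 5 + 5 = 2 * 5 by norm_num, pow_mul, SubgroupClass.coe_pow]
    exact h
  have hjy : j * y * j⁻¹ = y⁻¹ := by
    have hc : ((jm * ⟨y, hyM⟩ * jm⁻¹ * ⟨y, hyM⟩ : ↥M) : G) ∈ zpowers x := (hker _).mp (by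
      rw [map_mul, map_mul, map_mul, map_inv, hfj, hw₀g, inv_mul_cancel])
    have hc' : j * y * j⁻¹ * y ∈ zpowers x := hc
    obtain ⟨k, hk⟩ := mem_zpowers_iff.mp hc'
    have hcy : Commute (x ^ k) y⁻¹ :=
      ((show Commute x y from (hy.comm _ (bOf_mem e _)).symm).zpow_left k).inv_right
    have e1 : j * y * j⁻¹ = x ^ k * y⁻¹ := by rw [hk]; group
    have h3 : (x ^ k) ^ 3 = 1 := by
      have h := congrArg (fun v : G => v ^ 3) e1
      simp only [conj_pow, hcy.mul_pow, hy3, inv_pow, inv_one, mul_one, mul_inv_cancel] at h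
      exact h.symm
    rw [e1, eq_one_of_coprime_orders (m := 5) (n := 3) (by norm_num) (hxk5 (zpow_mem_zpowers x k)) h3,
      one_mul]
  have hjx : j * x = x * j := mem_cent.mp jm.2
  -- `w` commutes with `j`
  have hwx : w * x * w⁻¹ = x⁻¹ := by
    rw [hw, hx, ← bOf_inv, ← bOf_mul, ← bOf_mul, five_xw.2.2.2.2.1, bOf_inv]
  have hw2 : w * w = 1 := by rw [hw, ← bOf_mul, five_xw.2.2.1, bOf_one]
  have hwM : ∀ c ∈ M, w * c * w⁻¹ ∈ M := fun c hc => by
    have h : Commute (w * c * w⁻¹) (w * x * w⁻¹) := Commute.conj_iff (h := w) |>.mpr (mem_cent.mp hc)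
    rw [hwx] at h
    exact mem_cent.mpr (Commute.inv_right_iff.mp h).eq
  let cw : ↥M →* ↥M := MonoidHom.mk' (fun c => ⟨w * c * w⁻¹, hwM _ c.2⟩)
    fun p q => Subtype.ext (by show w * ((p : G) * q) * w⁻¹ = (w * p * w⁻¹) * (w * q * w⁻¹); group)
  have hle : f.ker ≤ (f.comp cw).ker := fun c hc => by
    obtain ⟨k, hk⟩ := mem_zpowers_iff.mp ((hker c).mp hc)
    refine (hker _).mpr ?_
    show w * (c : G) * w⁻¹ ∈ zpowers x
    rw [← hk, ← conj_zpow, hwx]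
    exact zpow_mem (inv_mem (mem_zpowers x)) k
  let σ₀ : A5 →* A5 := f.liftOfSurjective hf ⟨f.comp cw, hle⟩
  have hσ₀ : ∀ c, σ₀ (f c) = f (cw c) := fun c => MonoidHom.liftOfRightInverse_comp_apply _ _ _ _ c
  have hσs : Function.Surjective σ₀ := fun b => by
    obtain ⟨c, rfl⟩ := hf b
    refine ⟨f (cw c), ?_⟩
    rw [hσ₀]
    refine congrArg f (Subtype.ext ?_)
    show w * (w * (c : G) * w⁻¹) * w⁻¹ = c
    rw [inv_of_sq hw2, ← mul_assoc, ← mul_assoc, hw2, one_mul, mul_assoc, hw2, mul_one]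
  let σ : A5 ≃* A5 := MulEquiv.ofBijective σ₀ ⟨Finite.injective_iff_surjective.mpr hσs, hσs⟩
  have hfix : ∀ c : ↥M, Commute w (c : G) → σ (f c) = f c := fun c hc => by
    show σ₀ (f c) = f c
    rw [hσ₀]
    refine congrArg f (Subtype.ext ?_)
    show w * (c : G) * w⁻¹ = c
    rw [hc.eq, mul_inv_cancel_right]
  have hfT : ∀ t (ht : t ∈ L.T), f ⟨t, hTM t ht⟩ = 1 → t = 1 := fun t ht h =>
    K.T_inf_B ht (zpowers_le.mpr (bOf_mem e xT) ((hker _).mp h))
  have haT : a ∈ L.T := L.a_mem_T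
  have ha1 : a ≠ 1 := L.outside.isInv.2
  set a₁ := y * a * y⁻¹ with ha₁
  have ha₁T : a₁ ∈ L.T := (Subgroup.mem_normalizer_iff.mp hy.norm a).mp haT
  have hmove : a₁ ≠ a := (hy.ay_cube haT ha1).2
  have hsq : ∀ t ∈ L.T, t * t = 1 := fun t ht => S.E_sq L.outside ht.1
  set A := f ⟨a, hTM a haT⟩ with hA
  set Y := f ⟨y, hyM⟩ with hY
  have hA₁ : f ⟨a₁, hTM a₁ ha₁T⟩ = Y * A * Y⁻¹ := by
    rw [hA, hY, ← map_inv, ← map_mul, ← map_mul]
    exact congrArg f (Subtype.ext rfl)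
  have hAd : A * A = 1 ∧ A ≠ 1 ∧ Y * A * Y⁻¹ ≠ A ∧ A * (Y * A * Y⁻¹) = Y * A * Y⁻¹ * A := by
    refine ⟨?_, fun k => ha1 (hfT a haT k), fun k => hmove ?_, ?_⟩
    · rw [hA, ← map_mul]
      convert map_one f using 2
      exact Subtype.ext (hsq a haT)
    · rw [← hA₁, hA] at k
      have h := hfT (a⁻¹ * a₁) (mul_mem (inv_mem haT) ha₁T) (by
        rw [show (⟨a⁻¹ * a₁, hTM _ (mul_mem (inv_mem haT) ha₁T)⟩ : ↥M) =
          ⟨a, hTM a haT⟩⁻¹ * ⟨a₁, hTM a₁ ha₁T⟩ from rfl, map_mul, map_inv, k, inv_mul_cancel])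
      exact (inv_mul_eq_one.mp h).symm
    · rw [← hA₁, hA, ← map_mul, ← map_mul]
      exact congrArg f (Subtype.ext (S.E_comm L.outside haT.1 ha₁T.1))
  have hσid : ∀ b, σ b = b := fun b =>
    aut_fix (MulEquiv.refl A5) σ (w := A) (v := Y * A * Y⁻¹) (y := Y) ⟨hAd.1, hAd.2.1⟩
      ⟨by rw [show Y * A * Y⁻¹ * (Y * A * Y⁻¹) = Y * (A * A) * Y⁻¹ by group, hAd.1, mul_one,
        mul_inv_cancel], fun k => hAd.2.1 (conj_eq_one_iff.mp k)⟩
      hAd.2.2.1 hAd.2.2.2.symm (by rw [← pow_two, ← pow_succ]; exact hfy.1) hfy.2 (.inl rfl)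
      (hfix _ (bOf_comm_T e haT _).symm) (by
        rw [← hA₁]; exact hfix _ (bOf_comm_T e ha₁T _).symm)
      (hfix _ (hy.comm _ (bOf_mem e _)).symm) b
  have hjw : j * w = w * j := by
    have hd : ((cw jm * jm⁻¹ : ↥M) : G) ∈ zpowers x := (hker _).mp (by
      rw [map_mul, map_inv, ← hσ₀]
      exact mul_inv_eq_one.mpr (hσid _))
    have hd' : w * j * w⁻¹ * j⁻¹ ∈ zpowers x := hd
    obtain ⟨k, hk⟩ := mem_zpowers_iff.mp hd'
    have e1 : w * j * w⁻¹ = x ^ k * j := by rw [hk]; group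
    have hc : Commute (x ^ k) j := (show Commute x j from hjx.symm).zpow_left k
    have h2 : (x ^ k) ^ 2 = 1 := by
      have h : (w * j * w⁻¹) * (w * j * w⁻¹) = 1 := by
        rw [show w * j * w⁻¹ * (w * j * w⁻¹) = w * (j * j) * w⁻¹ by group, hj2, mul_one, mul_inv_cancel]
      rw [e1, mul_assoc, ← mul_assoc j, ← hc.eq, mul_assoc (x ^ k) j j, hj2, mul_one] at h
      rw [pow_two]; exact h
    rw [eq_one_of_coprime_orders (m := 2) (n := 5) (by norm_num) h2 (hxk5 (zpow_mem_zpowers x k)),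
      one_mul] at e1
    exact (mul_inv_eq_iff_eq_mul.mp e1).symm
  -- the choice of `a'`
  obtain ⟨a', ha'T, ha'1, ha'⟩ : ∃ a', ∃ h : a' ∈ L.T, a' ≠ 1 ∧ (f ⟨a', hTM a' h⟩ * w₀) ^ 3 = 1 := by
    have hyi : y⁻¹ * a * y ∈ L.T := by
      simpa using (Subgroup.mem_normalizer_iff.mp (inv_mem hy.norm) a).mp haT
    rcases five_pick Y hfy w₀ ⟨hw₀, hw₀1, hw₀g⟩ A hAd with h | h | h
    · exact ⟨a, haT, ha1, h⟩
    · exact ⟨a₁, ha₁T, fun k => ha1 (conj_eq_one_iff.mp k), by rw [hA₁]; exact h⟩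
    · refine ⟨y⁻¹ * a * y, hyi, fun k => ha1 ?_, ?_⟩
      · calc a = y * (y⁻¹ * a * y) * y⁻¹ := by group
          _ = 1 := by rw [k, mul_one, mul_inv_cancel]
      · rw [hA, hY, ← map_inv, ← map_mul, ← map_mul] at h
        exact h
  have haj : (a' * j) ^ 3 = 1 := by
    have hd : (((⟨a', hTM a' ha'T⟩ * jm) ^ 3 : ↥M) : G) ∈ zpowers x :=
      (hker _).mp (by rw [map_pow, map_mul, hfj]; exact ha')
    have hd' : (a' * j) ^ 3 ∈ zpowers x := hd
    obtain ⟨k, hk⟩ := mem_zpowers_iff.mp hd'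
    have hc : Commute w ((a' * j) ^ 3) :=
      ((show Commute w a' from (bOf_comm_T e ha'T _).symm).mul_right hjw.symm).pow_right 3
    have h2 : (x ^ k) ^ 2 = 1 := by
      have h : x ^ k = x⁻¹ ^ k := by
        rw [← hwx, conj_zpow, hk, hc.eq, mul_inv_cancel_right]
      rw [pow_two]
      nth_rw 1 [h]
      rw [inv_zpow, inv_mul_cancel]
    rw [← hk]
    exact eq_one_of_coprime_orders (m := 2) (n := 5) (by norm_num) h2 (hxk5 (zpow_mem_zpowers x k))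
  obtain ⟨P₀, F⟩ := hy.exists_frame
  rcases F.commutator_eq e hj2 hjy hjx hjw with h | h
  · -- replace `y` by `y⁻¹`
    refine ⟨y⁻¹, a', j, ?_⟩
    exact ⟨hy.inv.comm, hy.inv.norm, by rw [inv_pow, hy3, inv_one], inv_ne_one.mpr hy1, ha'T, ha'1,
      (hy.inv.ay_cube ha'T ha'1).2, hsq a' ha'T, (hy.inv.ay_cube ha'T ha'1).1, hj2,
      by rw [← conj_inv, hjy], hjx, hjw, haj, by rw [h, mul_inv_cancel]⟩
  · exact ⟨y, a', j, hy.comm, hy.norm, hy3, hy1, ha'T, ha'1, (hy.ay_cube ha'T ha'1).2, hsq a' ha'T,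
      (hy.ay_cube ha'T ha'1).1, hj2, hjy, hjx, hjw, haj, by rw [h, inv_mul_cancel]⟩

end Setup.Local.Factor

end Cfsg.Agent.HallJankoType
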