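import Cfsg.Agent.Lib.HallJankoType.Second

/-!
A group of Hall–Janko type has exactly two classes of involutions; the Sylow 2-subgroup of the
centralizer of an involution of the second class is elementary abelian of order 16.
-/

set_option autoImplicit false
set_option linter.style.haveILetI false
set_option linter.unusedSectionVars false

namespace Cfsg.Agent.HallJankoType

open Cfsg.Agent.JankoOrder (Inv inv_iff_orderOf)
open Subgroup

universe u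

local notation "A5" => alternatingGroup (Fin 5)

namespace Setup

variable {G : Type u} [Group G] (S : Setup G) [Finite G] {a : G}

/-- `C(z) ∩ C(a)`. -/
abbrev E (a : G) : Subgroup G := S.C ⊓ Subgroup.centralizer ({a} : Set G)

/-- An involution outside the class of `z` lies, up to conjugation, in `C ∖ Q`. -/
theorem outside_of_not_conj {v : G} (hv : Inv v) (hvC : v ∈ S.C) (h : ¬ IsConj S.z v) :
    S.Outside v :=
  ⟨hvC, fun hq => h (S.isConj_z_of_mem_Q hq hv), hv.1⟩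

theorem exists_outside_conj {x : G} (hx : Inv x) (h : ¬ IsConj S.z x) :
    (∃ a, S.Outside a ∧ ¬ IsConj S.z a ∧ IsConj x a) ∨
      ∃ a, S.Outside a ∧ ¬ IsConj S.z a ∧ x * a = a * x := by
  have heven : Even (orderOf (S.z * x)) := by
    rw [← Nat.not_odd_iff_even]
    intro hodd
    obtain ⟨d, -, hd⟩ := Involution.exists_conj_pair_of_odd S.zz hx.1 hodd
    exact h (isConj_iff.mpr ⟨d, hd⟩)
  obtain ⟨hw, hwz, hwx⟩ := Involution.half_power_facts S.zz hx.1 heven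
  set w := (S.z * x) ^ (orderOf (S.z * x) / 2)
  have hwi : Inv w := inv_iff_orderOf.mpr hw
  by_cases hc : IsConj S.z w
  · left
    obtain ⟨g, hg⟩ := isConj_iff.mp hc.symm
    have hxa : IsConj x (g * x * g⁻¹) := isConj_iff.mpr ⟨g, rfl⟩
    have hnc : ¬ IsConj S.z (g * x * g⁻¹) := fun k => h (k.trans hxa.symm)
    refine ⟨_, S.outside_of_not_conj (conj_inv_iff hxa hx) (mem_cent.mpr ?_) hnc, hnc, hxa⟩
    rw [← hg]
    calc g * x * g⁻¹ * (g * w * g⁻¹) = g * (x * w) * g⁻¹ := by group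
      _ = g * (w * x) * g⁻¹ := by rw [hwx.eq.symm]
      _ = g * w * g⁻¹ * (g * x * g⁻¹) := by group
  · exact .inr ⟨w, S.outside_of_not_conj hwi (mem_cent.mpr hwz.eq) hc, hc, hwx.eq.symm⟩

theorem not_conj_outside (ha : S.Outside a) : ¬ IsConj S.z a := by
  obtain ⟨x, y, hx, hy, hxy⟩ := S.two_classes
  obtain ⟨v, hv, hvz⟩ : ∃ v : G, Inv v ∧ ¬ IsConj S.z v := by
    by_cases h : IsConj S.z x
    · exact ⟨y, inv_iff_orderOf.mpr hy, fun k => hxy (h.symm.trans k)⟩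
    · exact ⟨x, inv_iff_orderOf.mpr hx, h⟩
  obtain ⟨b, hb, hbz⟩ : ∃ b, S.Outside b ∧ ¬ IsConj S.z b := by
    rcases S.exists_outside_conj hv hvz with ⟨b, hb, hbz, -⟩ | ⟨b, hb, hbz, -⟩ <;> exact ⟨b, hb, hbz⟩
  obtain ⟨c, -, e⟩ := S.conj_outside ha hb
  exact fun k => hbz (k.trans (isConj_iff.mpr ⟨c, e⟩))

theorem exists_outside : ∃ a, S.Outside a := by
  obtain ⟨x, y, hx, hy, hxy⟩ := S.two_classes
  obtain ⟨v, hv, hvz⟩ : ∃ v : G, Inv v ∧ ¬ IsConj S.z v := by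
    by_cases h : IsConj S.z x
    · exact ⟨y, inv_iff_orderOf.mpr hy, fun k => hxy (h.symm.trans k)⟩
    · exact ⟨x, inv_iff_orderOf.mpr hx, h⟩
  rcases S.exists_outside_conj hv hvz with ⟨b, hb, -⟩ | ⟨b, hb, -⟩ <;> exact ⟨b, hb⟩

theorem a_mem_E (ha : S.Outside a) : a ∈ S.E a := ⟨ha.mem, mem_cent.mpr rfl⟩

theorem mem_E {x : G} : x ∈ S.E a ↔ x ∈ S.C ∧ x * a = a * x :=
  ⟨fun h => ⟨h.1, mem_cent.mp h.2⟩, fun h => ⟨h.1, mem_cent.mpr h.2⟩⟩

/-- For each noncentral involution of `Q` centralised by `a` some element of `C(a)` moves it to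
`z` and normalises `E`. -/
theorem exists_shift (ha : S.Outside a) {f : G} (hf : f ∈ S.Q) (hfa : f * a = a * f)
    (hfz : ¬ S.Zp f) : ∃ g : G, g * a = a * g ∧ g * f * g⁻¹ = S.z ∧
      ∀ x, x ∈ S.E a → g * x * g⁻¹ ∈ S.E a := by
  obtain ⟨u, hu, hu2, huz, hua, hiff⟩ := S.exists_core ha
  have h4 := (hiff f hf).mp hfa
  have hf2 : f * f = 1 := by
    rcases h4 with h | h
    · exact Zp.sq S h
    · have e : f = f * u * u := by rw [mul_assoc, hu2, mul_one]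
      rw [e]
      calc f * u * u * (f * u * u) = f * u * (u * (f * u)) * u := by group
        _ = f * u * ((f * u) * u) * u := by rw [Zp.comm S h (S.Q_le hu)]
        _ = (f * u) * (f * u) * (u * u) := by group
        _ = 1 := by rw [Zp.sq S h, hu2, mul_one]
  have hfi : Inv f := ⟨hf2, fun h => hfz (.inl h)⟩
  obtain ⟨g₀, hg₀⟩ := isConj_iff.mp (S.isConj_z_of_mem_Q hf hfi).symm
  have hconj : IsConj a (g₀ * a * g₀⁻¹) := isConj_iff.mpr ⟨g₀, rfl⟩
  have ha' : S.Outside (g₀ * a * g₀⁻¹) := by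
    refine S.outside_of_not_conj (conj_inv_iff hconj ha.isInv) (mem_cent.mpr ?_)
      fun k => S.not_conj_outside ha (k.trans hconj.symm)
    rw [← hg₀]
    calc g₀ * a * g₀⁻¹ * (g₀ * f * g₀⁻¹) = g₀ * (a * f) * g₀⁻¹ := by group
      _ = g₀ * (f * a) * g₀⁻¹ := by rw [hfa]
      _ = g₀ * f * g₀⁻¹ * (g₀ * a * g₀⁻¹) := by group
  obtain ⟨c, hc, hca⟩ := S.conj_outside ha' ha
  have hga : c * g₀ * a * (c * g₀)⁻¹ = a := by
    calc c * g₀ * a * (c * g₀)⁻¹ = c * (g₀ * a * g₀⁻¹) * c⁻¹ := by group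
      _ = a := hca
  have hgf : c * g₀ * f * (c * g₀)⁻¹ = S.z := by
    calc c * g₀ * f * (c * g₀)⁻¹ = c * (g₀ * f * g₀⁻¹) * c⁻¹ := by group
      _ = S.z := by rw [hg₀, S.z_conj hc]
  refine ⟨c * g₀, mul_inv_eq_iff_eq_mul.mp hga, hgf, fun x hx => ?_⟩
  obtain ⟨hxC, hxa⟩ := S.mem_E.mp hx
  have hxu := S.cent_le_four ha hu hu2 huz hua hiff hxC hxa
  have hxf : x * f = f * x := S.four_comm hf hu2 hxC hxu h4
  set g := c * g₀
  refine S.mem_E.mpr ⟨mem_cent.mpr ?_, ?_⟩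
  · calc g * x * g⁻¹ * S.z = g * x * g⁻¹ * (g * f * g⁻¹) := by rw [hgf]
      _ = g * (x * f) * g⁻¹ := by group
      _ = g * (f * x) * g⁻¹ := by rw [hxf]
      _ = (g * f * g⁻¹) * (g * x * g⁻¹) := by group
      _ = S.z * (g * x * g⁻¹) := by rw [hgf]
  · calc g * x * g⁻¹ * a = g * x * g⁻¹ * (g * a * g⁻¹) := by rw [hga]
      _ = g * (x * a) * g⁻¹ := by group
      _ = g * (a * x) * g⁻¹ := by rw [hxa]
      _ = (g * a * g⁻¹) * (g * x * g⁻¹) := by group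
      _ = a * (g * x * g⁻¹) := by rw [hga]

/-- Elements of `E` mapping into `⟨ψ a⟩` are central in `E`. -/
theorem low_comm (ha : S.Outside a) {x y : G} (hx : x ∈ S.E a) (hy : y ∈ S.E a)
    (h : S.ψ ⟨x, hx.1⟩ = 1 ∨ S.ψ ⟨x, hx.1⟩ = S.ψ ⟨a, ha.mem⟩) : y * x = x * y ∧ x * x = 1 := by
  obtain ⟨u, hu, hu2, huz, hua, hiff⟩ := S.exists_core ha
  obtain ⟨hxC, hxa⟩ := S.mem_E.mp hx
  obtain ⟨hyC, hya⟩ := S.mem_E.mp hy
  have hyu := S.cent_le_four ha hu hu2 huz hua hiff hyC hya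
  have key : ∀ q ∈ S.Q, q * a = a * q → y * q = q * y ∧ q * q = 1 := by
    intro q hq hqa
    have h4 := (hiff q hq).mp hqa
    refine ⟨S.four_comm hq hu2 hyC hyu h4, ?_⟩
    rcases h4 with h | h
    · exact Zp.sq S h
    · have e : q = q * u * u := by rw [mul_assoc, hu2, mul_one]
      rw [e]
      calc q * u * u * (q * u * u) = q * u * (u * (q * u)) * u := by group
        _ = q * u * ((q * u) * u) * u := by rw [Zp.comm S h (S.Q_le hu)]
        _ = (q * u) * (q * u) * (u * u) := by group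
        _ = 1 := by rw [Zp.sq S h, hu2, mul_one]
  rcases h with h | h
  · exact key x ((S.mem_Q_iff hxC).mpr h) hxa
  · have hq : x⁻¹ * a ∈ S.Q := (S.ψ_eq_iff hxC ha.mem).mp h
    have hqa : x⁻¹ * a * a = a * (x⁻¹ * a) := by
      rw [← mul_assoc a, show a * x⁻¹ = x⁻¹ * a by
        rw [eq_inv_mul_iff_mul_eq, ← mul_assoc, hxa, mul_assoc, mul_inv_cancel, mul_one]]
    obtain ⟨h1, h2⟩ := key _ hq hqa
    have e : x = a * (x⁻¹ * a)⁻¹ := by group
    rw [inv_of_sq h2] at e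
    constructor
    · rw [e, ← mul_assoc, hya, mul_assoc, h1, ← mul_assoc]
    · calc x * x = a * (x⁻¹ * a) * (a * (x⁻¹ * a)) := by rw [← e]
        _ = a * ((x⁻¹ * a) * a) * (x⁻¹ * a) := by group
        _ = a * a * ((x⁻¹ * a) * (x⁻¹ * a)) := by rw [hqa]; group
        _ = 1 := by rw [ha.sq, h2, one_mul]

theorem E_comm (ha : S.Outside a) {x y : G} (hx : x ∈ S.E a) (hy : y ∈ S.E a) : x * y = y * x := by
  by_cases h : S.ψ ⟨x, hx.1⟩ = 1 ∨ S.ψ ⟨x, hx.1⟩ = S.ψ ⟨a, ha.mem⟩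
  · exact (S.low_comm ha hx hy h).1.symm
  by_cases h' : S.ψ ⟨y, hy.1⟩ = 1 ∨ S.ψ ⟨y, hy.1⟩ = S.ψ ⟨a, ha.mem⟩
  · exact (S.low_comm ha hy hx h').1
  push Not at h h'
  have hψc : ∀ {w : G} (hw : w ∈ S.E a),
      S.ψ ⟨w, hw.1⟩ * S.ψ ⟨a, ha.mem⟩ = S.ψ ⟨a, ha.mem⟩ * S.ψ ⟨w, hw.1⟩ := fun {w} hw => by
    rw [← map_mul, ← map_mul]
    exact congrArg S.ψ (Subtype.ext (S.mem_E.mp hw).2)
  have hm : x⁻¹ * y ∈ S.E a := mul_mem (inv_mem hx) hy
  have h2 : S.ψ ⟨x⁻¹ * y, hm.1⟩ = 1 ∨ S.ψ ⟨x⁻¹ * y, hm.1⟩ = S.ψ ⟨a, ha.mem⟩ := by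
    have e : S.ψ ⟨x⁻¹ * y, hm.1⟩ = (S.ψ ⟨x, hx.1⟩)⁻¹ * S.ψ ⟨y, hy.1⟩ := by
      rw [← map_inv, ← map_mul]; rfl
    rw [e]
    exact five_cent_pair _ ha.ψ_inv _ ⟨hψc hx, h⟩ _ ⟨hψc hy, h'⟩
  have hc := (S.low_comm ha hm hx h2).1
  calc x * y = x * (x * (x⁻¹ * y)) := by group
    _ = x * ((x⁻¹ * y) * x) := by rw [hc]
    _ = y * x := by group

theorem E_sq (ha : S.Outside a) {x : G} (hx : x ∈ S.E a) : x * x = 1 := by
  obtain ⟨u, hu, hu2, huz, hua, hiff⟩ := S.exists_core ha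
  -- all squares other than one coincide
  have hsame : ∀ p ∈ S.E a, ∀ q ∈ S.E a, p * p ≠ 1 → q * q ≠ 1 → p * p = q * q := by
    intro p hp q hq hp1 hq1
    have hnp : ¬ (S.ψ ⟨p, hp.1⟩ = 1 ∨ S.ψ ⟨p, hp.1⟩ = S.ψ ⟨a, ha.mem⟩) := fun h =>
      hp1 (S.low_comm ha hp hp h).2
    have hnq : ¬ (S.ψ ⟨q, hq.1⟩ = 1 ∨ S.ψ ⟨q, hq.1⟩ = S.ψ ⟨a, ha.mem⟩) := fun h =>
      hq1 (S.low_comm ha hq hq h).2
    push Not at hnp hnq
    have hψc : ∀ {w : G} (hw : w ∈ S.E a),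
        S.ψ ⟨w, hw.1⟩ * S.ψ ⟨a, ha.mem⟩ = S.ψ ⟨a, ha.mem⟩ * S.ψ ⟨w, hw.1⟩ := fun {w} hw => by
      rw [← map_mul, ← map_mul]
      exact congrArg S.ψ (Subtype.ext (S.mem_E.mp hw).2)
    have hm : p⁻¹ * q ∈ S.E a := mul_mem (inv_mem hp) hq
    have e : S.ψ ⟨p⁻¹ * q, hm.1⟩ = (S.ψ ⟨p, hp.1⟩)⁻¹ * S.ψ ⟨q, hq.1⟩ := by
      rw [← map_inv, ← map_mul]; rfl
    have h2 := five_cent_pair _ ha.ψ_inv _ ⟨hψc hp, hnp⟩ _ ⟨hψc hq, hnq⟩
    rw [← e] at h2
    obtain ⟨hc, hsq⟩ := S.low_comm ha hm hp h2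
    calc p * p = p * p * ((p⁻¹ * q) * (p⁻¹ * q)) := by rw [hsq, mul_one]
      _ = p * (p * (p⁻¹ * q)) * (p⁻¹ * q) := by group
      _ = p * ((p⁻¹ * q) * p) * (p⁻¹ * q) := by rw [hc]
      _ = q * q := by group
  by_contra hx1
  have hsQ : x * x ∈ S.Q := by
    rw [S.mem_Q_iff (mul_mem hx.1 hx.1), S.ψ_mul hx.1 hx.1]
    refine five_cent_sq _ _ ha.ψ_inv ?_
    rw [← map_mul, ← map_mul]
    exact congrArg S.ψ (Subtype.ext (S.mem_E.mp hx).2)
  have hsa : x * x * a = a * (x * x) := by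
    rw [mul_assoc, (S.mem_E.mp hx).2, ← mul_assoc, (S.mem_E.mp hx).2, mul_assoc]
  by_cases hsz : x * x = S.z
  · obtain ⟨g, -, hgu, hgE⟩ := S.exists_shift ha hu hua huz
    -- `g` is invertible on the finite set `E`
    let f : ↥(S.E a) → ↥(S.E a) := fun e => ⟨g * e * g⁻¹, hgE _ e.2⟩
    have hf : Function.Bijective f := Finite.injective_iff_bijective.mp fun e e' k =>
      Subtype.ext (mul_left_cancel (mul_right_cancel (congrArg Subtype.val k :)))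
    obtain ⟨⟨p, hp⟩, hpe⟩ := hf.2 ⟨x, hx⟩
    have hp' : g * p * g⁻¹ = x := congrArg Subtype.val hpe
    have hpp : g * (p * p) * g⁻¹ = g * u * g⁻¹ := by
      rw [hgu, ← hsz, ← hp']; group
    have hpu : p * p = u := mul_left_cancel (mul_right_cancel hpp)
    refine huz (.inr ?_)
    rw [← hpu, ← hsz]
    exact (hsame x hx p hp hx1 (by rw [hpu]; exact fun k => huz (.inl k))).symm
  · obtain ⟨g, -, hgs, hgE⟩ := S.exists_shift ha hsQ hsa (fun h => h.elim hx1 hsz)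
    have e : g * x * g⁻¹ * (g * x * g⁻¹) = S.z := by rw [← hgs]; group
    refine hsz ?_
    rw [← e]
    exact hsame x hx _ (hgE x hx) hx1 (by rw [e]; exact S.z_ne_one)

/-- The class of `z` in `E`. -/
theorem conj_z_iff_of_mem_E (ha : S.Outside a) {x : G} (hx : x ∈ S.E a) (hx1 : x ≠ 1) :
    IsConj S.z x ↔ x ∈ S.Q := by
  refine ⟨fun h => ?_, fun h => S.isConj_z_of_mem_Q h ⟨S.E_sq ha hx, hx1⟩⟩
  by_contra hq
  exact S.not_conj_outside ⟨hx.1, hq, S.E_sq ha hx⟩ h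

/-- `E` is a Sylow 2-subgroup of `C(a)`. -/
theorem E_maximal (ha : S.Outside a) {P : Subgroup G} (hP : IsPGroup 2 ↥P)
    (hPa : P ≤ Subgroup.centralizer ({a} : Set G)) (hEP : S.E a ≤ P) : P = S.E a := by
  haveI : Fact (Nat.Prime 2) := ⟨Nat.prime_two⟩
  by_contra hne
  have hlt : (S.E a).subgroupOf P < ⊤ :=
    lt_top_iff_ne_top.mpr fun h => hne (le_antisymm (Subgroup.subgroupOf_eq_top.mp h) hEP)
  haveI : Group.IsNilpotent P := hP.isNilpotent
  obtain ⟨n, hnN, hnE⟩ :=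
    SetLike.exists_of_lt (Group.normalizerCondition_of_isNilpotent _ hlt)
  have hnE' : (n : G) ∉ S.E a := fun h => hnE (Subgroup.mem_subgroupOf.mpr h)
  have hna : (n : G) * a = a * n := mem_cent.mp (hPa n.2)
  have hconj : ∀ x ∈ S.E a, (n : G) * x * (n : G)⁻¹ ∈ S.E a := fun x hx =>
    Subgroup.mem_subgroupOf.mp ((Subgroup.mem_normalizer_iff.mp hnN ⟨x, hEP hx⟩).mp
      (Subgroup.mem_subgroupOf.mpr hx))
  obtain ⟨u, hu, hu2, huz, hua, hiff⟩ := S.exists_core ha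
  -- the three conjugates of `z` in `E`
  have hzE : S.z ∈ S.E a := S.mem_E.mpr ⟨S.z_mem_C, (S.z_comm ha.mem).symm⟩
  have hthree : ∀ x ∈ S.E a, x ≠ 1 → x ∈ S.Q → x = S.z ∨ x = u ∨ x = S.z * u := by
    intro x hx hx1 hxQ
    rcases (hiff x hxQ).mp (S.mem_E.mp hx).2 with (h | h) | (h | h)
    · exact absurd h hx1
    · exact .inl h
    · exact .inr (.inl (by rw [eq_inv_of_mul_eq_one_left h, inv_of_sq hu2]))
    · exact .inr (.inr (by rw [← h, mul_assoc, hu2, mul_one]))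
  have hmapQ : ∀ x ∈ S.E a, x ≠ 1 → x ∈ S.Q →
      (n : G) * x * (n : G)⁻¹ ∈ S.Q ∧ (n : G) * x * (n : G)⁻¹ ≠ 1 := by
    intro x hx hx1 hxQ
    have h1 : (n : G) * x * (n : G)⁻¹ ≠ 1 := fun k => hx1 (conj_eq_one_iff.mp k)
    exact ⟨(S.conj_z_iff_of_mem_E ha (hconj x hx) h1).mp
      (((S.conj_z_iff_of_mem_E ha hx hx1).mpr hxQ).trans (isConj_iff.mpr ⟨n, rfl⟩)), h1⟩
  have huE : u ∈ S.E a := S.mem_E.mpr ⟨S.Q_le hu, hua⟩
  have hfixz : ∀ m : G, m * a = a * m → m * S.z * m⁻¹ = S.z → m ∈ S.E a := fun m hm h =>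
    S.mem_E.mpr ⟨mem_cent.mpr (mul_inv_eq_iff_eq_mul.mp h), hm⟩
  -- no fixed point
  have hnofix : ∀ x ∈ S.E a, x ≠ 1 → x ∈ S.Q → (n : G) * x * (n : G)⁻¹ ≠ x := by
    intro x hx hx1 hxQ hfix
    rcases hthree x hx hx1 hxQ with rfl | hx'
    · exact hnE' (hfixz _ hna hfix)
    have hxz : ¬ S.Zp x := by
      rintro (h | h)
      · exact hx1 h
      · rcases hx' with e | e <;> rw [h] at e
        · exact huz (.inr e.symm)
        · exact huz (.inl (by simpa using e.symm))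
    obtain ⟨g, hga, hgx, hgE⟩ := S.exists_shift ha hxQ (S.mem_E.mp hx).2 hxz
    have hga' : g⁻¹ * a = a * g⁻¹ := by
      rw [inv_mul_eq_iff_eq_mul, ← mul_assoc, hga, mul_inv_cancel_right]
    have hm : g * n * g⁻¹ ∈ S.E a := hfixz _ (by
        rw [mul_assoc, hga', ← mul_assoc, mul_assoc g, hna, ← mul_assoc, hga, mul_assoc a,
          mul_assoc a]) (by
      calc g * n * g⁻¹ * S.z * (g * n * g⁻¹)⁻¹
          = g * ((n : G) * (g⁻¹ * S.z * g) * (n : G)⁻¹) * g⁻¹ := by group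
        _ = g * ((n : G) * x * (n : G)⁻¹) * g⁻¹ := by rw [← hgx]; group
        _ = S.z := by rw [hfix, hgx])
    let f : ↥(S.E a) → ↥(S.E a) := fun e => ⟨g * e * g⁻¹, hgE _ e.2⟩
    have hf : Function.Bijective f := Finite.injective_iff_bijective.mp fun e e' k =>
      Subtype.ext (mul_left_cancel (mul_right_cancel (congrArg Subtype.val k :)))
    obtain ⟨⟨p, hp⟩, hpe⟩ := hf.2 ⟨_, hm⟩
    have hp' : g * p * g⁻¹ = g * n * g⁻¹ := congrArg Subtype.val hpe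
    exact hnE' (mul_left_cancel (mul_right_cancel hp') ▸ hp)
  -- a 2-element permuting three points without fixed point
  classical
  let X := {x : G // x ∈ S.E a ∧ x ≠ 1 ∧ x ∈ S.Q}
  have hXcard : Nat.card X = 3 := by
    have e : {x : G | x ∈ S.E a ∧ x ≠ 1 ∧ x ∈ S.Q} = (({S.z, u, S.z * u} : Finset G) : Set G) := by
      ext x
      simp only [Set.mem_ofPred_eq, Finset.coe_insert, Finset.coe_singleton, Set.mem_insert_iff,
        Set.mem_singleton_iff]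
      refine ⟨fun h => hthree x h.1 h.2.1 h.2.2, ?_⟩
      rintro (rfl | rfl | rfl)
      · exact ⟨hzE, S.z_ne_one, S.z_mem_Q⟩
      · exact ⟨huE, fun h => huz (.inl h), hu⟩
      · refine ⟨mul_mem hzE huE, fun h => huz (.inr ?_), mul_mem S.z_mem_Q hu⟩
        rw [eq_inv_of_mul_eq_one_right h, inv_of_sq S.zz]
    show Nat.card ↥{x : G | x ∈ S.E a ∧ x ≠ 1 ∧ x ∈ S.Q} = 3
    rw [Nat.card_coe_set_eq, e, Set.ncard_coe_finset,
      Finset.card_insert_of_notMem (by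
        simp only [Finset.mem_insert, Finset.mem_singleton, not_or]
        exact ⟨fun h => huz (.inr h.symm), fun h => huz (.inl (by simpa using h))⟩),
      Finset.card_pair (fun h => S.z_ne_one (right_eq_mul.mp h))]
  let σ : Equiv.Perm X := Equiv.ofBijective
    (fun x => ⟨(n : G) * x.1 * (n : G)⁻¹, hconj _ x.2.1, (hmapQ _ x.2.1 x.2.2.1 x.2.2.2).2,
      (hmapQ _ x.2.1 x.2.2.1 x.2.2.2).1⟩)
    (Finite.injective_iff_bijective.mp fun e e' k =>
      Subtype.ext (mul_left_cancel (mul_right_cancel (congrArg Subtype.val k :))))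
  obtain ⟨i, hi⟩ := hP n
  have hni : (n : G) ^ 2 ^ i = 1 := congrArg Subtype.val hi
  have hσ : ∀ (m : ℕ) (x : X), (((σ ^ m) x : X) : G) = (n : G) ^ m * x.1 * ((n : G) ^ m)⁻¹ := by
    intro m
    induction m with
    | zero => intro x; simp
    | succ m ih =>
      intro x
      rw [pow_succ', Equiv.Perm.mul_apply]
      show (n : G) * (((σ ^ m) x : X) : G) * (n : G)⁻¹ = _
      rw [ih, pow_succ' (n : G)]; group
  haveI : Fintype X := Fintype.ofFinite X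
  have hσ2 : σ ^ 2 ^ i = 1 := Equiv.ext fun x => Subtype.ext (by
    rw [hσ, hni]; simp)
  have hsupp : σ.support = Finset.univ := Finset.eq_univ_of_forall fun x =>
    Equiv.Perm.mem_support.mpr fun k => hnofix x.1 x.2.1 x.2.2.1 x.2.2.2 (congrArg Subtype.val k)
  have hcyc : σ.IsThreeCycle := card_support_eq_three_iff.mp (by
    rw [hsupp, Finset.card_univ, ← Nat.card_eq_fintype_card, hXcard])
  have h3 : 3 ∣ 2 ^ i := hcyc.orderOf ▸ orderOf_dvd_of_pow_eq_one hσ2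
  exact absurd (Nat.Prime.dvd_of_dvd_pow Nat.prime_three h3) (by norm_num)

/-- There are exactly two classes of involutions. -/
theorem two_conj_classes (ha : S.Outside a) {x : G} (hx : Inv x) : IsConj S.z x ∨ IsConj a x := by
  by_cases h : IsConj S.z x
  · exact .inl h
  right
  rcases S.exists_outside_conj hx h with ⟨b, hb, -, hxb⟩ | ⟨b, hb, -, hxb⟩
  · obtain ⟨c, -, e⟩ := S.conj_outside ha hb
    exact (isConj_iff.mpr ⟨c, e⟩ : IsConj a b).trans hxb.symm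
  · haveI : Fact (Nat.Prime 2) := ⟨Nat.prime_two⟩
    set D : Subgroup G := Subgroup.centralizer ({b} : Set G) with hD
    have hED : S.E b ≤ D := inf_le_right
    have hEp : IsPGroup 2 ↥((S.E b).subgroupOf D) := by
      refine IsPGroup.of_card (n := 4) ?_
      rw [Nat.card_congr (Subgroup.subgroupOfEquivOfLe hED).toEquiv, S.card_cent_C_outside hb]
      norm_num
    obtain ⟨P, hP⟩ := hEp.exists_le_sylow
    have hPE : (P : Subgroup ↥D).map D.subtype = S.E b := by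
      refine S.E_maximal hb (P.2.map _) (Subgroup.map_subtype_le _) ?_
      intro e he
      exact ⟨⟨e, hED he⟩, hP (Subgroup.mem_subgroupOf.mpr he), rfl⟩
    have hxp : IsPGroup 2 ↥(zpowers (⟨x, mem_cent.mpr hxb⟩ : ↥D)) := by
      refine IsPGroup.of_card (n := 1) ?_
      rw [Nat.card_zpowers, ← Subgroup.orderOf_coe, pow_one]
      exact inv_iff_orderOf.mp hx
    obtain ⟨T, hT⟩ := hxp.exists_le_sylow
    obtain ⟨g, hg⟩ := MulAction.exists_smul_eq ↥D T P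
    have hgx : (g : G) * x * (g : G)⁻¹ ∈ S.E b := by
      rw [← hPE]
      refine ⟨g * ⟨x, mem_cent.mpr hxb⟩ * g⁻¹, ?_, rfl⟩
      rw [← hg, Sylow.coe_subgroup_smul]
      exact ⟨_, hT (mem_zpowers _), rfl⟩
    have hxg : IsConj x ((g : G) * x * (g : G)⁻¹) := isConj_iff.mpr ⟨g, rfl⟩
    have ho := S.outside_of_not_conj (conj_inv_iff hxg hx) hgx.1 fun k => h (k.trans hxg.symm)
    obtain ⟨c, -, e⟩ := S.conj_outside ha ho
    exact (isConj_iff.mpr ⟨c, e⟩ : IsConj a _).trans hxg.symm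

end Setup

end Cfsg.Agent.HallJankoType
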