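import Cfsg.Agent.Lib.HallJankoType.Hypotheses

/-!
From a `Setup` back to the hypotheses of the Hall–Janko type statements.
-/

set_option autoImplicit false

namespace Cfsg.Agent.HallJankoType

open Subgroup

universe u

local notation "A5" => alternatingGroup (Fin 5)

/-- A property known under the statements' hypotheses holds for every `Setup`. -/
theorem Setup.elim {G : Type u} [Group G] [Finite G] {P : Prop} (S : Setup G)
    (h : ∀ (z : G), orderOf z = 2 → ∀ (Q : Subgroup (Subgroup.centralizer ({z} : Set G))) [Q.Normal],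
      Cfsg.generalizedFittingSubgroup (Subgroup.centralizer ({z} : Set G)) = Q →
      Cfsg.IsExtraspecial 2 Q → Nat.card Q = 2 ^ 5 →
      ((Subgroup.centralizer ({z} : Set G)) ⧸ Q ≃*
        Cfsg.Omega (ZMod 2) (Cfsg.quadFormMinus 1 (ZMod 2) 1 1)) →
      (∃ g : G, (∃ hq : g * z * g⁻¹ ∈ Subgroup.centralizer ({z} : Set G),
        (⟨g * z * g⁻¹, hq⟩ : Subgroup.centralizer ({z} : Set G)) ∈ Q) ∧ g * z * g⁻¹ ≠ z) →
      (∃ x y : G, orderOf x = 2 ∧ orderOf y = 2 ∧ ¬ IsConj x y) → P) : P := by
  let QC : Subgroup ↥(Subgroup.centralizer ({S.z} : Set G)) := S.Q.subgroupOf _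
  have hker : QC = S.ψ.ker := by
    ext x; rw [MonoidHom.mem_ker, S.ψ_ker]; rfl
  have : QC.Normal := hker ▸ inferInstance
  let eQ : ↥QC ≃* ↥S.Q := Subgroup.subgroupOfEquivOfLe S.Q_le
  have hQ : Cfsg.IsExtraspecial 2 QC := TI.isExtraspecial_congr eQ.symm S.extra
  have : Fact (Nat.Prime 2) := ⟨Nat.prime_two⟩
  have : Group.IsNilpotent QC := hQ.1.1.isNilpotent
  have hcent : Subgroup.centralizer (QC : Set ↥(Subgroup.centralizer ({S.z} : Set G))) ≤ QC :=
    fun x hx => mem_subgroupOf.mpr (S.self x x.2 fun q hq =>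
      (congrArg Subtype.val (mem_centralizer_iff.mp hx ⟨q, S.Q_le hq⟩ (mem_subgroupOf.mpr hq))).symm)
  have hF : Cfsg.generalizedFittingSubgroup ↥(Subgroup.centralizer ({S.z} : Set G)) = QC := by
    refine le_antisymm (sup_le (sSup_le fun K hK => ?_) ?_)
      ((Components.le_fittingSubgroup ‹QC.Normal›).trans le_sup_right)
    · rcases Components.IsComponent.le_or_commutator_eq_bot_of_normal hK QC with e | e
      · exact e
      · exact (commutator_eq_bot_iff_le_centralizer.mp e).trans hcent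
    · have hn : ((Cfsg.fittingSubgroup ↥(Subgroup.centralizer ({S.z} : Set G))).map S.ψ).Normal :=
        (Components.fittingSubgroup_normal _).map _ S.ψ_surj
      rcases hn.eq_bot_or_eq_top with e | e
      · rw [hker]; exact (Subgroup.map_eq_bot_iff _).mp e
      · exfalso
        have hnil : Group.IsNilpotent ↥((Cfsg.fittingSubgroup ↥(Subgroup.centralizer ({S.z} : Set G))).map S.ψ) :=
          Group.nilpotent_of_surjective _ (S.ψ.subgroupMap_surjective _)
        rw [e] at hnil
        have : Group.IsNilpotent A5 := Group.nilpotent_of_surjective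
          (Subgroup.topEquiv (G := A5)).toMonoidHom (Subgroup.topEquiv (G := A5)).surjective
        have hp : Group.IsPerfect A5 := ⟨commutator_alternatingGroup_eq_top (by simp)⟩
        exact Group.IsPerfect.not_isSolvable A5 inferInstance
  obtain ⟨eA⟩ := omega_iso
  let e : ↥(Subgroup.centralizer ({S.z} : Set G)) ⧸ QC ≃* A5 :=
    (QuotientGroup.quotientMulEquivOfEq hker).trans
      (QuotientGroup.quotientKerEquivOfSurjective S.ψ S.ψ_surj)
  obtain ⟨u, hu, hne, hc⟩ := S.nwc
  obtain ⟨g, hg⟩ := isConj_iff.mp hc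
  exact h S.z S.hz QC hF hQ (by rw [Nat.card_congr eQ.toEquiv, S.card_Q]; rfl) (e.trans eA.symm)
    ⟨g, ⟨hg ▸ S.Q_le hu, mem_subgroupOf.mpr (show g * S.z * g⁻¹ ∈ S.Q from hg.symm ▸ hu)⟩, hg ▸ hne⟩ S.two_classes

end Cfsg.Agent.HallJankoType
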