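import Cfsg.Agent.Lib.HallJankoType.Order
import Mathlib.GroupTheory.Sylow

/-!
Elements of order five of `C(z)`, exclusion of the `A₄` factor, and the order of a group of
Hall–Janko type.
-/

set_option autoImplicit false
set_option linter.style.haveILetI false
set_option linter.unusedSectionVars false

namespace Cfsg.Agent.HallJankoType

open Cfsg.Agent.JankoOrder (Inv inv_iff_orderOf)
open Subgroup

universe u

local notation "A5" => alternatingGroup (Fin 5)

set_option maxRecDepth 8000 in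
theorem five_cent_five : ∀ g : A5, g ^ 5 = 1 ∧ g ≠ 1 → Fintype.card {x : A5 // x * g = g * x} = 5 := by
  decide +kernel

set_option maxRecDepth 8000 in
theorem five_norm_five : ∀ g : A5, g ^ 5 = 1 ∧ g ≠ 1 → Fintype.card {x : A5 //
    x * g * x⁻¹ = g ∨ x * g * x⁻¹ = g ^ 2 ∨ x * g * x⁻¹ = g ^ 3 ∨ x * g * x⁻¹ = g ^ 4} = 10 := by
  decide +kernel

theorem mem_zpowers_five {G : Type*} [Group G] [Finite G] {g w : G} (h5 : orderOf g = 5)
    (hw : w ∈ Subgroup.zpowers g) (hw1 : w ≠ 1) : w = g ∨ w = g ^ 2 ∨ w = g ^ 3 ∨ w = g ^ 4 := by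
  obtain ⟨k, hk⟩ := mem_powers_iff_mem_zpowers.mpr hw
  have hk' : g ^ (k % 5) = w := by rw [← h5, pow_mod_orderOf]; exact hk
  have : k % 5 < 5 := Nat.mod_lt _ (by norm_num)
  interval_cases hj : k % 5
  · exact absurd (hk'.symm.trans (pow_zero g)) hw1
  · exact .inl (hk'.symm.trans (pow_one g))
  · exact .inr (.inl hk'.symm)
  · exact .inr (.inr (.inl hk'.symm))
  · exact .inr (.inr (.inr hk'.symm))

namespace Setup

variable {G : Type u} [Group G] (S : Setup G) [Finite G]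

theorem ψ_five {g : G} (hg : g ∈ S.C) (h5 : orderOf g = 5) :
    S.ψ ⟨g, hg⟩ ^ 5 = 1 ∧ S.ψ ⟨g, hg⟩ ≠ 1 := by
  refine ⟨?_, fun h => ?_⟩
  · rw [← map_pow]
    convert map_one S.ψ using 2
    exact Subtype.ext (by
      show g ^ 5 = 1
      rw [← h5, pow_orderOf_eq_one])
  · have hd := Subgroup.orderOf_dvd_natCard _ ((S.mem_Q_iff hg).mpr h)
    rw [h5, S.card_Q] at hd
    norm_num at hd

/-- The centraliser in `C` of an element of order five of `C` has order 10. -/
theorem card_cent_five {g : G} (hg : g ∈ S.C) (h5 : orderOf g = 5) :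
    Nat.card ↥(S.C ⊓ Subgroup.centralizer ({g} : Set G) : Subgroup G) = 10 := by
  set M := (S.C ⊓ Subgroup.centralizer ({g} : Set G) : Subgroup G) with hM
  have hgM : g ∈ M := Subgroup.mem_inf.mpr ⟨hg, mem_cent.mpr rfl⟩
  have hzM : S.z ∈ M := Subgroup.mem_inf.mpr ⟨S.z_mem_C, mem_cent.mpr (S.z_comm hg).symm⟩
  have h10 : 10 ∣ Nat.card ↥M := by
    have h1 : 5 ∣ Nat.card ↥M := h5 ▸ Subgroup.orderOf_dvd_natCard _ hgM
    have h2 : 2 ∣ Nat.card ↥M := S.hz ▸ Subgroup.orderOf_dvd_natCard _ hzM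
    omega
  let χ : ↥M →* A5 := S.ψ.comp (Subgroup.inclusion inf_le_left)
  have hk : Nat.card ↥χ.ker ≤ 2 := by
    refine le_trans (Nat.card_le_card_of_injective (fun x => (⟨((x : ↥M) : G), ?_⟩ :
      ↥(Subgroup.zpowers S.z))) fun x y e => Subtype.ext (Subtype.ext (congrArg Subtype.val e :)))
      (le_of_eq (by rw [Nat.card_zpowers, S.hz]))
    rcases S.fix_five hg h5 ((S.mem_Q_iff (x : ↥M).2.1).mpr x.2) (mem_cent.mp (x : ↥M).2.2).symm
      with e | e <;> rw [e]
    · exact one_mem _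
    · exact Subgroup.mem_zpowers _
  have hr : Nat.card ↥χ.range ≤ 5 := by
    refine le_trans ?_ (le_of_eq (Nat.card_eq_fintype_card.trans (five_cent_five _ (S.ψ_five hg h5))))
    refine Nat.card_le_card_of_injective (fun x => ⟨(x : A5), ?_⟩)
      fun x y e => Subtype.ext (congrArg Subtype.val e :)
    obtain ⟨k, hk⟩ := x.2
    rw [← hk]
    show S.ψ ⟨(k : G), k.2.1⟩ * S.ψ ⟨g, hg⟩ = S.ψ ⟨g, hg⟩ * S.ψ ⟨(k : G), k.2.1⟩
    rw [← map_mul, ← map_mul]
    exact congrArg S.ψ (Subtype.ext (mem_cent.mp k.2.2))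
  have h := χ.ker.card_mul_index
  rw [Subgroup.index_ker] at h
  have h2 := Nat.mul_le_mul hk hr
  have hpos : 0 < Nat.card ↥M := Nat.card_pos
  have := Nat.le_of_dvd hpos h10
  omega

/-- The normalizer in `C` of a subgroup of order five of `C` has order 20. -/
theorem card_norm_five {g : G} (hg : g ∈ S.C) (h5 : orderOf g = 5) :
    Nat.card ↥(S.C ⊓ Subgroup.normalizer (Subgroup.zpowers g : Set G) : Subgroup G) = 20 := by
  haveI : Fact (Nat.Prime 5) := ⟨by decide⟩
  set Y := Subgroup.zpowers g with hY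
  have hYC : Y ≤ S.C := Subgroup.zpowers_le.mpr hg
  set M := (S.C ⊓ Subgroup.normalizer (Y : Set G) : Subgroup G) with hM
  let χ : ↥M →* A5 := S.ψ.comp (Subgroup.inclusion inf_le_left)
  have hψ := S.ψ_five hg h5
  -- the kernel centralises `g`
  have hk : Nat.card ↥χ.ker ≤ 2 := by
    refine le_trans (Nat.card_le_card_of_injective (fun x => (⟨((x : ↥M) : G), ?_⟩ :
      ↥(Subgroup.zpowers S.z))) fun x y e => Subtype.ext (Subtype.ext (congrArg Subtype.val e :)))
      (le_of_eq (by rw [Nat.card_zpowers, S.hz]))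
    have hxQ : ((x : ↥M) : G) ∈ S.Q := (S.mem_Q_iff (x : ↥M).2.1).mpr x.2
    set q := ((x : ↥M) : G)
    have hm : q * g * q⁻¹ * g⁻¹ ∈ Y :=
      mul_mem ((Subgroup.mem_normalizer_iff.mp (x : ↥M).2.2 g).mp (Subgroup.mem_zpowers g))
        (inv_mem (Subgroup.mem_zpowers g))
    have hmQ : q * g * q⁻¹ * g⁻¹ ∈ S.Q := by
      rw [show q * g * q⁻¹ * g⁻¹ = q * (g * q⁻¹ * g⁻¹) by group]
      exact mul_mem hxQ (S.conj_mem hg (inv_mem hxQ))
    have h1 : q * g * q⁻¹ * g⁻¹ = 1 := by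
      refine orderOf_eq_one_iff.mp (Nat.eq_one_of_dvd_coprimes (a := 5) (b := 32) (by norm_num) ?_ ?_)
      · exact (Subgroup.orderOf_dvd_natCard _ hm).trans (by rw [Nat.card_zpowers, h5])
      · exact (Subgroup.orderOf_dvd_natCard _ hmQ).trans (by rw [S.card_Q])
    have hqg : g * q = q * g := (mul_inv_eq_iff_eq_mul.mp (mul_inv_eq_one.mp h1)).symm
    rcases S.fix_five hg h5 hxQ hqg with e | e <;> rw [e]
    · exact one_mem _
    · exact Subgroup.mem_zpowers _
  have hr : Nat.card ↥χ.range ≤ 10 := by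
    refine le_trans ?_ (le_of_eq (Nat.card_eq_fintype_card.trans (five_norm_five _ hψ)))
    refine Nat.card_le_card_of_injective (fun x => ⟨(x : A5), ?_⟩)
      fun x y e => Subtype.ext (congrArg Subtype.val e :)
    obtain ⟨k, hk⟩ := x.2
    have hmem := (Subgroup.mem_normalizer_iff.mp k.2.2 g).mp (Subgroup.mem_zpowers g)
    have hne : (k : G) * g * (k : G)⁻¹ ≠ 1 := fun e => by
      rw [conj_eq_one_iff] at e; rw [e, orderOf_one] at h5; norm_num at h5
    have e : (x : A5) * S.ψ ⟨g, hg⟩ * (x : A5)⁻¹ =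
        S.ψ ⟨(k : G) * g * (k : G)⁻¹, hYC hmem⟩ := by
      rw [← hk]
      show S.ψ ⟨(k : G), k.2.1⟩ * S.ψ ⟨g, hg⟩ * (S.ψ ⟨(k : G), k.2.1⟩)⁻¹ = _
      rw [← map_inv, ← map_mul, ← map_mul]
      rfl
    simp only [e]
    rcases mem_zpowers_five h5 hmem hne with h | h | h | h
    · exact .inl (congrArg S.ψ (Subtype.ext h))
    · exact .inr (.inl ((congrArg S.ψ (Subtype.ext h :
        (⟨_, hYC hmem⟩ : ↥S.C) = ⟨g, hg⟩ ^ 2)).trans (map_pow _ _ _)))
    · exact .inr (.inr (.inl ((congrArg S.ψ (Subtype.ext h :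
        (⟨_, hYC hmem⟩ : ↥S.C) = ⟨g, hg⟩ ^ 3)).trans (map_pow _ _ _))))
    · exact .inr (.inr (.inr ((congrArg S.ψ (Subtype.ext h :
        (⟨_, hYC hmem⟩ : ↥S.C) = ⟨g, hg⟩ ^ 4)).trans (map_pow _ _ _))))
  have hle : Nat.card ↥M ≤ 20 := by
    rw [← χ.ker.card_mul_index, Subgroup.index_ker]
    exact Nat.mul_le_mul hk hr
  -- Sylow
  have hp : IsPGroup 5 ↥(Y.subgroupOf S.C) := IsPGroup.of_card (n := 1) (by
    rw [Nat.card_congr (Subgroup.subgroupOfEquivOfLe hYC).toEquiv, hY, Nat.card_zpowers, h5, pow_one])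
  obtain ⟨P, hP⟩ := hp.exists_le_sylow
  have hP5 : Nat.card ↥(P : Subgroup ↥S.C) = 5 := by
    rw [Sylow.card_eq_multiplicity, S.card_C, Nat.factorization_def _ (by norm_num : Nat.Prime 5),
      show (1920 : ℕ) = 5 ^ 1 * 384 by norm_num, padicValNat.mul (by norm_num) (by norm_num),
      padicValNat.prime_pow, padicValNat.eq_zero_of_not_dvd (by norm_num : ¬ 5 ∣ 384)]
    norm_num
  have hPY : (P : Subgroup ↥S.C) = Y.subgroupOf S.C :=
    (Subgroup.eq_of_le_of_card_ge hP (le_of_eq (by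
      rw [hP5, Nat.card_congr (Subgroup.subgroupOfEquivOfLe hYC).toEquiv, hY, Nat.card_zpowers, h5]))).symm
  have hidx := Sylow.card_eq_index_normalizer P
  have hn : Subgroup.normalizer ((P : Subgroup ↥S.C) : Set ↥S.C) = M.subgroupOf S.C := by
    rw [hPY]
    ext c
    rw [Subgroup.mem_subgroupOf, hM, Subgroup.mem_inf, Subgroup.mem_normalizer_iff,
      Subgroup.mem_normalizer_iff]
    simp only [Subgroup.mem_subgroupOf, Subgroup.coe_mul, Subgroup.coe_inv]
    refine ⟨fun h => ⟨c.2, fun x => ⟨fun hx => (h ⟨x, hYC hx⟩).mp hx, fun hx => ?_⟩⟩,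
      fun h x => h.2 x⟩
    have hxC : x ∈ S.C := by
      have := mul_mem (mul_mem (inv_mem c.2) (hYC hx)) c.2
      simpa [mul_assoc] using this
    exact (h ⟨x, hxC⟩).mpr hx
  have hidx' : Nat.card (Sylow 5 ↥S.C) = (M.subgroupOf S.C).index :=
    hidx.trans (congrArg Subgroup.index hn)
  have hlag := Subgroup.index_mul_card (M.subgroupOf S.C)
  rw [← hidx', Nat.card_congr (Subgroup.subgroupOfEquivOfLe (show M ≤ S.C from inf_le_left)).toEquiv,
    S.card_C] at hlag
  have hmod := card_sylow_modEq_one 5 ↥S.C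
  have h10 : 10 ∣ Nat.card ↥M := by
    rw [← S.card_cent_five hg h5]
    refine Subgroup.card_dvd_of_le (inf_le_inf_left _ ?_)
    rw [hY, ← Subgroup.centralizer_closure, ← Subgroup.zpowers_eq_closure]
    exact Subgroup.centralizer_le_normalizer _
  obtain ⟨d, hd⟩ := h10
  have hd2 : d ≤ 2 := by omega
  have hmod' : Nat.card (Sylow 5 ↥S.C) % 5 = 1 := hmod
  rw [hd] at hlag ⊢
  interval_cases d <;> omega

end Setup

end Cfsg.Agent.HallJankoType
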