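import Cfsg.Agent.Lib.HallJankoType.Normalizer

/-!
An element of order five commuting with a non-2-central involution: its centralizer in a group of
Hall–Janko type has order 300.
-/

set_option autoImplicit false
set_option linter.style.haveILetI false
set_option linter.unusedSectionVars false

namespace Cfsg.Agent.HallJankoType

open Cfsg.Agent.JankoOrder (Inv inv_iff_orderOf)
open Subgroup

universe u

local notation "A5" => alternatingGroup (Fin 5)

set_option maxRecDepth 8000 in
theorem five_conj_pm : ∀ g : A5, g ^ 5 = 1 ∧ g ≠ 1 → ∀ x : A5,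
    (x * g * x⁻¹ = g ^ 2 ∨ x * g * x⁻¹ = g ^ 3) → False := by
  decide +kernel

set_option maxRecDepth 8000 in
theorem five_inverter : ∀ g : A5, g ^ 5 = 1 ∧ g ≠ 1 → ∃ w : A5, w * g * w⁻¹ = g⁻¹ := by
  decide +kernel

/-- Orbit-stabiliser for conjugation of subgroups. -/
theorem card_orbit_subgroup_mul {G : Type*} [Group G] [Finite G] (H W : Subgroup G) :
    Nat.card {V : Subgroup G // ∃ h ∈ H, W.map (MulAut.conj h).toMonoidHom = V} *
      Nat.card ↥(H ⊓ Subgroup.normalizer (W : Set G) : Subgroup G) = Nat.card ↥H := by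
  classical
  have hmem : ∀ (h : G) (y : G), y ∈ W.map (MulAut.conj h).toMonoidHom ↔ h⁻¹ * y * h ∈ W := by
    intro h y
    constructor
    · rintro ⟨w, hw, rfl⟩
      show h⁻¹ * (h * w * h⁻¹) * h ∈ W
      simpa [mul_assoc] using hw
    · intro hy
      exact ⟨_, hy, show h * (h⁻¹ * y * h) * h⁻¹ = y by group⟩
  set K := (H ⊓ Subgroup.normalizer (W : Set G) : Subgroup G).subgroupOf H with hK
  have hiff : ∀ g h : ↥H, g⁻¹ * h ∈ K ↔
      W.map (MulAut.conj (g : G)).toMonoidHom = W.map (MulAut.conj (h : G)).toMonoidHom := by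
    intro g h
    rw [hK, Subgroup.mem_subgroupOf, Subgroup.mem_inf, Subgroup.mem_normalizer_iff, SetLike.ext_iff]
    constructor
    · intro k y
      rw [hmem, hmem, k.2 ((h : G)⁻¹ * y * h)]
      push_cast
      rw [show (g : G)⁻¹ * h * ((h : G)⁻¹ * y * h) * ((g : G)⁻¹ * h)⁻¹ = (g : G)⁻¹ * y * g by group]
    · intro k
      refine ⟨(g⁻¹ * h).2, fun y => ?_⟩
      have h1 := k ((h : G) * y * (h : G)⁻¹)
      rw [hmem, hmem, show (h : G)⁻¹ * ((h : G) * y * (h : G)⁻¹) * h = y by group] at h1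
      push_cast
      rw [show (g : G)⁻¹ * h * y * ((g : G)⁻¹ * h)⁻¹ = (g : G)⁻¹ * ((h : G) * y * (h : G)⁻¹) * g by group]
      exact h1.symm
  let f : ↥H → {V : Subgroup G // ∃ h ∈ H, W.map (MulAut.conj h).toMonoidHom = V} :=
    fun h => ⟨_, h, h.2, rfl⟩
  let e : ↥H ⧸ K ≃ {V : Subgroup G // ∃ h ∈ H, W.map (MulAut.conj h).toMonoidHom = V} :=
    Equiv.ofBijective
      (Quotient.lift f fun g h hgh => Subtype.ext ((hiff g h).mp (QuotientGroup.leftRel_apply.mp hgh)))
      ⟨fun x y => Quotient.inductionOn₂' x y fun g h e =>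
        Quotient.sound' (QuotientGroup.leftRel_apply.mpr ((hiff g h).mpr (congrArg Subtype.val e))),
        fun v => by
          obtain ⟨h, hh, e⟩ := v.2
          exact ⟨QuotientGroup.mk ⟨h, hh⟩, Subtype.ext e⟩⟩
  rw [← Nat.card_congr (Subgroup.subgroupOfEquivOfLe (show H ⊓ Subgroup.normalizer (W : Set G) ≤ H from
    inf_le_left)).toEquiv, ← Nat.card_congr e, ← Subgroup.card_eq_card_quotient_mul_card_subgroup K]

/-- A group with a self-centralising four group, whose order is not a power of two, has order at most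
12 or is `A₅`. -/
theorem card_cases {H : Type u} [Group H] [Finite H] (F : BSW.FourCent H)
    (hall : ∀ c ∈ F.C, c ≠ 1 → Subgroup.centralizer ({c} : Set H) = F.C) {q : ℕ} (hq : q.Prime)
    (hq2 : q ≠ 2) (hqd : q ∣ Nat.card H) :
    Nat.card H ≤ 12 ∨ (Nat.card H = 60 ∧ Nonempty (H ≃* A5)) := by
  haveI : Fact (Nat.Prime 2) := ⟨Nat.prime_two⟩
  by_cases hbig : Nat.card H ≤ 12
  · exact .inl hbig
  right
  have hx1 : F.x ≠ 1 := BSW.ne_one_of_order F.hx
  have hne : ∀ E : Subgroup H, E.Normal → Cfsg.IsElementaryAbelian 2 E →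
      Nat.card ↥E ≠ 2 ∧ Nat.card ↥E ≠ 4 := by
    intro E hE hEl
    -- `x` fixes a nontrivial element of `E`
    have hfix : E ≠ ⊥ → ∃ e ∈ E, e ∈ F.C ∧ e ≠ 1 := by
      intro hbot
      obtain ⟨e, he, he1⟩ := (Subgroup.ne_bot_iff_exists_ne_one.mp hbot) |> fun ⟨⟨e, he⟩, h⟩ =>
        (⟨e, he, fun k => h (Subtype.ext k)⟩ : ∃ e, e ∈ E ∧ e ≠ 1)
      set e' := F.x * e * F.x⁻¹ with he'
      have heE : e' ∈ E := hE.conj_mem e he F.x
      have hxx : F.x * F.x = 1 := F.sq _ F.x_mem
      have hback : F.x * e' * F.x⁻¹ = e := by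
        rw [he', inv_of_sq hxx]
        calc F.x * (F.x * e * F.x) * F.x = (F.x * F.x) * e * (F.x * F.x) := by group
          _ = e := by rw [hxx, one_mul, mul_one]
      by_cases hee : e * e' = 1
      · refine ⟨e, he, mem_cent.mpr ?_, he1⟩
        have h2 : e' = e := by
          rw [eq_inv_of_mul_eq_one_right hee]
          exact inv_eq_of_mul_eq_one_right (by rw [← pow_two]; exact hEl.2 e he)
        exact (mul_inv_eq_iff_eq_mul.mp (he'.symm.trans h2)).symm
      · refine ⟨e * e', mul_mem he heE, mem_cent.mpr ?_, hee⟩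
        have hcc : e' * e = e * e' := congrArg Subtype.val (hEl.1.is_comm.comm (⟨e', heE⟩ : ↥E) ⟨e, he⟩)
        symm
        calc F.x * (e * e') = (F.x * e * F.x⁻¹) * (F.x * e' * F.x⁻¹) * F.x := by group
          _ = e * e' * F.x := by rw [hback, ← he', hcc]
    have hle : E ≠ ⊥ → E ≤ F.C := by
      intro hbot w hw
      obtain ⟨e, he, heC, he1⟩ := hfix hbot
      rw [← hall e heC he1]
      exact mem_cent.mpr (congrArg Subtype.val (hEl.1.is_comm.comm (⟨w, hw⟩ : ↥E) ⟨e, he⟩))
    refine ⟨fun h2 => ?_, fun h4 => ?_⟩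
    · have hbot : E ≠ ⊥ := fun k => by rw [k, Subgroup.card_bot] at h2; norm_num at h2
      obtain ⟨e, he, heC, he1⟩ := hfix hbot
      have hcent : Subgroup.centralizer ({e} : Set H) = ⊤ := top_le_iff.mp fun g _ => mem_cent.mpr (by
        have hmem := hE.conj_mem e he g
        obtain ⟨p, q, -, hpq⟩ := Nat.card_eq_two_iff.mp h2
        have h1 : ∀ y : ↥E, y = p ∨ y = q := fun y => by
          have : y ∈ ({p, q} : Set ↥E) := hpq ▸ Set.mem_univ y
          simpa using this
        have hne : g * e * g⁻¹ ≠ 1 := fun k => he1 (conj_eq_one_iff.mp k)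
        refine mul_inv_eq_iff_eq_mul.mp ?_
        rcases h1 ⟨_, hmem⟩ with e1 | e1 <;> rcases h1 ⟨e, he⟩ with e2 | e2 <;> rcases h1 1 with e3 | e3 <;>
          first
            | exact congrArg Subtype.val (e1.trans e2.symm)
            | exact absurd (congrArg Subtype.val (e1.trans e3.symm)) hne
            | exact absurd (congrArg Subtype.val (e2.trans e3.symm)) he1)
      rw [hall e heC he1] at hcent
      have h4 := F.card_four
      rw [show Subgroup.centralizer ({F.x} : Set H) = ⊤ from hcent, Subgroup.card_top] at h4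
      exact hbig (by omega)
    · have hbot : E ≠ ⊥ := fun k => by rw [k, Subgroup.card_bot] at h4; norm_num at h4
      have heq : E = F.C := Subgroup.eq_of_le_of_card_ge (hle hbot) (by
        rw [h4]; exact le_of_eq F.card_four)
      have hxE : F.x ∈ E := heq ▸ F.x_mem
      have ho := card_orbit_mul (⊤ : Subgroup H) F.x
      rw [Subgroup.card_top, top_inf_eq,
        show Nat.card ↥(Subgroup.centralizer ({F.x} : Set H)) = 4 from F.card_four] at ho
      have hle3 : Nat.card {v : H // ∃ h ∈ (⊤ : Subgroup H), h * F.x * h⁻¹ = v} ≤ 4 := by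
        rw [← h4]
        refine Nat.card_le_card_of_injective (fun v => ⟨v.1, ?_⟩) fun p q k =>
          Subtype.ext (congrArg Subtype.val k :)
        obtain ⟨h, -, e⟩ := v.2
        exact e ▸ hE.conj_mem _ hxE h
      have hpos : 0 < Nat.card H := Nat.card_pos
      have h16 : Nat.card H = 2 ^ 4 := by omega
      rw [h16] at hqd
      exact hq2 ((Nat.prime_dvd_prime_iff_eq hq Nat.prime_two).mp (hq.dvd_of_dvd_pow hqd))
  obtain ⟨P, hP⟩ := F.exists_sylow hne
  have hnc : ¬ Cfsg.HasNormalPComplement 2 H := by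
    rintro ⟨P', N, hN, hc⟩
    have hodd : ¬ 2 ∣ Nat.card ↥N := fun h => P'.not_dvd_index (hc.index_eq_card.symm ▸ h)
    have hcop : (Nat.card ↥N).Coprime 4 :=
      (((Nat.prime_two.coprime_iff_not_dvd).mpr hodd).pow_left 2).symm
    obtain ⟨s, hs, hs1, hsx⟩ : ∃ s ∈ F.C, s ≠ 1 ∧ s ≠ F.x := by
      by_contra h
      push Not at h
      have hsub : F.C ≤ Subgroup.zpowers F.x := fun w hw => by
        by_cases hw1 : w = 1
        · rw [hw1]; exact one_mem _
        · rw [h w hw hw1]; exact Subgroup.mem_zpowers _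
      have := Subgroup.card_le_of_le hsub
      rw [F.card_four, Nat.card_zpowers, F.hx] at this
      omega
    have hinv : ∀ c ∈ F.C, c ≠ 1 → ∀ n ∈ N, c * n * c⁻¹ = n⁻¹ := by
      intro c hc hc1 n hn
      let φ : ↥N →* ↥N :=
        { toFun := fun w => ⟨c * (w : H) * c⁻¹, hN.conj_mem _ w.2 c⟩
          map_one' := Subtype.ext (by simp)
          map_mul' := fun v w => Subtype.ext (by simp [mul_assoc]) }
      have hfix : MonoidHom.FixedPointFree φ := fun w hw => by
        have e : c * (w : H) * c⁻¹ = w := congrArg Subtype.val hw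
        have hwC : (w : H) ∈ F.C := by
          rw [← hall c hc hc1]; exact mem_cent.mpr (mul_inv_eq_iff_eq_mul.mp e).symm
        have h4 : orderOf (w : H) ∣ 4 := by
          rw [← F.card_four]; exact Subgroup.orderOf_dvd_natCard _ hwC
        rw [Subgroup.orderOf_coe] at h4
        exact orderOf_eq_one_iff.mp (Nat.eq_one_of_dvd_coprimes hcop (orderOf_dvd_natCard w) h4)
      have hinvol : Function.Involutive φ := fun w => Subtype.ext (by
        show c * (c * (w : H) * c⁻¹) * c⁻¹ = w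
        rw [show c * (c * (w : H) * c⁻¹) * c⁻¹ = (c * c) * (w : H) * (c * c)⁻¹ by group, F.sq c hc]
        simp)
      exact congrArg Subtype.val (congrFun (hfix.coe_eq_inv_of_involutive hinvol) ⟨n, hn⟩)
    have hNbot : N = ⊥ := (Subgroup.eq_bot_iff_forall _).mpr fun n hn => by
      have hxs1 : F.x * s ≠ 1 := fun e => hsx (by
        rw [eq_inv_of_mul_eq_one_right e, inv_of_sq (F.sq _ F.x_mem)])
      have hts := hinv _ (mul_mem F.x_mem hs) hxs1 n hn
      rw [show F.x * s * n * (F.x * s)⁻¹ = F.x * (s * n * s⁻¹) * F.x⁻¹ by group, hinv s hs hs1 n hn,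
        ← conj_inv, hinv _ F.x_mem hx1 n hn, inv_inv] at hts
      have h2 : n ^ 2 = 1 := by rw [pow_two]; nth_rw 2 [hts]; exact mul_inv_cancel n
      exact orderOf_eq_one_iff.mp (Nat.eq_one_of_dvd_coprimes hcop (Subgroup.orderOf_dvd_natCard N hn)
        ((orderOf_dvd_of_pow_eq_one h2).trans ⟨2, rfl⟩))
    have hcard := hc.card_mul_card
    rw [hNbot, Subgroup.card_bot, one_mul] at hcard
    obtain ⟨i, hi⟩ := P'.2.exists_card_eq
    rw [hi] at hcard
    rw [← hcard] at hqd
    exact hq2 ((Nat.prime_dvd_prime_iff_eq hq Nat.prime_two).mp (hq.dvd_of_dvd_pow hqd))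
  obtain ⟨e⟩ := F.iso_alternating hnc hne
  exact ⟨by rw [Nat.card_congr e.toEquiv, five_card], ⟨e⟩⟩

/-- A group with a self-centralising four group, of order divisible by five, has order 60. -/
theorem card_sixty {H : Type u} [Group H] [Finite H] (F : BSW.FourCent H)
    (hall : ∀ c ∈ F.C, c ≠ 1 → Subgroup.centralizer ({c} : Set H) = F.C) (h5 : 5 ∣ Nat.card H) :
    Nat.card H = 60 ∧ Nonempty (H ≃* A5) := by
  refine (card_cases F hall (by decide : Nat.Prime 5) (by decide) h5).resolve_left fun h => ?_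
  have h4 : 4 ∣ Nat.card H := F.card_four ▸ Subgroup.card_subgroup_dvd_card F.C
  have hpos : 0 < Nat.card H := Nat.card_pos
  omega

namespace Setup.Local.Factor

variable {G : Type u} [Group G] {S : Setup G} [Finite G] {a : G} {L : Setup.Local S a}

theorem exists_five_mem (K : Setup.Local.Factor L) : ∃ x ∈ K.B, orderOf x = 5 := by
  haveI : Fact (Nat.Prime 5) := ⟨by decide⟩
  obtain ⟨x, hx⟩ := exists_prime_orderOf_dvd_card' (G := ↥K.B) 5 (by rw [K.card_B]; norm_num)
  exact ⟨x, x.2, by rwa [Subgroup.orderOf_coe]⟩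

variable (K : Setup.Local.Factor L) {x : G}

/-- `C(x) ∩ C(a) = T × ⟨x⟩`. -/
theorem mem_cent_five (hx : x ∈ K.B) (h5 : orderOf x = 5) {d : G}
    (hd : d ∈ Subgroup.centralizer ({a} : Set G)) (hdx : d * x = x * d) :
    ∃ t ∈ L.T, ∃ i ∈ Subgroup.zpowers x, t * i = d := by
  obtain ⟨e⟩ := K.nonempty_iso
  obtain ⟨t, ht, b, hb, rfl⟩ := K.decomp hd
  refine ⟨t, ht, b, ?_, rfl⟩
  have hbx : b * x = x * b := by
    have e' : t * (b * x) = t * (x * b) := by
      calc t * (b * x) = t * b * x := by group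
        _ = x * (t * b) := hdx
        _ = (x * t) * b := by group
        _ = t * (x * b) := by rw [← K.T_comm ht hx]; group
    exact mul_left_cancel e'
  have hg : e ⟨x, hx⟩ ^ 5 = 1 ∧ e ⟨x, hx⟩ ≠ 1 := by
    refine ⟨?_, fun k => ?_⟩
    · rw [← map_pow]
      convert map_one e using 2
      exact Subtype.ext (by show x ^ 5 = 1; rw [← h5, pow_orderOf_eq_one])
    · rw [EmbeddingLike.map_eq_one_iff] at k
      have : x = 1 := congrArg Subtype.val k
      rw [this, orderOf_one] at h5
      norm_num at h5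
  classical
  let f : ↥(Subgroup.zpowers x) → {g : A5 // g * e ⟨x, hx⟩ = e ⟨x, hx⟩ * g} := fun i =>
    ⟨e ⟨i, (Subgroup.zpowers_le.mpr hx) i.2⟩, by
      rw [← map_mul, ← map_mul]
      refine congrArg e (Subtype.ext ?_)
      obtain ⟨k, hk⟩ := Subgroup.mem_zpowers_iff.mp i.2
      show (i : G) * x = x * (i : G)
      rw [← hk]
      exact ((Commute.refl x).zpow_left k).eq⟩
  have hf : Function.Bijective f := by
    refine (Nat.bijective_iff_injective_and_card f).mpr ⟨fun i j k => ?_, ?_⟩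
    · have k' := e.injective (congrArg Subtype.val k)
      exact Subtype.ext (congrArg Subtype.val k' :)
    · rw [Nat.card_zpowers, h5, Nat.card_eq_fintype_card, five_cent_five _ hg]
  obtain ⟨i, hi⟩ := hf.2 ⟨e ⟨b, hb⟩, by
    rw [← map_mul, ← map_mul]; exact congrArg e (Subtype.ext hbx)⟩
  have hib : (i : G) = b := congrArg Subtype.val (e.injective (congrArg Subtype.val hi))
  exact hib ▸ i.2

/-- The centralizer of an element of order five commuting with `a`, with its map onto `A₅`. -/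
theorem cent_five_full (hx : x ∈ K.B) (h5 : orderOf x = 5) :
    Nat.card ↥(Subgroup.centralizer ({x} : Set G)) = 300 ∧
      (∀ j : G, Inv j → j * x = x * j → IsConj a j) ∧
      (∀ W : Subgroup G, W ≤ Subgroup.centralizer ({x} : Set G) → Nat.card ↥W = 25 →
        Nat.card ↥(Subgroup.centralizer ({x} : Set G) ⊓ Subgroup.normalizer (W : Set G) : Subgroup G) = 50) ∧
      ∃ f : ↥(Subgroup.centralizer ({x} : Set G)) →* A5, Function.Surjective f ∧
        ∀ m, f m = 1 ↔ (m : G) ∈ Subgroup.zpowers x := by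
  haveI : Fact (Nat.Prime 2) := ⟨Nat.prime_two⟩
  haveI : Fact (Nat.Prime 5) := ⟨by decide⟩
  set M : Subgroup G := Subgroup.centralizer ({x} : Set G) with hM
  have hxM : x ∈ M := mem_cent.mpr rfl
  set Xs : Subgroup ↥M := Subgroup.zpowers ⟨x, hxM⟩ with hXs
  haveI : Xs.Normal := ⟨fun y hy g => by
    obtain ⟨k, rfl⟩ := Subgroup.mem_zpowers_iff.mp hy
    have hc : Commute g (⟨x, hxM⟩ : ↥M) := Subtype.ext (mem_cent.mp g.2)
    rw [(hc.zpow_right k).eq, mul_inv_cancel_right]
    exact Subgroup.zpow_mem_zpowers _ k⟩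
  have hXcard : Nat.card ↥Xs = 5 := by
    rw [hXs, Nat.card_zpowers, ← Subgroup.orderOf_coe]; exact h5
  have hTM : L.T ≤ M := fun t ht => mem_cent.mpr (K.T_comm ht hx)
  set π := QuotientGroup.mk' Xs with hπ
  let ι : ↥L.T →* ↥M ⧸ Xs := π.comp (Subgroup.inclusion hTM)
  have hι : Function.Injective ι := by
    rw [← MonoidHom.ker_eq_bot_iff, Subgroup.eq_bot_iff_forall]
    intro t ht
    have h : (⟨t, hTM t.2⟩ : ↥M) ∈ Xs := (QuotientGroup.eq_one_iff _).mp ht
    obtain ⟨k, hk⟩ := Subgroup.mem_zpowers_iff.mp h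
    have e : x ^ k = (t : G) := congrArg Subtype.val hk
    exact Subtype.ext (K.T_inf_B t.2 (e ▸ zpow_mem hx k))
  have hιC : ∀ t : ↥L.T, (t : G) ≠ 1 →
      Subgroup.centralizer ({ι t} : Set (↥M ⧸ Xs)) = ι.range := by
    intro t ht1
    refine le_antisymm ?_ ?_
    · intro q hq
      obtain ⟨m, rfl⟩ := QuotientGroup.mk'_surjective Xs q
      have h := mem_cent.mp hq
      have hmem : (⟨(t : G), hTM t.2⟩ : ↥M)⁻¹ * (m * ⟨t, hTM t.2⟩ * m⁻¹) ∈ Xs := by
        have hz : π ((⟨(t : G), hTM t.2⟩ : ↥M)⁻¹ * (m * ⟨t, hTM t.2⟩ * m⁻¹)) = 1 := by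
          rw [map_mul, map_mul, map_mul, map_inv, map_inv]
          have h' : π m * π ⟨t, hTM t.2⟩ = π ⟨t, hTM t.2⟩ * π m := h
          rw [h']; group
        exact (QuotientGroup.eq_one_iff _).mp hz
      obtain ⟨k, hk⟩ := Subgroup.mem_zpowers_iff.mp hmem
      have e : x ^ k = (t : G)⁻¹ * ((m : G) * t * (m : G)⁻¹) := congrArg Subtype.val hk
      have e' : (m : G) * t * (m : G)⁻¹ = t * x ^ k := by rw [e]; group
      have ht2 : (t : G) * t = 1 := S.E_sq L.outside t.2.1
      have hc : Commute (t : G) (x ^ k) := (show Commute (t : G) x from K.T_comm t.2 hx).zpow_right k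
      have hsq : x ^ k * x ^ k = 1 := by
        calc x ^ k * x ^ k = ((t : G) * x ^ k) * ((t : G) * x ^ k) := by
              rw [mul_assoc, ← mul_assoc (x ^ k), ← hc.eq, mul_assoc, ← mul_assoc (t : G), ht2, one_mul]
          _ = (m : G) * (t * t) * (m : G)⁻¹ := by rw [← e']; group
          _ = 1 := by rw [ht2]; group
      have h5' : x ^ k = 1 := by
        refine orderOf_eq_one_iff.mp (Nat.eq_one_of_dvd_coprimes (a := 5) (b := 2) (by norm_num) ?_
          (orderOf_dvd_of_pow_eq_one (by rw [pow_two]; exact hsq)))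
        rw [← h5]; exact orderOf_dvd_of_pow_eq_one (by
          rw [← zpow_natCast, ← zpow_mul, mul_comm, zpow_mul, zpow_natCast, pow_orderOf_eq_one, one_zpow])
      rw [h5', mul_one, mul_inv_eq_iff_eq_mul] at e'
      -- `m` centralises `t`, hence `a`'s conjugate
      obtain ⟨g, hg, hga⟩ := K.exists_move_T t.2 ht1
      have hmD : (m : G) ∈ Subgroup.centralizer ({a} : Set G) := by
        have hd : Subgroup.centralizer ({a} : Set G) ≤ Subgroup.centralizer ({(t : G)} : Set G) :=
          fun d hd => mem_cent.mpr ((K.mem_T_iff.mp t.2).2 d hd).symm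
        have hcard : Nat.card ↥(Subgroup.centralizer ({(t : G)} : Set G)) ≤
            Nat.card ↥(Subgroup.centralizer ({a} : Set G)) := by
          refine Nat.card_le_card_of_injective (fun d => ⟨g * d * g⁻¹, mem_cent.mpr ?_⟩) fun p q k =>
            Subtype.ext (mul_left_cancel (mul_right_cancel (congrArg Subtype.val k :)))
          have hd' : (d : G) * t = t * d := mem_cent.mp d.2
          calc g * (d : G) * g⁻¹ * a = g * (d : G) * g⁻¹ * (g * t * g⁻¹) := by
                exact congrArg (fun w => g * (d : G) * g⁻¹ * w) hga.symm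
            _ = g * ((d : G) * t) * g⁻¹ := by group
            _ = g * (t * d) * g⁻¹ := by rw [hd']
            _ = (g * t * g⁻¹) * (g * (d : G) * g⁻¹) := by group
            _ = a * (g * (d : G) * g⁻¹) := congrArg (fun w => w * (g * (d : G) * g⁻¹)) hga
        exact (Subgroup.eq_of_le_of_card_ge hd hcard).ge (mem_cent.mpr e')
      obtain ⟨s, hs, i, hi, hsi⟩ := K.mem_cent_five hx h5 hmD (mem_cent.mp m.2)
      refine ⟨⟨s, hs⟩, ?_⟩
      refine (QuotientGroup.eq.mpr ?_ : (π ⟨s, hTM hs⟩) = π m)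
      obtain ⟨j, hj⟩ := Subgroup.mem_zpowers_iff.mp hi
      refine Subgroup.mem_zpowers_iff.mpr ⟨j, Subtype.ext ?_⟩
      show x ^ j = s⁻¹ * (m : G)
      rw [← hsi, hj, inv_mul_cancel_left]
    · rintro _ ⟨s, rfl⟩
      rw [mem_cent, ← map_mul, ← map_mul]
      exact congrArg ι (Subtype.ext (S.E_comm L.outside s.2.1 t.2.1))
  have hrange : Nat.card ↥ι.range = 4 := by
    rw [← Nat.card_congr (MonoidHom.ofInjective hι).toEquiv, L.card_T]
  set at' : ↥L.T := ⟨a, L.a_mem_T⟩
  have hιa : orderOf (ι at') = 2 := by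
    rw [orderOf_injective ι hι, ← Subgroup.orderOf_coe]; exact inv_iff_orderOf.mp L.outside.isInv
  have hCa := hιC at' L.outside.isInv.2
  let FC : BSW.FourCent (↥M ⧸ Xs) :=
    { x := ι at'
      hx := hιa
      card_four := by rw [hCa, hrange]
      sq := fun q hq => by
        rw [hCa] at hq
        obtain ⟨s, rfl⟩ := hq
        rw [← map_mul, ← map_one ι]
        exact congrArg ι (Subtype.ext (S.E_sq L.outside s.2.1)) }
  have hall : ∀ c ∈ FC.C, c ≠ 1 → Subgroup.centralizer ({c} : Set (↥M ⧸ Xs)) = FC.C := by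
    intro c hc hc1
    have hc' : c ∈ ι.range := hCa ▸ hc
    obtain ⟨s, rfl⟩ := hc'
    exact (hιC s fun k => hc1 (by rw [show s = 1 from Subtype.ext k, map_one])).trans hCa.symm
  -- the Sylow 5-subgroup has order 25 and is abelian
  obtain ⟨P, hP⟩ := (IsPGroup.of_card (n := 1) (by rw [Nat.card_zpowers, h5, pow_one]) :
    IsPGroup 5 ↥(Subgroup.zpowers x)).exists_le_sylow
  have hP25 : Nat.card ↥(P : Subgroup G) = 5 ^ 2 := by
    rw [Sylow.card_eq_multiplicity, S.card_group, Nat.factorization_def _ (by norm_num : Nat.Prime 5),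
      show (604800 : ℕ) = 5 ^ 2 * 24192 by norm_num, padicValNat.mul (by norm_num) (by norm_num),
      padicValNat.prime_pow, padicValNat.eq_zero_of_not_dvd (by norm_num : ¬ 5 ∣ 24192)]
  have hPc := IsPGroup.isMulCommutative_of_card_eq_prime_sq hP25
  have hPM : (P : Subgroup G) ≤ M := fun p hp => mem_cent.mpr
    (congrArg Subtype.val (hPc.is_comm.comm (⟨p, hp⟩ : ↥(P : Subgroup G)) ⟨x, hP (Subgroup.mem_zpowers x)⟩))
  have hMq : Nat.card ↥M = 5 * Nat.card (↥M ⧸ Xs) := by
    rw [Subgroup.card_eq_card_quotient_mul_card_subgroup Xs, hXcard, mul_comm]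
  have hdvd : 5 ∣ Nat.card (↥M ⧸ Xs) := by
    have h := Subgroup.card_dvd_of_le hPM
    rw [hP25, hMq, pow_two] at h
    exact Nat.dvd_of_mul_dvd_mul_left (by norm_num) h
  obtain ⟨hH, ⟨eH⟩⟩ := card_sixty FC hall hdvd
  have hM300 : Nat.card ↥M = 300 := by rw [hMq, hH]
  refine ⟨hM300, fun j hj hjx => ?_, fun W hW hW25 => ?_, eH.toMonoidHom.comp π,
    eH.surjective.comp (QuotientGroup.mk'_surjective Xs), fun m => ?_⟩
  · -- `T` is a Sylow 2-subgroup of `C(x)`
    obtain ⟨R, hR⟩ := (IsPGroup.of_card (n := 1) (by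
      rw [Nat.card_zpowers, ← Subgroup.orderOf_coe, pow_one]; exact inv_iff_orderOf.mp hj) :
      IsPGroup 2 ↥(zpowers (⟨j, mem_cent.mpr hjx⟩ : ↥M))).exists_le_sylow
    have hTs : Nat.card ↥(L.T.subgroupOf M) = 2 ^ ((Nat.card ↥M).factorization 2) := by
      rw [Nat.card_congr (Subgroup.subgroupOfEquivOfLe hTM).toEquiv, L.card_T, hM300,
        Nat.factorization_def _ Nat.prime_two, show (300 : ℕ) = 2 ^ 2 * 75 by norm_num,
        padicValNat.mul (by norm_num) (by norm_num), padicValNat.prime_pow,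
        padicValNat.eq_zero_of_not_dvd (by norm_num : ¬ 2 ∣ 75)]
      norm_num
    obtain ⟨g, hg⟩ := MulAction.exists_smul_eq ↥M R (Sylow.ofCard _ hTs)
    have hgj : (g : G) * j * (g : G)⁻¹ ∈ L.T := by
      have h : g * ⟨j, mem_cent.mpr hjx⟩ * g⁻¹ ∈ ((g • R : Sylow 2 ↥M) : Subgroup ↥M) := by
        rw [Sylow.coe_subgroup_smul]
        exact ⟨_, hR (mem_zpowers _), rfl⟩
      rw [hg] at h
      exact h
    obtain ⟨c, -, hc⟩ := K.exists_move_T hgj (fun k => hj.2 (conj_eq_one_iff.mp k))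
    exact (isConj_iff.mpr ⟨c * g, (by group : c * (g : G) * j * (c * (g : G))⁻¹ =
      c * ((g : G) * j * (g : G)⁻¹) * c⁻¹).trans hc⟩ : IsConj j a).symm
  · set Wd := W.subgroupOf M with hWd
    have hWs : Nat.card ↥Wd = 5 ^ ((Nat.card ↥M).factorization 5) := by
      rw [hWd, Nat.card_congr (Subgroup.subgroupOfEquivOfLe hW).toEquiv, hW25, hM300,
        Nat.factorization_def _ (by norm_num : Nat.Prime 5), show (300 : ℕ) = 5 ^ 2 * 12 by norm_num,
        padicValNat.mul (by norm_num) (by norm_num), padicValNat.prime_pow,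
        padicValNat.eq_zero_of_not_dvd (by norm_num : ¬ 5 ∣ 12)]
      norm_num
    set Pw : Sylow 5 ↥M := Sylow.ofCard Wd hWs with hPw
    have hn : Subgroup.normalizer (Wd : Set ↥M) =
        (M ⊓ Subgroup.normalizer (W : Set G)).subgroupOf M := by
      ext c
      rw [Subgroup.mem_subgroupOf, Subgroup.mem_inf, Subgroup.mem_normalizer_iff,
        Subgroup.mem_normalizer_iff, hWd]
      simp only [Subgroup.mem_subgroupOf, Subgroup.coe_mul, Subgroup.coe_inv]
      refine ⟨fun h => ⟨c.2, fun w => ⟨fun hw => (h ⟨w, hW hw⟩).mp hw, fun hw => ?_⟩⟩,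
        fun h w => h.2 w⟩
      have hwM : w ∈ M := by
        have := mul_mem (mul_mem (inv_mem c.2) (hW hw)) c.2
        simpa [mul_assoc] using this
      exact (h ⟨w, hwM⟩).mpr hw
    have hidx : Nat.card (Sylow 5 ↥M) = ((M ⊓ Subgroup.normalizer (W : Set G)).subgroupOf M).index :=
      (Sylow.card_eq_index_normalizer Pw).trans (congrArg Subgroup.index hn)
    have hlag := Subgroup.index_mul_card ((M ⊓ Subgroup.normalizer (W : Set G)).subgroupOf M)
    rw [← hidx, Nat.card_congr (Subgroup.subgroupOfEquivOfLe (show M ⊓ Subgroup.normalizer (W : Set G) ≤ M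
      from inf_le_left)).toEquiv, hM300] at hlag
    have hmod : Nat.card (Sylow 5 ↥M) % 5 = 1 := card_sylow_modEq_one 5 ↥M
    -- it is not normal, as `M / X` is simple
    have hne1 : Nat.card (Sylow 5 ↥M) ≠ 1 := by
      intro h1
      rw [hidx, Subgroup.index_eq_one, Subgroup.subgroupOf_eq_top] at h1
      haveI : Wd.Normal := ⟨fun w hw g => by
        rw [hWd, Subgroup.mem_subgroupOf] at hw ⊢
        exact (Subgroup.mem_normalizer_iff.mp (h1 g.2).2 (w : G)).mp hw⟩
      haveI : Nontrivial (↥M ⧸ Xs) := Finite.one_lt_card_iff_nontrivial.mp (by rw [hH]; norm_num)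
      haveI : IsSimpleGroup (↥M ⧸ Xs) :=
        IsSimpleGroup.isSimpleGroup_of_surjective eH.symm.toMonoidHom eH.symm.surjective
      rcases ((inferInstance : Wd.Normal).map π (QuotientGroup.mk'_surjective Xs)).eq_bot_or_eq_top with h | h
      · have hle : Wd ≤ Xs := fun w hw => (QuotientGroup.eq_one_iff _).mp
          (Subgroup.mem_bot.mp (h ▸ ⟨w, hw, rfl⟩ : π w ∈ (⊥ : Subgroup (↥M ⧸ Xs))))
        have := Subgroup.card_le_of_le hle
        rw [hXcard, hWd, Nat.card_congr (Subgroup.subgroupOfEquivOfLe hW).toEquiv, hW25] at this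
        norm_num at this
      · have := Subgroup.card_map_dvd (f := π) (H := Wd)
        rw [h, Subgroup.card_top, hH, hWd, Nat.card_congr (Subgroup.subgroupOfEquivOfLe hW).toEquiv,
          hW25] at this
        norm_num at this
    have h25 : 25 ∣ Nat.card ↥(M ⊓ Subgroup.normalizer (W : Set G) : Subgroup G) := by
      rw [← hW25]; exact Subgroup.card_dvd_of_le (le_inf hW Subgroup.le_normalizer)
    obtain ⟨q, hq⟩ := h25
    rw [hq] at hlag ⊢
    have hq12 : q ≤ 12 := by
      by_contra k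
      have h0 : 0 < Nat.card (Sylow 5 ↥M) := Nat.card_pos
      have := Nat.mul_le_mul h0 (Nat.mul_le_mul_left 25 (not_le.mp k))
      omega
    interval_cases q <;> omega
  · show eH (π m) = 1 ↔ _
    rw [EmbeddingLike.map_eq_one_iff]
    refine (QuotientGroup.eq_one_iff m).trans ⟨fun h => ?_, fun h => ?_⟩
    · obtain ⟨k, hk⟩ := Subgroup.mem_zpowers_iff.mp h
      exact Subgroup.mem_zpowers_iff.mpr ⟨k, congrArg Subtype.val hk⟩
    · obtain ⟨k, hk⟩ := Subgroup.mem_zpowers_iff.mp h
      exact Subgroup.mem_zpowers_iff.mpr ⟨k, Subtype.ext hk⟩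

/-- The centralizer of an element of order five commuting with `a`. -/
theorem cent_five_data (hx : x ∈ K.B) (h5 : orderOf x = 5) :
    Nat.card ↥(Subgroup.centralizer ({x} : Set G)) = 300 ∧
      (∀ j : G, Inv j → j * x = x * j → IsConj a j) ∧
      ∀ W : Subgroup G, W ≤ Subgroup.centralizer ({x} : Set G) → Nat.card ↥W = 25 →
        Nat.card ↥(Subgroup.centralizer ({x} : Set G) ⊓ Subgroup.normalizer (W : Set G) : Subgroup G) = 50 :=
  ⟨(K.cent_five_full hx h5).1, (K.cent_five_full hx h5).2.1, (K.cent_five_full hx h5).2.2.1⟩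

end Setup.Local.Factor

end Cfsg.Agent.HallJankoType
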