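import Cfsg.Agent.Lib.HallJankoType.Main
import Cfsg.Agent.S0824
import Cfsg.Agent.Lib.Components.GenFitting
import Cfsg.Agent.Lib.TI.Extraspecial

/-!
From the hypotheses of the Hall–Janko type statements to a `Setup`.
-/

set_option autoImplicit false
set_option linter.style.haveILetI false

namespace Cfsg.Agent.HallJankoType

open Subgroup

universe u

local notation "A5" => alternatingGroup (Fin 5)

/-- `Ω⁻₄(2) ≅ A₅`. -/
theorem omega_iso :
    Nonempty (↥(Cfsg.Omega (ZMod 2) (Cfsg.quadFormMinus 1 (ZMod 2) 1 1)) ≃* A5) := by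
  obtain ⟨e₀⟩ := S0824.core
  let e : ↥(Cfsg.isometryGroup (ZMod 2) (Cfsg.quadFormMinus 1 (ZMod 2) 1 1)) ≃* Equiv.Perm (Fin 5) :=
    e₀
  have hOm : Cfsg.Omega (ZMod 2) (Cfsg.quadFormMinus 1 (ZMod 2) 1 1) =
      (A5).map e.symm.toMonoidHom := by
    rw [← alternatingGroup.commutator_perm_eq (α := Fin 5) (by simp), commutator_def,
      Subgroup.map_commutator, Subgroup.map_top_of_surjective e.symm.toMonoidHom e.symm.surjective]
    rfl
  exact ⟨(MulEquiv.subgroupCongr hOm).trans (e.symm.subgroupMap A5).symm⟩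

theorem exists_setup {G : Type u} [Group G] [Finite G] (z : G) (hz : orderOf z = 2)
    (Q : Subgroup (Subgroup.centralizer ({z} : Set G))) [Q.Normal]
    (hF : Cfsg.generalizedFittingSubgroup (Subgroup.centralizer ({z} : Set G)) = Q)
    (hQ : Cfsg.IsExtraspecial 2 Q) (hcard : Nat.card Q = 2 ^ 5)
    (e : (Subgroup.centralizer ({z} : Set G)) ⧸ Q ≃*
      Cfsg.Omega (ZMod 2) (Cfsg.quadFormMinus 1 (ZMod 2) 1 1))
    (hnwc : ∃ g : G, (∃ hq : g * z * g⁻¹ ∈ Subgroup.centralizer ({z} : Set G),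
      (⟨g * z * g⁻¹, hq⟩ : Subgroup.centralizer ({z} : Set G)) ∈ Q) ∧ g * z * g⁻¹ ≠ z)
    (hcl : ∃ x y : G, orderOf x = 2 ∧ orderOf y = 2 ∧ ¬ IsConj x y) :
    ∃ S : Setup G, S.z = z ∧ S.Q = Q.map (Subgroup.centralizer ({z} : Set G)).subtype := by
  obtain ⟨eA⟩ := omega_iso
  have hmem : ∀ x : ↥(Subgroup.centralizer ({z} : Set G)), (x : G) ∈ Q.map (Subgroup.centralizer ({z} : Set G)).subtype ↔ x ∈ Q := fun x =>
    ⟨fun ⟨y, hy, h⟩ => (Subtype.ext h : y = x) ▸ hy, fun h => ⟨x, h, rfl⟩⟩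
  have hcard' : Nat.card ↥(Q.map (Subgroup.centralizer ({z} : Set G)).subtype) = 32 := by
    rw [Subgroup.card_map_of_injective (Subgroup.centralizer ({z} : Set G)).subtype_injective, hcard]; norm_num
  refine ⟨{ z := z
            hz := hz
            Q := Q.map (Subgroup.centralizer ({z} : Set G)).subtype
            ψ := (e.trans eA).toMonoidHom.comp (QuotientGroup.mk' Q)
            ψ_surj := (e.trans eA).surjective.comp (QuotientGroup.mk'_surjective Q)
            ψ_ker := fun x => ?_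
            Q_le := Subgroup.map_subtype_le Q
            extra := ?_
            card_Q := hcard'
            self := fun x hx hxq => ?_
            nwc := ?_
            two_classes := hcl }, rfl, rfl⟩
  · rw [hmem]
    show (e.trans eA) (QuotientGroup.mk x : ↥(Subgroup.centralizer ({z} : Set G)) ⧸ Q) = 1 ↔ x ∈ Q
    rw [EmbeddingLike.map_eq_one_iff, QuotientGroup.eq_one_iff]
  · exact TI.isExtraspecial_congr (Q.equivMapOfInjective (Subgroup.centralizer ({z} : Set G)).subtype (Subgroup.centralizer ({z} : Set G)).subtype_injective) hQ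
  · have h := Components.centralizer_generalizedFittingSubgroup_le (G := ↥(Subgroup.centralizer ({z} : Set G)))
    rw [hF] at h
    refine (hmem ⟨x, hx⟩).mpr (h ?_)
    rw [Subgroup.mem_centralizer_iff]
    intro q hq
    exact Subtype.ext (hxq q ((hmem q).mpr hq)).symm
  · obtain ⟨g, ⟨hq, hgq⟩, hne⟩ := hnwc
    exact ⟨g * z * g⁻¹, (hmem ⟨_, hq⟩).mpr hgq, hne, isConj_iff.mpr ⟨g, rfl⟩⟩

end Cfsg.Agent.HallJankoType
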