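import Cfsg.Agent.Lib.HallJankoType.SylowThree

/-!
The Sylow 7-subgroups of a group of Hall–Janko type.
-/

set_option autoImplicit false
set_option linter.style.haveILetI false
set_option linter.unusedSectionVars false

namespace Cfsg.Agent.HallJankoType

open Cfsg.Agent.JankoOrder (Inv inv_iff_orderOf)
open Subgroup

universe u

/-- A conjugate of an element commuting with `c` divides the order of the centralizer of `c`. -/
theorem dvd_card_cent_of_conj {G : Type u} [Group G] [Finite G] {c c' d : G} (h : IsConj c c')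
    (hd : d * c' = c' * d) : orderOf d ∣ Nat.card ↥(Subgroup.centralizer ({c} : Set G)) := by
  obtain ⟨g, rfl⟩ := isConj_iff.mp h
  rw [← BSW.card_cent_conj g c]
  exact Subgroup.orderOf_dvd_natCard _ (mem_cent.mpr hd)

set_option maxHeartbeats 800000 in
/-- Sylow 7-subgroups in a group of Hall–Janko type. -/
theorem Setup.sylow_seven {G : Type u} [Group G] [Finite G] (S : Setup G) (D : Sylow 7 G) :
    Subgroup.centralizer ((D : Subgroup G) : Set G) = D ∧
      Nat.card (Subgroup.normalizer ((D : Subgroup G) : Set G)) = 42 ∧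
      ¬ IsMulCommutative (Subgroup.normalizer ((D : Subgroup G) : Set G)) := by
  classical
  haveI : Fact (Nat.Prime 2) := ⟨Nat.prime_two⟩
  haveI : Fact (Nat.Prime 3) := ⟨Nat.prime_three⟩
  haveI : Fact (Nat.Prime 5) := ⟨by decide⟩
  haveI : Fact (Nat.Prime 7) := ⟨by decide⟩
  obtain ⟨a, ha⟩ := S.exists_outside
  obtain ⟨L⟩ := S.exists_local ha
  obtain ⟨K⟩ := L.exists_factor
  obtain ⟨x, hx, hx5⟩ := K.exists_five_mem
  obtain ⟨y, hy⟩ := K.exists_isThree
  obtain ⟨P₀, hyP, -, -, hP27, -, hall, hout, hyc, -⟩ := hy.sylow_three_data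
  set Dg : Subgroup G := (D : Subgroup G) with hDg
  have hD7 : Nat.card ↥Dg = 7 := by
    rw [hDg, Sylow.card_eq_multiplicity, S.card_group, Nat.factorization_def _ (by norm_num : Nat.Prime 7),
      show (604800 : ℕ) = 7 ^ 1 * 86400 by norm_num, padicValNat.mul (by norm_num) (by norm_num),
      padicValNat.prime_pow, padicValNat.eq_zero_of_not_dvd (by norm_num : ¬ 7 ∣ 86400)]
    norm_num
  have hcycD : IsCyclic ↥Dg := isCyclic_of_prime_card hD7
  obtain ⟨d', hd'⟩ := exists_prime_orderOf_dvd_card' (G := ↥Dg) 7 (by rw [hD7])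
  rw [← Subgroup.orderOf_coe] at hd'
  set d : G := (d' : G) with hddef
  set Cd : Subgroup G := Subgroup.centralizer (Dg : Set G) with hCd
  set N : Subgroup G := Subgroup.normalizer (Dg : Set G) with hN
  have hCd_comm : ∀ c ∈ Cd, c * d = d * c := fun c hc =>
    (Subgroup.mem_centralizer_iff.mp hc d d'.2).symm
  have hDC : Dg ≤ Cd := fun p hp => Subgroup.mem_centralizer_iff.mpr fun q hq => by
    haveI := hcycD
    exact congrArg Subtype.val (IsCyclic.commGroup.mul_comm (⟨q, hq⟩ : ↥Dg) ⟨p, hp⟩)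
  have hC2 : ¬ 2 ∣ Nat.card ↥Cd := by
    intro h
    obtain ⟨j, hj⟩ := exists_prime_orderOf_dvd_card' (G := ↥Cd) 2 h
    rw [← Subgroup.orderOf_coe] at hj
    have hjd : d * (j : G) = (j : G) * d := (hCd_comm j j.2).symm
    rcases S.two_conj_classes ha (inv_iff_orderOf.mpr hj) with k | k
    · have h7 := dvd_card_cent_of_conj k hjd
      rw [hd', show Nat.card ↥(Subgroup.centralizer ({S.z} : Set G)) = 1920 from S.card_C] at h7
      norm_num at h7
    · have h7 := dvd_card_cent_of_conj k hjd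
      rw [hd', K.card_D] at h7
      norm_num at h7
  have hC5 : ¬ 5 ∣ Nat.card ↥Cd := by
    intro h
    obtain ⟨w, hw⟩ := exists_prime_orderOf_dvd_card' (G := ↥Cd) 5 h
    rw [← Subgroup.orderOf_coe] at hw
    obtain ⟨c, hc⟩ := S.exists_conj_comm_five K hx hx5 (r := d) hw (by rw [hd']; norm_num)
      (fun k => by rw [k, orderOf_one] at hd'; norm_num at hd') (hCd_comm w w.2).symm
    have h7 := Subgroup.orderOf_dvd_natCard (Subgroup.centralizer ({x} : Set G)) (mem_cent.mpr hc)
    rw [(K.cent_five_data hx hx5).1, ← MulAut.conj_apply, MulEquiv.orderOf_eq, hd'] at h7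
    norm_num at h7
  have hC9 : ¬ 3 ^ 2 ∣ Nat.card ↥Cd := by
    intro h
    obtain ⟨W, hW⟩ := Sylow.exists_subgroup_card_pow_prime 3 h
    obtain ⟨R, hR⟩ := ((IsPGroup.of_card hW).map Cd.subtype).exists_le_sylow
    obtain ⟨g, hg⟩ := MulAction.exists_smul_eq G R P₀
    have hle : ∀ w ∈ W, g * (w : G) * g⁻¹ ∈ (P₀ : Subgroup G) := fun w hw => by
      rw [← hg, Sylow.coe_subgroup_smul]
      exact ⟨_, hR ⟨w, hw, rfl⟩, rfl⟩
    obtain ⟨w, hw, hwy⟩ : ∃ w ∈ W, g * (w : G) * g⁻¹ ∉ zpowers y := by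
      by_contra k
      push Not at k
      have h3 := Nat.card_le_card_of_injective (fun w : ↥W => (⟨g * ((w : ↥Cd) : G) * g⁻¹, k w w.2⟩ :
        ↥(zpowers y))) fun p q e =>
          Subtype.ext (Subtype.ext (mul_left_cancel (mul_right_cancel (congrArg Subtype.val e :))))
      rw [hW, Nat.card_zpowers, hy.order] at h3
      norm_num at h3
    have hconj : IsConj L.n (w : G) :=
      (hout _ (hle w hw) hwy).trans (isConj_iff.mpr ⟨g, rfl⟩ : IsConj (w : G) (g * w * g⁻¹)).symm
    have h7 := dvd_card_cent_of_conj hconj (hCd_comm w w.2).symm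
    rw [hd', (K.cent_three_data hy).1] at h7
    norm_num at h7
  have hCdvd : Nat.card ↥Cd ∣ 21 := by
    have h : Nat.card ↥Cd ∣ 2 ^ 7 * (5 ^ 2 * (3 ^ 3 * 7)) := by
      rw [show 2 ^ 7 * (5 ^ 2 * (3 ^ 3 * 7)) = Nat.card G by rw [S.card_group]; norm_num]
      exact Subgroup.card_subgroup_dvd_card Cd
    have h' : Nat.card ↥Cd ∣ 3 ^ 3 * 7 :=
      (((Nat.Prime.coprime_iff_not_dvd (by decide : Nat.Prime 5)).mpr hC5).symm.pow_right 2).dvd_of_dvd_mul_left
        (((Nat.prime_two.coprime_iff_not_dvd.mpr hC2).symm.pow_right 7).dvd_of_dvd_mul_left h)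
    have hle : Nat.card ↥Cd ≤ 189 := Nat.le_of_dvd (by norm_num) h'
    have h7 : 7 ∣ Nat.card ↥Cd := hD7 ▸ Subgroup.card_dvd_of_le hDC
    obtain ⟨k, hk⟩ := h7
    rw [hk] at h' hC9 hle ⊢
    have hk' : k ∣ 3 ^ 3 := Nat.dvd_of_mul_dvd_mul_left (by norm_num : 0 < 7) (by rwa [mul_comm (3 ^ 3) 7] at h')
    obtain ⟨i, hi, rfl⟩ := (Nat.dvd_prime_pow Nat.prime_three).mp hk'
    have hi2 : i < 2 := by
      by_contra k
      exact hC9 (dvd_mul_of_dvd_right (pow_dvd_pow 3 (by omega)) 7)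
    interval_cases i <;> norm_num
  have hCN : Cd ≤ N := Subgroup.centralizer_le_normalizer _
  have hr : (Cd.subgroupOf N).index ∣ 6 := by
    have key := Subgroup.card_dvd_of_injective _
      (QuotientGroup.kerLift_injective Dg.normalizerMonoidHom)
    rw [Subgroup.normalizerMonoidHom_ker, ← Subgroup.index, hcycD.card_mulAut, hD7,
      Nat.totient_prime (by decide : Nat.Prime 7)] at key
    exact key
  have hNC : (Cd.subgroupOf N).index * Nat.card ↥Cd = Nat.card ↥N := by
    rw [← Nat.card_congr (Subgroup.subgroupOfEquivOfLe hCN).toEquiv]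
    exact (Cd.subgroupOf N).index_mul_card
  have hidx : Nat.card (Sylow 7 G) = N.index := Sylow.card_eq_index_normalizer D
  have hlag := Subgroup.index_mul_card N
  rw [← hidx, S.card_group] at hlag
  have hmod : Nat.card (Sylow 7 G) % 7 = 1 := card_sylow_modEq_one 7 G
  have h7 : 7 ∣ Nat.card ↥Cd := hD7 ▸ Subgroup.card_dvd_of_le hDC
  have h42 : Nat.card ↥N = 42 ∧ (Nat.card ↥Cd = 7 ∨ Nat.card ↥Cd = 21) := by
    set r := (Cd.subgroupOf N).index with hr'
    set k := Nat.card ↥Cd with hk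
    have hk21 : k = 7 ∨ k = 21 := by
      have := Nat.le_of_dvd (by norm_num) hCdvd
      obtain ⟨q, hq⟩ := h7
      have hq3 : q ≤ 3 := by omega
      interval_cases q <;> omega
    have hr6 : r ≤ 6 := Nat.le_of_dvd (by norm_num) hr
    have hr0 : 0 < r := Nat.pos_of_dvd_of_pos hr (by norm_num)
    refine ⟨?_, hk21⟩
    rw [← hNC] at hlag ⊢
    rcases hk21 with e | e <;> rw [e] at hlag ⊢ <;> interval_cases r <;> omega
  have hCeq : Nat.card ↥Cd = 7 := by
    refine h42.2.resolve_right fun h21 => ?_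
    obtain ⟨w, hw⟩ := exists_prime_orderOf_dvd_card' (G := ↥Cd) 3 (by rw [h21]; norm_num)
    rw [← Subgroup.orderOf_coe] at hw
    obtain ⟨R, hR⟩ := (IsPGroup.of_card (n := 1) (by rw [Nat.card_zpowers, hw, pow_one]) :
      IsPGroup 3 ↥(Subgroup.zpowers (w : G))).exists_le_sylow
    obtain ⟨g, hg⟩ := MulAction.exists_smul_eq G R P₀
    have hmem : g * (w : G) * g⁻¹ ∈ (P₀ : Subgroup G) := by
      rw [← hg, Sylow.coe_subgroup_smul]
      exact ⟨_, hR (mem_zpowers _), rfl⟩
    have hwg : IsConj (w : G) (g * w * g⁻¹) := isConj_iff.mpr ⟨g, rfl⟩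
    rcases hall _ hmem (fun k => by
      rw [conj_eq_one_iff.mp k, orderOf_one] at hw
      norm_num at hw) with k | k
    · have h := dvd_card_cent_of_conj (k.trans hwg.symm) (hCd_comm w w.2).symm
      rw [hd', (K.cent_three_data hy).1] at h
      norm_num at h
    -- `C(w)` would violate Sylow's congruence
    obtain ⟨c, hc⟩ := isConj_iff.mp (k.trans hwg.symm)
    set M : Subgroup G := Subgroup.centralizer ({(w : G)} : Set G) with hM
    have hMy : Nat.card ↥M = Nat.card ↥(Subgroup.centralizer ({y} : Set G)) := by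
      rw [hM, ← hc]; exact BSW.card_cent_conj c y
    have hDM : Dg ≤ M := fun p hp => mem_cent.mpr (Subgroup.mem_centralizer_iff.mp w.2 p hp)
    have h27 : 27 ∣ Nat.card ↥M := by
      rw [hMy, ← hP27]
      exact Subgroup.card_dvd_of_le fun p hp => mem_cent.mpr (hyc p hp)
    have h5 : 5 ∣ Nat.card ↥M := by
      rw [hMy, ← hx5]
      exact Subgroup.orderOf_dvd_natCard _ (mem_cent.mpr (hy.comm x hx).symm)
    have h25 : ¬ 5 ^ 2 ∣ Nat.card ↥M := by
      rw [hMy]
      intro h
      obtain ⟨W, hW⟩ := Sylow.exists_subgroup_card_pow_prime 5 h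
      have hWs : Nat.card ↥(W.map (Subgroup.centralizer ({y} : Set G)).subtype) =
          5 ^ (Nat.card G).factorization 5 := by
        rw [Subgroup.card_map_of_injective (Subgroup.subtype_injective _), hW, S.card_group,
          Nat.factorization_def _ (by norm_num : Nat.Prime 5), show (604800 : ℕ) = 5 ^ 2 * 24192 by norm_num,
          padicValNat.mul (by norm_num) (by norm_num), padicValNat.prime_pow,
          padicValNat.eq_zero_of_not_dvd (by norm_num : ¬ 5 ∣ 24192)]
      have hy5 : y ∈ ((Sylow.ofCard _ hWs : Sylow 5 G) : Subgroup G) := by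
        rw [← (S.sylow_five (Sylow.ofCard _ hWs)).1, Subgroup.mem_centralizer_iff]
        rintro _ ⟨p, -, rfl⟩
        exact mem_cent.mp p.2
      have h' := Subgroup.orderOf_dvd_natCard _ hy5
      rw [hy.order, (S.sylow_five _).2.1] at h'
      norm_num at h'
    have hM7 : 7 ∣ Nat.card ↥M := hD7 ▸ Subgroup.card_dvd_of_le hDM
    obtain ⟨q, hq⟩ : 945 ∣ Nat.card ↥M :=
      Nat.Coprime.mul_dvd_of_dvd_of_dvd (by norm_num : Nat.Coprime 135 7)
        (Nat.Coprime.mul_dvd_of_dvd_of_dvd (by norm_num : Nat.Coprime 27 5) h27 h5) hM7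
    have hq128 : q ∣ 2 ^ 7 := by
      have h1 : 945 * q ∣ 945 * (2 ^ 7 * 5) := by
        rw [← hq, show 945 * (2 ^ 7 * 5) = Nat.card G by rw [S.card_group]; norm_num]
        exact Subgroup.card_subgroup_dvd_card M
      have hq5 : ¬ 5 ∣ q := fun ⟨t, ht⟩ => h25 ⟨189 * t, by rw [hq, ht]; ring⟩
      exact (((Nat.Prime.coprime_iff_not_dvd (by decide : Nat.Prime 5)).mpr hq5).symm).dvd_of_dvd_mul_right
        (Nat.dvd_of_mul_dvd_mul_left (by norm_num : 0 < 945) h1)
    -- the Sylow 7-normalizer in `M`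
    set NM : Subgroup G := M ⊓ N with hNM
    have hNMd : Nat.card ↥NM ∣ 42 := h42.1 ▸ Subgroup.card_dvd_of_le inf_le_right
    have h21M : 21 ∣ Nat.card ↥NM := by
      have h7' : 7 ∣ Nat.card ↥NM := hD7 ▸ Subgroup.card_dvd_of_le (le_inf hDM Subgroup.le_normalizer)
      have h3' : 3 ∣ Nat.card ↥NM :=
        hw ▸ Subgroup.orderOf_dvd_natCard _ (show (w : G) ∈ NM from ⟨mem_cent.mpr rfl, hCN w.2⟩)
      exact Nat.Coprime.mul_dvd_of_dvd_of_dvd (by norm_num : Nat.Coprime 3 7) h3' h7'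
    have hn : Subgroup.normalizer (((D.subtype hDM : Sylow 7 ↥M) : Subgroup ↥M) : Set ↥M) = NM.subgroupOf M := by
      ext c
      rw [Subgroup.mem_subgroupOf, hNM, hN, Subgroup.mem_inf, Subgroup.mem_normalizer_iff,
        Subgroup.mem_normalizer_iff]
      refine ⟨fun h => ⟨c.2, fun p => ⟨fun hp => (h ⟨p, hDM hp⟩).mp hp, fun hp => ?_⟩⟩, fun h p => h.2 p⟩
      have hpM : p ∈ M := by
        have := mul_mem (mul_mem (inv_mem c.2) (hDM hp)) c.2
        simpa [mul_assoc] using this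
      exact (h ⟨p, hpM⟩).mpr hp
    have hidxM : Nat.card (Sylow 7 ↥M) = (NM.subgroupOf M).index :=
      (Sylow.card_eq_index_normalizer (D.subtype hDM)).trans (congrArg Subgroup.index hn)
    have hlagM := Subgroup.index_mul_card (NM.subgroupOf M)
    rw [← hidxM, Nat.card_congr (Subgroup.subgroupOfEquivOfLe (show NM ≤ M from inf_le_left)).toEquiv,
      hq] at hlagM
    have hmodM : Nat.card (Sylow 7 ↥M) % 7 = 1 := card_sylow_modEq_one 7 ↥M
    obtain ⟨i, hi, rfl⟩ := (Nat.dvd_prime_pow Nat.prime_two).mp hq128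
    obtain ⟨t, ht⟩ := h21M
    rw [ht] at hNMd hlagM
    have ht2 : t ≤ 2 := by
      have := Nat.le_of_dvd (by norm_num) hNMd
      omega
    interval_cases t <;> interval_cases i <;> omega
  have hCD : Cd = Dg := (Subgroup.eq_of_le_of_card_ge hDC (by rw [hCeq, hD7])).symm
  refine ⟨hCD, h42.1, fun hcomm => ?_⟩
  have hle : N ≤ Cd := fun g hg => Subgroup.mem_centralizer_iff.mpr fun p hp =>
    congrArg Subtype.val (hcomm.is_comm.comm (⟨p, Subgroup.le_normalizer hp⟩ : ↥N) ⟨g, hg⟩)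
  have h := Subgroup.card_le_of_le hle
  rw [h42.1, hCeq] at h
  norm_num at h

end Cfsg.Agent.HallJankoType
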