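import Cfsg.Agent.Lib.HallJankoType.Relators
import Cfsg.Agent.Lib.HallJankoType.SylowSeven

/-!
A group of Hall–Janko type is isomorphic to a fixed permutation group on 840 points.
-/

set_option autoImplicit false
set_option linter.style.haveILetI false
set_option linter.unusedSectionVars false

namespace Cfsg.Agent.HallJankoType

open Cfsg.Agent.JankoOrder (Inv inv_iff_orderOf)
open Cfsg.Agent.Presented (CosetCert)
open Subgroup

universe u

local notation "A5" => alternatingGroup (Fin 5)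

theorem cert_N : Presented.J2C840.cert.N = 840 := rfl

theorem cert_m : Presented.J2C840.cert.m = 6 := rfl

theorem table_lt (i : Fin 840) (g : Fin 6) : Presented.J2C840.cert.actOf i g < 840 := by
  have hi : (i : ℕ) < Presented.J2C840.cert.N := by rw [cert_N]; exact i.2
  have hg : (g : ℕ) < Presented.J2C840.cert.m := by rw [cert_m]; exact g.2
  have h := CosetCert.actOf_lt Presented.J2C840.cert_edgesOK Presented.J2C840.cert_nodesOK hi hg
  rw [cert_N] at h
  exact h

theorem table_twice (i : Fin 840) (g : Fin 6) :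
    Presented.J2C840.cert.actOf (Presented.J2C840.cert.actOf i g) g = i := by
  have hi : (i : ℕ) < Presented.J2C840.cert.N := by rw [cert_N]; exact i.2
  have hg : (g : ℕ) < Presented.J2C840.cert.m := by rw [cert_m]; exact g.2
  exact CosetCert.actOf_actOf Presented.J2C840.cert_edgesOK Presented.J2C840.cert_nodesOK hi hg

/-- An involutive table as a permutation. -/
def permOfTable {N : ℕ} (f : ℕ → ℕ) (h₁ : ∀ i : Fin N, f i < N) (h₂ : ∀ i : Fin N, f (f i) = i) :
    Equiv.Perm (Fin N) :=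
  Function.Involutive.toPerm (fun i => (⟨f i, h₁ i⟩ : Fin N)) fun i => Fin.ext (h₂ i)

theorem permOfTable_apply {N : ℕ} (f : ℕ → ℕ) (h₁ : ∀ i : Fin N, f i < N) (h₂ : ∀ i : Fin N, f (f i) = i)
    (i : Fin N) : (permOfTable f h₁ h₂ i : ℕ) = f i := rfl

/-- The permutation of a generator on the 840 cosets. -/
noncomputable def tablePerm (g : Fin 6) : Equiv.Perm (Fin 840) :=
  permOfTable (fun i => Presented.J2C840.cert.actOf i g) (fun i => table_lt i g) (fun i => table_twice i g)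

theorem tablePerm_val (g : Fin 6) (i : Fin 840) :
    (tablePerm g i : ℕ) = Presented.J2C840.cert.actOf i g :=
  permOfTable_apply (fun i => Presented.J2C840.cert.actOf i g) _ _ i

/-- The group of the table. -/
noncomputable def tableGroup : Subgroup (Equiv.Perm (Fin 840)) := Subgroup.closure (Set.range tablePerm)

namespace Setup

variable {G : Type u} [Group G] [Finite G]

/-- A normal subgroup of order divisible by five has order divisible by seven. -/
theorem seven_dvd_of_five_dvd (S : Setup G) (hG : Nat.card G = 604800) (N : Subgroup G) [N.Normal]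
    (h5 : 5 ∣ Nat.card ↥N) : 7 ∣ Nat.card ↥N := by
  classical
  haveI : Fact (Nat.Prime 5) := ⟨by decide⟩
  haveI : Fact (Nat.Prime 7) := ⟨by decide⟩
  by_contra h7
  obtain ⟨P⟩ : Nonempty (Sylow 5 ↥N) := inferInstance
  set R : Subgroup G := (P : Subgroup ↥N).map N.subtype with hR
  set NR : Subgroup G := Subgroup.normalizer (R : Set G) with hNR
  have hsup : NR ⊔ N = ⊤ := Sylow.normalizer_sup_eq_top P
  have hπ : Function.Surjective ((QuotientGroup.mk' N).comp NR.subtype) := by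
    intro x
    obtain ⟨g, rfl⟩ := QuotientGroup.mk'_surjective N x
    have hg : g ∈ (↑(NR ⊔ N) : Set G) := by rw [hsup]; trivial
    rw [Subgroup.mul_normal] at hg
    obtain ⟨r, hr, n, hn, rfl⟩ := hg
    refine ⟨⟨r, hr⟩, (QuotientGroup.eq).mpr ?_⟩
    show r⁻¹ * (r * n) ∈ N
    rwa [inv_mul_cancel_left]
  have hq7 : 7 ∣ Nat.card ↥NR := by
    refine dvd_trans ?_ (Subgroup.card_dvd_of_surjective _ hπ)
    have h := Subgroup.card_eq_card_quotient_mul_card_subgroup N
    rw [hG] at h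
    exact ((by decide : Nat.Prime 7).dvd_mul.mp (h ▸ (by norm_num : 7 ∣ 604800))).resolve_right h7
  obtain ⟨d, hd⟩ := exists_prime_orderOf_dvd_card' (G := ↥NR) 7 hq7
  rw [← Subgroup.orderOf_coe] at hd
  obtain ⟨i, hi⟩ := (P.2.map N.subtype).exists_card_eq
  have hi' : Nat.card ↥R = 5 ^ i := hi
  have hi1 : 1 ≤ i := by
    by_contra k
    have h1 : 5 ∣ Nat.card ↥(P : Subgroup ↥N) := by
      have := P.pow_dvd_card_of_pow_dvd_card (n := 1) (by rwa [pow_one])
      rwa [pow_one] at this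
    rw [← Subgroup.card_map_of_injective (f := N.subtype) N.subtype_injective, ← hR, hi',
      show i = 0 by omega] at h1
    norm_num at h1
  have hi2 : i ≤ 2 := by
    by_contra k
    have h : 5 ^ 3 ∣ Nat.card G :=
      (pow_dvd_pow 5 (by omega)).trans (hi' ▸ Subgroup.card_subgroup_dvd_card R)
    rw [hG] at h
    norm_num at h
  -- `d` fixes a nontrivial element of `R`
  have hdR : ∀ r ∈ R, (d : G) * r * (d : G)⁻¹ ∈ R := fun r hr => (Subgroup.mem_normalizer_iff.mp d.2 r).mp hr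
  let σ : Equiv.Perm ↥R := Equiv.ofBijective (fun r => ⟨_, hdR r r.2⟩)
    (Finite.injective_iff_bijective.mp fun r r' h =>
      Subtype.ext (mul_left_cancel (mul_right_cancel (congrArg Subtype.val h :))))
  haveI : Fintype ↥R := Fintype.ofFinite _
  have hσn : ∀ (m : ℕ) (r : ↥R), ((σ ^ m) r : G) = (d : G) ^ m * r * ((d : G) ^ m)⁻¹ := by
    intro m
    induction m with
    | zero => intro r; simp
    | succ m ih =>
      intro r
      rw [pow_succ', Equiv.Perm.mul_apply]
      show (d : G) * ((σ ^ m) r : G) * (d : G)⁻¹ = _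
      rw [ih, pow_succ']; group
  have h7' : σ ^ 7 = 1 := Equiv.ext fun r => Subtype.ext (by
    rw [hσn, show (d : G) ^ 7 = 1 from hd ▸ pow_orderOf_eq_one _]; simp)
  have hcount := Equiv.Perm.card_compl_support_modEq (p := 7) (n := 1) (σ := σ) (by rw [pow_one]; exact h7')
  obtain ⟨r, hr, hr1⟩ : ∃ r : ↥R, σ r = r ∧ (r : G) ≠ 1 := by
    by_contra h
    push Not at h
    have hs : σ.supportᶜ = {1} := by
      ext r
      rw [Finset.mem_compl, Equiv.Perm.mem_support, not_not, Finset.mem_singleton]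
      exact ⟨fun hr => Subtype.ext (h r hr), fun hr => Subtype.ext (by
        show (d : G) * (r : G) * (d : G)⁻¹ = r
        rw [hr, Subgroup.coe_one, mul_one, mul_inv_cancel])⟩
    rw [hs, Finset.card_singleton, ← Nat.card_eq_fintype_card, hi'] at hcount
    interval_cases i <;> exact absurd hcount (by decide)
  have hrd : (r : G) * (d : G) = (d : G) * r :=
    (mul_inv_eq_iff_eq_mul.mp (congrArg Subtype.val hr :)).symm
  obtain ⟨D, hD⟩ := (IsPGroup.of_card (n := 1) (by rw [Nat.card_zpowers, hd, pow_one]) :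
    IsPGroup 7 ↥(zpowers (d : G))).exists_le_sylow
  have hD7 : Nat.card ↥(D : Subgroup G) = 7 := by
    rw [Sylow.card_eq_multiplicity, hG, Nat.factorization_def _ (by norm_num : Nat.Prime 7),
      show (604800 : ℕ) = 7 ^ 1 * 86400 by norm_num, padicValNat.mul (by norm_num) (by norm_num),
      padicValNat.prime_pow, padicValNat.eq_zero_of_not_dvd (by norm_num : ¬ 7 ∣ 86400)]
    norm_num
  have heq : zpowers (d : G) = (D : Subgroup G) :=
    Subgroup.eq_of_le_of_card_ge hD (by rw [hD7, Nat.card_zpowers, hd])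
  have hrD : (r : G) ∈ (D : Subgroup G) := by
    rw [← (S.sylow_seven D).1, Subgroup.mem_centralizer_iff]
    intro p hp
    obtain ⟨k, hk⟩ := mem_zpowers_iff.mp (heq.symm ▸ hp : p ∈ zpowers (d : G))
    rw [← hk]
    exact ((show Commute (d : G) r from hrd.symm).zpow_left k).eq
  have ho : orderOf (r : G) ∣ 7 := hD7 ▸ Subgroup.orderOf_dvd_natCard _ hrD
  have ho5 : orderOf (r : G) ∣ 5 ^ i := hi' ▸ Subgroup.orderOf_dvd_natCard _ r.2
  exact hr1 (orderOf_eq_one_iff.mp
    (Nat.eq_one_of_dvd_coprimes ((by norm_num : Nat.Coprime 7 5).pow_right i) ho ho5))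

end Setup

namespace Setup.Local.Factor

variable {G : Type u} [Group G] {S : Setup G} [Finite G] {a : G} {L : Setup.Local S a}
  {K : Setup.Local.Factor L} {e : ↥K.B ≃* A5} {y a' j : G}

/-- The subgroup generated by the six involutions. -/
def genGroup (e : ↥K.B ≃* A5) (y a' j : G) : Subgroup G :=
  Subgroup.closure (letters e y a' j '' {g | g < 6})

theorem letters_mem {g : ℕ} (hg : g < 6) : letters e y a' j g ∈ genGroup e y a' j :=
  Subgroup.subset_closure ⟨g, hg, rfl⟩

theorem Amalgam.bOf_mem_gen (A : Amalgam e y a' j) (b : A5) : bOf e b ∈ genGroup e y a' j := by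
  let M : Subgroup A5 :=
    { carrier := {b | bOf e b ∈ genGroup e y a' j}
      mul_mem' := fun {p q} hp hq => by
        show bOf e (p * q) ∈ genGroup e y a' j
        rw [bOf_mul]; exact mul_mem hp hq
      one_mem' := by show bOf e 1 ∈ genGroup e y a' j; rw [bOf_one]; exact one_mem _
      inv_mem' := fun {p} hp => by show bOf e p⁻¹ ∈ genGroup e y a' j; rw [bOf_inv]; exact inv_mem hp }
  obtain ⟨hq, -⟩ := sT_words
  have hp : pT ∈ M := letters_mem (g := 0) (by norm_num)
  have hu : uT ∈ M := letters_mem (g := 1) (by norm_num)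
  have hv : vT ∈ M := letters_mem (g := 2) (by norm_num)
  have hqM : qT ∈ M := by
    rw [← hq]
    exact mul_mem (mul_mem (mul_mem (mul_mem (mul_mem (one_mem M) hp) hv) hu) hp) hv
  have hM : M = ⊤ := five_top_of_orders five_xw.2.2.2.2.2.1 five_xw.2.2.2.2.2.2.1 five_xw.2.2.2.2.2.2.2.1
    five_xw.2.2.2.2.2.2.2.2.1 five_xw.1 five_xw.2.1 hp hqM (mul_mem hp hqM)
  exact (hM ▸ Subgroup.mem_top b : b ∈ M)

theorem Amalgam.gens_mem (A : Amalgam e y a' j) :
    y ∈ genGroup e y a' j ∧ a' ∈ genGroup e y a' j ∧ j ∈ genGroup e y a' j := by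
  refine ⟨?_, letters_mem (g := 3) (by norm_num), letters_mem (g := 4) (by norm_num)⟩
  have h : j * (j * y) ∈ genGroup e y a' j :=
    mul_mem (letters_mem (g := 4) (by norm_num)) (letters_mem (g := 5) (by norm_num))
  rwa [← mul_assoc, A.j2, one_mul] at h

/-- A map to `A₅` injective on `T` and nontrivial at `y` and `j` sends `⟨a', y, j⟩` onto `A₅`. -/
theorem Amalgam.image_top (A : Amalgam e y a' j) {M : Subgroup G} (f : ↥M →* A5) {j' : G}
    (hj2 : j' * j' = 1) (hjy : j' * y * j'⁻¹ = y⁻¹) (hy : y ∈ M) (hj : j' ∈ M)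
    (hT : ∀ t ∈ L.T, t ∈ M) (hfT : ∀ t (ht : t ∈ L.T), f ⟨t, hT t ht⟩ = 1 → t = 1)
    (hfy : f ⟨y, hy⟩ ≠ 1) {U : Subgroup ↥M} (hyU : (⟨y, hy⟩ : ↥M) ∈ U) (hjU : (⟨j', hj⟩ : ↥M) ∈ U)
    (haU : (⟨a', hT a' A.a_mem⟩ : ↥M) ∈ U) : U.map f = ⊤ := by
  have ht₁ : y * a' * y⁻¹ ∈ L.T := (Subgroup.mem_normalizer_iff.mp A.y_norm a').mp A.a_mem
  set Y := f ⟨y, hy⟩ with hY
  set J := f ⟨j', hj⟩ with hJ
  set X := f ⟨a', hT a' A.a_mem⟩ with hX
  have hY3 : Y ^ 3 = 1 := by
    rw [hY, ← map_pow]; convert map_one f using 2; exact Subtype.ext A.y3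
  have hJ2 : J * J = 1 := by
    rw [hJ, ← map_mul]; convert map_one f using 2; exact Subtype.ext hj2
  have hJY : J * Y * J⁻¹ = Y⁻¹ := by
    rw [hJ, hY, ← map_inv, ← map_inv, ← map_mul, ← map_mul]; exact congrArg f (Subtype.ext hjy)
  have hJ1 : J ≠ 1 := fun k => by
    rw [k, one_mul, inv_one, mul_one] at hJY
    have h2 : Y ^ 2 = 1 := by rw [pow_two]; nth_rw 1 [hJY]; rw [inv_mul_cancel]
    exact hfy (eq_one_of_coprime_orders (m := 2) (n := 3) (by norm_num) h2 hY3)
  have hX' : Y * X * Y⁻¹ = f ⟨y * a' * y⁻¹, hT _ ht₁⟩ := by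
    rw [hY, hX, ← map_inv, ← map_mul, ← map_mul]; exact congrArg f (Subtype.ext rfl)
  refine five_eq_top ⟨hY3, hfy⟩ ⟨hJ2, hJ1, hJY⟩ (a := X) ⟨?_, fun k => A.a_ne (hfT _ A.a_mem k), fun k => ?_, ?_⟩
    ⟨_, hyU, rfl⟩ ⟨_, hjU, rfl⟩ ⟨_, haU, rfl⟩
  · rw [hX, ← map_mul]; convert map_one f using 2; exact Subtype.ext A.a2
  · rw [hX', hX] at k
    have h := hfT (a'⁻¹ * (y * a' * y⁻¹)) (mul_mem (inv_mem A.a_mem) ht₁) (by
      rw [show (⟨a'⁻¹ * (y * a' * y⁻¹), hT _ (mul_mem (inv_mem A.a_mem) ht₁)⟩ : ↥M) =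
        ⟨a', hT a' A.a_mem⟩⁻¹ * ⟨y * a' * y⁻¹, hT _ ht₁⟩ from rfl, map_mul, map_inv, k, inv_mul_cancel])
    exact A.a_move (inv_mul_eq_one.mp h).symm
  · rw [hX', hX, ← map_mul, ← map_mul]
    exact congrArg f (Subtype.ext (S.E_comm L.outside A.a_mem.1 ht₁.1))

set_option maxRecDepth 8000 in
theorem five_inv_to_wT : ∀ g : A5, g * g = 1 ∧ g ≠ 1 → ∃ b : A5, b * g * b⁻¹ = wT := by decide +kernel

/-- `C(z)` lies in the subgroup generated by the six involutions. -/
theorem Amalgam.C_le (A : Amalgam e y a' j) : S.C ≤ genGroup e y a' j := by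
  classical
  haveI : Fact (Nat.Prime 5) := ⟨by decide⟩
  set W := genGroup e y a' j with hW
  obtain ⟨hyW, haW, hjW⟩ := A.gens_mem
  have hz : bOf e (e ⟨S.z, K.z_mem⟩) = S.z := by simp [bOf]
  have hzz : e ⟨S.z, K.z_mem⟩ * e ⟨S.z, K.z_mem⟩ = 1 ∧ e ⟨S.z, K.z_mem⟩ ≠ 1 :=
    ⟨bOf_injective e (by rw [bOf_mul, hz, bOf_one, S.zz]),
      fun k => S.z_ne_one (by rw [← hz, k, bOf_one])⟩
  obtain ⟨b, hb⟩ := five_inv_to_wT _ hzz
  set c := bOf e b with hc
  have hcz : c * S.z * c⁻¹ = bOf e wT := by rw [hc, ← hz, ← bOf_inv, ← bOf_mul, ← bOf_mul, hb]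
  set j' := c⁻¹ * j * c with hj'
  have hj'C : j' ∈ S.C := mem_cent.mpr (by
    calc j' * S.z = c⁻¹ * (j * (c * S.z * c⁻¹)) * c := by rw [hj']; group
      _ = c⁻¹ * (c * S.z * c⁻¹ * j) * c := by rw [hcz, A.jw]
      _ = S.z * j' := by rw [hj']; group)
  have hj'W : j' ∈ W := mul_mem (mul_mem (inv_mem (A.bOf_mem_gen b)) hjW) (A.bOf_mem_gen b)
  have hj'2 : j' * j' = 1 := by
    rw [hj', show c⁻¹ * j * c * (c⁻¹ * j * c) = c⁻¹ * (j * j) * c by group, A.j2, mul_one, inv_mul_cancel]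
  have hcy : Commute c y := (show Commute y c from A.yB _ (bOf_mem e b)).symm
  have hj'y : j' * y * j'⁻¹ = y⁻¹ := by
    rw [hj', show c⁻¹ * j * c * y * (c⁻¹ * j * c)⁻¹ = c⁻¹ * (j * (c * y * c⁻¹) * j⁻¹) * c by group,
      hcy.eq, mul_inv_cancel_right, A.jy, mul_assoc, ← hcy.inv_right.eq, inv_mul_cancel_left]
  have hyC : y ∈ S.C := mem_cent.mpr (A.yB _ K.z_mem)
  have hTC : ∀ t ∈ L.T, t ∈ S.C := fun t ht => ht.1.1
  have hfT : ∀ t (ht : t ∈ L.T), S.ψ ⟨t, hTC t ht⟩ = 1 → t = 1 := fun t ht h =>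
    L.T_inf_F ht ⟨(S.ψ_ker _).mp h, mem_cent.mpr ((S.mem_E.mp ht.1).2)⟩
  have hfy : S.ψ ⟨y, hyC⟩ ≠ 1 := fun h => by
    have h1 := Subgroup.orderOf_dvd_natCard _ ((S.ψ_ker _).mp h : y ∈ S.Q)
    rw [S.card_Q, orderOf_eq_prime (hp := ⟨Nat.prime_three⟩) A.y3 A.y_ne] at h1
    norm_num at h1
  set U : Subgroup ↥S.C := W.subgroupOf S.C with hU
  have htop : U.map S.ψ = ⊤ :=
    A.image_top S.ψ hj'2 hj'y hyC hj'C hTC hfT hfy (U := U) hyW hj'W haW
  -- an element of order five
  have h5 : 5 ∣ Nat.card ↥U := by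
    refine dvd_trans (show 5 ∣ Nat.card A5 by rw [five_card]; norm_num)
      (Subgroup.card_dvd_of_surjective (S.ψ.comp U.subtype) fun b => ?_)
    obtain ⟨u, hu, rfl⟩ := (htop ▸ Subgroup.mem_top b : b ∈ U.map S.ψ)
    exact ⟨⟨u, hu⟩, rfl⟩
  obtain ⟨g, hg⟩ := exists_prime_orderOf_dvd_card' (G := ↥U) 5 h5
  rw [← Subgroup.orderOf_coe, ← Subgroup.orderOf_coe] at hg
  set gG : G := ((g : ↥S.C) : G) with hgG
  have hgC : gG ∈ S.C := (g : ↥S.C).2
  have hgW : gG ∈ W := g.2
  -- `Q` lies in `W`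
  have hQ : S.Q ≤ W := by
    set R : Subgroup G := S.Q ⊓ W with hR
    have hzW : S.z ∈ W := hz ▸ A.bOf_mem_gen _
    have huW : L.u ∈ W := by
      have hu : bOf e (e ⟨L.u, K.u_mem⟩) = L.u := by simp [bOf]
      exact hu ▸ A.bOf_mem_gen _
    have hgR : ∀ r ∈ R, gG * r * gG⁻¹ ∈ R := fun r hr =>
      Subgroup.mem_inf.mpr ⟨S.conj_mem hgC hr.1,
        mul_mem (mul_mem hgW (Subgroup.mem_inf.mp hr).2) (inv_mem hgW)⟩
    suffices R = S.Q from this ▸ inf_le_right
    by_contra hne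
    have hd : Nat.card ↥R ∣ 2 ^ 5 := by
      rw [show (2 : ℕ) ^ 5 = Nat.card ↥S.Q by rw [S.card_Q]; norm_num]
      exact Subgroup.card_dvd_of_le inf_le_left
    obtain ⟨i, hi, hi'⟩ := (Nat.dvd_prime_pow Nat.prime_two).mp hd
    have hi4 : i ≤ 4 := by
      by_contra k
      refine hne (Subgroup.eq_of_le_of_card_ge inf_le_left ?_)
      rw [hi', S.card_Q, show i = 5 by omega]; norm_num
    let T := {r : ↥R // ¬ S.Zp (r : G)}
    have hcard : Nat.card T + 2 = 2 ^ i := by
      have h1 := Nat.card_congr (Equiv.sumCompl fun r : ↥R => S.Zp (r : G))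
      rw [Nat.card_sum, hi'] at h1
      have h2 : Nat.card {r : ↥R // S.Zp (r : G)} = 2 := by
        let v : Fin 2 → {r : ↥R // S.Zp (r : G)} :=
          ![⟨1, .inl rfl⟩, ⟨⟨S.z, S.z_mem_Q, hzW⟩, .inr rfl⟩]
        rw [← Nat.card_fin 2]
        refine (Nat.card_eq_of_bijective v ⟨fun p q h => ?_, fun r => ?_⟩).symm
        · have h' : (((v p).1 : ↥R) : G) = (((v q).1 : ↥R) : G) := by rw [h]
          fin_cases p <;> fin_cases q <;> first | rfl | (exact absurd h'.symm S.z_ne_one) | exact absurd h' S.z_ne_one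
        · rcases r.2 with h | h
          · exact ⟨0, Subtype.ext (Subtype.ext h.symm)⟩
          · exact ⟨1, Subtype.ext (Subtype.ext h.symm)⟩
      have h3 : Nat.card T = Nat.card {r : ↥R // ¬ S.Zp (r : G)} := rfl
      omega
    let σ : Equiv.Perm T := Equiv.ofBijective
      (fun r => (⟨⟨_, hgR _ r.1.2⟩, fun h => r.2 (by
        rcases h with h | h
        · exact .inl (conj_eq_one_iff.mp h)
        · refine .inr (mul_left_cancel (a := gG) ?_)
          have h' : gG * ((r.1 : ↥R) : G) * gG⁻¹ = S.z := h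
          rw [mul_inv_eq_iff_eq_mul.mp h', (S.z_comm hgC)])⟩ : T))
      (Finite.injective_iff_bijective.mp fun r r' h => Subtype.ext (Subtype.ext
        (mul_left_cancel (mul_right_cancel (congrArg (fun v : T => ((v.1 : ↥R) : G)) h :)))))
    haveI : Fintype T := Fintype.ofFinite T
    have hσn : ∀ (m : ℕ) (r : T), ((((σ ^ m) r).1 : ↥R) : G) = gG ^ m * ((r.1 : ↥R) : G) * (gG ^ m)⁻¹ := by
      intro m
      induction m with
      | zero => intro r; simp
      | succ m ih =>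
        intro r
        rw [pow_succ', Equiv.Perm.mul_apply]
        show gG * ((((σ ^ m) r).1 : ↥R) : G) * gG⁻¹ = _
        rw [ih, pow_succ']; group
    have h5' : σ ^ 5 = 1 := Equiv.ext fun r => Subtype.ext (Subtype.ext (by
      rw [hσn, show gG ^ 5 = 1 from hg ▸ pow_orderOf_eq_one _]; simp))
    have hcount := Equiv.Perm.card_compl_support_modEq (p := 5) (n := 1) (σ := σ) (by rw [pow_one]; exact h5')
    obtain ⟨r, hr⟩ : ∃ r, σ r = r := by
      by_contra h
      push Not at h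
      rw [Finset.eq_univ_of_forall fun r => Equiv.Perm.mem_support.mpr (h r), Finset.compl_univ,
        Finset.card_empty, ← Nat.card_eq_fintype_card] at hcount
      have hu : Nat.card T ≠ 0 := Nat.card_ne_zero.mpr ⟨⟨⟨L.u, L.u_mem, huW⟩, L.u_nz⟩, inferInstance⟩
      have h0 : Nat.card T % 5 = 0 := by rw [← hcount]
      interval_cases i <;> omega
    have hr' : gG * ((r.1 : ↥R) : G) * gG⁻¹ = ((r.1 : ↥R) : G) :=
      congrArg (fun v : T => ((v.1 : ↥R) : G)) hr
    exact r.2 (S.fix_five hgC hg r.1.2.1 (mul_inv_eq_iff_eq_mul.mp hr'))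
  intro x hx
  obtain ⟨u, hu, hu'⟩ := (htop ▸ Subgroup.mem_top (S.ψ ⟨x, hx⟩) : S.ψ ⟨x, hx⟩ ∈ U.map S.ψ)
  have h := hQ ((S.ψ_ker (u⁻¹ * ⟨x, hx⟩)).mp (by rw [map_mul, map_inv, hu', inv_mul_cancel]))
  have h' := mul_mem (show (u : G) ∈ W from hu) h
  simpa using h'

/-- `25` divides the order of the subgroup generated by the six involutions. -/
theorem Amalgam.twentyfive (A : Amalgam e y a' j) : 25 ∣ Nat.card ↥(genGroup e y a' j) := by
  haveI : Fact (Nat.Prime 5) := ⟨by decide⟩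
  set W := genGroup e y a' j with hW
  obtain ⟨hyW, haW, hjW⟩ := A.gens_mem
  set x := bOf e xT with hx
  have hx5 : x ^ 5 = 1 := by rw [hx, ← bOf_pow, five_xw.1, bOf_one]
  have hxo : orderOf x = 5 :=
    orderOf_eq_prime hx5 fun k => five_xw.2.1 (bOf_injective e (k.trans (bOf_one e).symm))
  set M : Subgroup G := Subgroup.centralizer ({x} : Set G) with hM
  obtain ⟨f, hf, hker⟩ : ∃ f : ↥M →* A5, Function.Surjective f ∧ ∀ m, f m = 1 ↔ (m : G) ∈ zpowers x :=
    (K.cent_five_full (bOf_mem e xT) hxo).2.2.2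
  have hcard : Nat.card ↥M = 300 := (K.cent_five_full (bOf_mem e xT) hxo).1
  have hTM : ∀ t ∈ L.T, t ∈ M := fun t ht => mem_cent.mpr (bOf_comm_T e ht _)
  have hyM : y ∈ M := mem_cent.mpr (A.yB _ (bOf_mem e _))
  have hjM : j ∈ M := mem_cent.mpr A.jx
  have hfT : ∀ t (ht : t ∈ L.T), f ⟨t, hTM t ht⟩ = 1 → t = 1 := fun t ht h =>
    K.T_inf_B ht (zpowers_le.mpr (bOf_mem e xT) ((hker _).mp h))
  have hfy : f ⟨y, hyM⟩ ≠ 1 := fun h => A.y_ne (by
    obtain ⟨k, hk⟩ := mem_zpowers_iff.mp ((hker _).mp h)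
    refine eq_one_of_coprime_orders (m := 5) (n := 3) (by norm_num) ?_ A.y3
    have hk' : x ^ k = y := hk
    rw [← hk', ← zpow_natCast, ← zpow_mul, mul_comm, zpow_mul, zpow_natCast, hx5, one_zpow])
  set U : Subgroup ↥M := W.subgroupOf M with hU
  have htop : U.map f = ⊤ := A.image_top f A.j2 A.jy hyM hjM hTM hfT hfy (U := U) hyW hjW haW
  have hle : M ≤ W := by
    intro v hv
    obtain ⟨u, hu, hu'⟩ := (htop ▸ Subgroup.mem_top (f ⟨v, hv⟩) : f ⟨v, hv⟩ ∈ U.map f)
    have h := (hker (u⁻¹ * ⟨v, hv⟩)).mp (by rw [map_mul, map_inv, hu', inv_mul_cancel])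
    have h' := mul_mem (show (u : G) ∈ W from hu) (zpowers_le.mpr (A.bOf_mem_gen xT) h)
    simpa using h'
  refine dvd_trans ?_ (Subgroup.card_dvd_of_le hle)
  rw [hcard]; norm_num

/-- `27` divides the order of the subgroup generated by the six involutions. -/
theorem Amalgam.twentyseven (A : Amalgam e y a' j) : 27 ∣ Nat.card ↥(genGroup e y a' j) := by
  haveI : Fact (Nat.Prime 3) := ⟨Nat.prime_three⟩
  set W := genGroup e y a' j with hW
  obtain ⟨hyW, haW, hjW⟩ := A.gens_mem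
  set q := bOf e qT with hq
  set t := j * bOf e q1T * j⁻¹ with ht
  have hyo : orderOf y = 3 := orderOf_eq_prime A.y3 A.y_ne
  have hq3 : q ^ 3 = 1 := by rw [hq, ← bOf_pow, five_xw.2.2.2.2.2.2.2.1, bOf_one]
  have hq1 : q ≠ 1 := fun k => five_xw.2.2.2.2.2.2.2.2.1 (bOf_injective e (k.trans (bOf_one e).symm))
  have hyq : Commute y q := A.yB q (bOf_mem e _)
  have hqy : q ∉ zpowers y := fun h => hq1 (K.center_trivial (bOf_mem e _) fun w hw => by
    obtain ⟨i, hi⟩ := mem_zpowers_iff.mp h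
    rw [← hi]
    exact ((show Commute y w from A.yB w hw).zpow_left i).eq)
  have hty : Commute t y := by
    have h : Commute (bOf e q1T) y := (show Commute y _ from A.yB _ (bOf_mem e q1T)).symm
    have h' : Commute t (j * y * j⁻¹) := (Commute.conj_iff (h := j)).mpr h
    rw [A.jy] at h'
    exact Commute.inv_right_iff.mp h'
  have ht3 : t ^ 3 = 1 := by
    rw [ht, conj_pow, ← bOf_pow, five_xw.2.2.2.2.2.2.2.2.2.1, bOf_one, mul_one, mul_inv_cancel]
  have htq : t * q * t⁻¹ = y * q := by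
    have h1 : q * t * q⁻¹ * t⁻¹ = y⁻¹ := eq_inv_of_mul_eq_one_left A.key
    calc t * q * t⁻¹ = (q * t * q⁻¹ * t⁻¹)⁻¹ * q := by group
      _ = y * q := by rw [h1, inv_inv]
  set V := pairGroup y q hyq with hV
  have hVW : V ≤ W := by
    rintro _ ⟨i, k, rfl⟩
    exact mul_mem (zpow_mem hyW i) (zpow_mem (A.bOf_mem_gen _) k)
  by_contra h27
  have hV9 : Nat.card ↥V = 9 := by
    have h3 : ∀ v ∈ V, v ^ 3 = 1 := by
      rintro _ ⟨i, k, rfl⟩
      rw [(hyq.zpow_zpow i k).mul_pow, ← zpow_natCast, ← zpow_mul, mul_comm, zpow_mul, zpow_natCast,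
        A.y3, one_zpow, one_mul, ← zpow_natCast, ← zpow_mul, mul_comm, zpow_mul, zpow_natCast, hq3, one_zpow]
    have hp : IsPGroup 3 ↥V := fun v => ⟨1, Subtype.ext (by rw [pow_one]; exact h3 v v.2)⟩
    obtain ⟨l, hl⟩ := hp.exists_card_eq
    have hy3 : zpowers y ≤ V := zpowers_le.mpr left_mem_pairGroup
    have hlt : 3 < Nat.card ↥V := by
      rw [← hyo, ← Nat.card_zpowers]
      by_contra hle
      exact hqy ((Subgroup.eq_of_le_of_card_ge hy3 (by omega)).symm ▸ right_mem_pairGroup)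
    have hd : 3 ^ l ∣ Nat.card ↥W := hl ▸ Subgroup.card_dvd_of_le hVW
    rw [hl] at hlt ⊢
    rcases Nat.lt_or_ge l 3 with hl3 | hl3
    · interval_cases l <;> omega
    · exact absurd ((pow_dvd_pow 3 hl3).trans hd) (by simpa using h27)
  have hfac : (Nat.card ↥W).factorization 3 = 2 := by
    have h2 : 2 ≤ (Nat.card ↥W).factorization 3 :=
      (Nat.Prime.pow_dvd_iff_le_factorization Nat.prime_three Nat.card_pos.ne').mp
        (by have := Subgroup.card_dvd_of_le hVW; rw [hV9] at this; exact this)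
    have h3 : ¬ 3 ≤ (Nat.card ↥W).factorization 3 := fun k => h27
      ((Nat.Prime.pow_dvd_iff_le_factorization Nat.prime_three Nat.card_pos.ne').mpr k)
    omega
  let P : Sylow 3 ↥W := Sylow.ofCard (V.subgroupOf W) (by
    rw [Nat.card_congr (Subgroup.subgroupOfEquivOfLe hVW).toEquiv, hV9, hfac]; norm_num)
  have htW : t ∈ W := mul_mem (mul_mem hjW (A.bOf_mem_gen _)) (inv_mem hjW)
  have hconj : ∀ v ∈ V, t * v * t⁻¹ ∈ V := by
    rintro _ ⟨i, k, rfl⟩
    rw [show t * (y ^ i * q ^ k) * t⁻¹ = (t * y ^ i * t⁻¹) * (t * q ^ k * t⁻¹) by group, ← conj_zpow,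
      ← conj_zpow, hty.eq, mul_inv_cancel_right, htq]
    exact mul_mem (zpow_mem left_mem_pairGroup i) (zpow_mem (mul_mem left_mem_pairGroup right_mem_pairGroup) k)
  have hmem := mem_of_mem_normalizer_sylow P (k := ⟨t, htW⟩) (by
    obtain ⟨l, -, hl⟩ := (Nat.dvd_prime_pow Nat.prime_three).mp
      (orderOf_dvd_of_pow_eq_one (show (⟨t, htW⟩ : ↥W) ^ 3 ^ 1 = 1 from Subtype.ext (by simpa using ht3)))
    exact IsPGroup.of_card (n := l) (by rw [Nat.card_zpowers, hl])) (by
    refine Subgroup.mem_normalizer_iff.mpr fun v => ⟨fun hv => hconj _ hv, fun hv => ?_⟩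
    have h1 : t * (v : G) * t⁻¹ ∈ V := hv
    have h2 := hconj _ (hconj _ h1)
    have e1 : t * (t * (t * (v : G) * t⁻¹) * t⁻¹) * t⁻¹ = t ^ 3 * (v : G) * (t ^ 3)⁻¹ := by
      simp only [pow_succ, pow_zero, one_mul, mul_inv_rev, mul_assoc]
    rw [e1, ht3, one_mul, inv_one, mul_one] at h2
    exact h2)
  obtain ⟨i, k, hik⟩ : t ∈ V := hmem
  have hqt : Commute q t := by
    rw [← hik]
    exact (hyq.symm.zpow_right i).mul_right ((Commute.refl q).zpow_right k)
  have h := A.key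
  rw [← hq, ← ht, hqt.eq, mul_inv_cancel_right, mul_inv_cancel, one_mul] at h
  exact A.y_ne h

/-- The six involutions generate the group. -/
theorem Amalgam.gen_top (A : Amalgam e y a' j) : genGroup e y a' j = ⊤ := by
  classical
  set W := genGroup e y a' j with hW
  have hG := S.card_group
  have h1920 : 1920 ∣ Nat.card ↥W := S.card_C ▸ Subgroup.card_dvd_of_le A.C_le
  have h25 := A.twentyfive
  have h27 := A.twentyseven
  have h86400 : 86400 ∣ Nat.card ↥W := by
    have h := Nat.lcm_dvd (Nat.lcm_dvd h1920 h25) h27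
    exact (by decide +kernel : Nat.lcm (Nat.lcm 1920 25) 27 = 86400) ▸ h
  have hmul := W.index_mul_card
  rw [hG] at hmul
  obtain ⟨k, hk⟩ := h86400
  rw [hk] at hmul
  have hki : W.index * k = 7 := by
    have : 86400 * (W.index * k) = 86400 * 7 := by rw [← mul_assoc, mul_comm 86400, mul_assoc]; exact hmul
    omega
  rcases (Nat.dvd_prime (by decide : Nat.Prime 7)).mp (Dvd.intro _ hki) with h | h
  · exact Subgroup.index_eq_one.mp h
  · exfalso
    haveI : Finite (G ⧸ W) := inferInstance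
    set φ := MulAction.toPermHom G (G ⧸ W) with hφ
    have hd : Nat.card ↥φ.range ∣ 5040 := by
      have := Subgroup.card_subgroup_dvd_card φ.range
      rwa [Nat.card_perm, ← Subgroup.index_eq_card, h] at this
    have hker : φ.ker = W.normalCore := (Subgroup.normalCore_eq_ker W).symm
    have hm := φ.ker.card_mul_index
    rw [Subgroup.index_ker, hG] at hm
    have h5 : 5 ∣ Nat.card ↥φ.ker := by
      by_contra h5
      have h25 : 5 ^ 2 ∣ Nat.card ↥φ.range := (Nat.Coprime.dvd_of_dvd_mul_left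
        (((Nat.Prime.coprime_iff_not_dvd (by decide : Nat.Prime 5)).mpr h5).pow_left 2)
        (hm ▸ (by norm_num : 5 ^ 2 ∣ 604800)))
      have := h25.trans hd
      norm_num at this
    haveI := φ.normal_ker
    have h7 := S.seven_dvd_of_five_dvd hG φ.ker h5
    have hle : Nat.card ↥φ.ker ∣ Nat.card ↥W := Subgroup.card_dvd_of_le (hker ▸ Subgroup.normalCore_le W)
    have h7' := h7.trans hle
    rw [hk, show k = 1 by rw [h] at hki; omega] at h7'
    norm_num at h7'

/-- `N(T)` contains no nontrivial normal subgroup of `G`. -/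
theorem core_normalizer_T (K : Setup.Local.Factor L) (e : ↥K.B ≃* A5) :
    (Subgroup.normalizer (L.T : Set G)).normalCore = ⊥ := by
  classical
  set H := Subgroup.normalizer (L.T : Set G) with hH
  set N := H.normalCore with hN
  haveI : N.Normal := Subgroup.normalCore_normal H
  have h5 : ¬ 5 ∣ Nat.card ↥N := fun h => by
    have h7 := (S.seven_dvd_of_five_dvd S.card_group N h).trans (Subgroup.card_dvd_of_le H.normalCore_le)
    rw [K.card_normalizer_T] at h7
    norm_num at h7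
  have hNB : ∀ b ∈ N, b ∈ K.B → b = 1 := by
    intro b hbN hbB
    haveI : Nontrivial ↥K.B := Finite.one_lt_card_iff_nontrivial.mp (by rw [K.card_B]; norm_num)
    haveI := alternatingGroup.isSimpleGroup_five
    haveI : IsSimpleGroup ↥K.B := IsSimpleGroup.isSimpleGroup_of_surjective e.symm.toMonoidHom e.symm.surjective
    rcases (inferInstance : (N.subgroupOf K.B).Normal).eq_bot_or_eq_top with h | h
    · have : (⟨b, hbB⟩ : ↥K.B) ∈ N.subgroupOf K.B := hbN
      rw [h, Subgroup.mem_bot] at this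
      exact congrArg Subtype.val this
    · exfalso
      have hle : K.B ≤ N := Subgroup.subgroupOf_eq_top.mp h
      exact h5 ((show 5 ∣ Nat.card ↥K.B by rw [K.card_B]; norm_num).trans (Subgroup.card_dvd_of_le hle))
  have hzN : S.z ∉ N := fun h => S.z_ne_one (hNB _ h K.z_mem)
  have hNC : ∀ k ∈ N, k ∈ S.C := by
    intro k hk
    have h1 : k * S.z * k⁻¹ * S.z⁻¹ ∈ K.B :=
      mul_mem (K.conj_B_mem (H.normalCore_le hk) K.z_mem) (inv_mem K.z_mem)
    have h2 : k * S.z * k⁻¹ * S.z⁻¹ ∈ N := by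
      rw [show k * S.z * k⁻¹ * S.z⁻¹ = k * (S.z * k⁻¹ * S.z⁻¹) by group]
      exact mul_mem hk ((inferInstance : N.Normal).conj_mem _ (inv_mem hk) _)
    exact mem_cent.mpr (mul_inv_eq_iff_eq_mul.mp (mul_inv_eq_one.mp (hNB _ h2 h1)))
  have hNQ : ∀ r ∈ N, r ∈ S.Q → r = 1 := by
    intro r hrN hrQ
    have hc : ∀ q ∈ S.Q, r * q = q * r := by
      intro q hq
      have h2 : r * q * r⁻¹ * q⁻¹ ∈ N := by
        rw [show r * q * r⁻¹ * q⁻¹ = r * (q * r⁻¹ * q⁻¹) by group]
        exact mul_mem hrN ((inferInstance : N.Normal).conj_mem _ (inv_mem hrN) _)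
      rcases S.comm_zp hrQ hq with h | h
      · exact mul_inv_eq_iff_eq_mul.mp (mul_inv_eq_one.mp h)
      · exact absurd (h ▸ h2) hzN
    exact (S.center_cases hrQ hc).resolve_right fun h => hzN (h ▸ hrN)
  rw [Subgroup.eq_bot_iff_forall]
  intro k hk
  refine hNQ k hk (S.self k (hNC k hk) fun q hq => ?_)
  have h1 : k * q * k⁻¹ * q⁻¹ ∈ S.Q := mul_mem (S.conj_mem (hNC k hk) hq) (inv_mem hq)
  have h2 : k * q * k⁻¹ * q⁻¹ ∈ N := by
    rw [show k * q * k⁻¹ * q⁻¹ = k * (q * k⁻¹ * q⁻¹) by group]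
    exact mul_mem hk ((inferInstance : N.Normal).conj_mem _ (inv_mem hk) _)
  exact mul_inv_eq_iff_eq_mul.mp (mul_inv_eq_one.mp (hNQ _ h2 h1))

end Setup.Local.Factor

/-- A group of Hall–Janko type is isomorphic to the group of the table. -/
theorem Setup.nonempty_table_iso {G : Type u} [Group G] [Finite G] (S : Setup G) :
    Nonempty (G ≃* ↥tableGroup) := by
  classical
  obtain ⟨a, ha⟩ := S.exists_outside
  obtain ⟨L⟩ := S.exists_local ha
  obtain ⟨K⟩ := L.exists_factor
  obtain ⟨e⟩ := K.nonempty_iso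
  obtain ⟨y, a', j, A⟩ := Setup.Local.Factor.exists_amalgam (K := K) e
  set H := Subgroup.normalizer (L.T : Set G) with hH
  set s := Setup.Local.Factor.letters e y a' j with hs
  obtain ⟨c, hc0, hc⟩ : ∃ c : ℕ → G ⧸ H, c 0 = QuotientGroup.mk 1 ∧
      ∀ i g, i < Presented.J2C840.cert.N → g < Presented.J2C840.cert.m →
        s g • c i = c (Presented.J2C840.cert.actOf i g) := A.exists_map
  let cF : Fin 840 → G ⧸ H := fun i => c i
  have hcF : ∀ (g : Fin 6) (i : Fin 840), s g • cF i = cF (tablePerm g i) := fun g i => by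
    show s g • c i = c (tablePerm g i : ℕ)
    rw [tablePerm_val]
    exact hc i g (by rw [cert_N]; exact i.2) (by rw [cert_m]; exact g.2)
  have hstab : ∀ g : G, ∀ i, ∃ k, g • cF i = cF k := by
    intro g
    have hg : g ∈ Setup.Local.Factor.genGroup e y a' j := A.gen_top ▸ Subgroup.mem_top g
    induction hg using Subgroup.closure_induction with
    | mem v hv =>
      obtain ⟨k, hk, rfl⟩ := hv
      exact fun i => ⟨_, hcF ⟨k, hk⟩ i⟩
    | one => exact fun i => ⟨i, one_smul _ _⟩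
    | mul p q _ _ hp hq =>
      intro i
      obtain ⟨k, hk⟩ := hq i
      obtain ⟨l, hl⟩ := hp k
      exact ⟨l, by rw [mul_smul, hk, hl]⟩
    | inv p _ hp =>
      intro i
      choose π hπ using hp
      have hinj : ∀ u v, cF (π u) = cF (π v) → cF u = cF v := fun u v huv => by
        rw [← hπ, ← hπ] at huv
        exact MulAction.injective p huv
      -- `p` permutes the finite image
      have hfin : Function.Surjective (fun x : Set.range cF => (⟨p • (x : G ⧸ H), by
          obtain ⟨u, hu⟩ := x.2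
          exact ⟨π u, by rw [← hu, hπ]⟩⟩ : Set.range cF)) :=
        Finite.injective_iff_surjective.mp fun u v huv =>
          Subtype.ext (MulAction.injective p (congrArg Subtype.val huv :))
      obtain ⟨⟨_, k, rfl⟩, hk⟩ := hfin ⟨cF i, i, rfl⟩
      exact ⟨k, by rw [inv_smul_eq_iff]; exact (congrArg Subtype.val hk :).symm⟩
  have hsurj : Function.Surjective cF := fun x => by
    induction x using QuotientGroup.induction_on with
    | H g =>
      obtain ⟨k, hk⟩ := hstab g ⟨0, by norm_num⟩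
      refine ⟨k, hk.symm.trans ?_⟩
      show g • c 0 = _
      rw [hc0, MulAction.Quotient.smul_mk, smul_eq_mul, mul_one]
  have hcard : Nat.card (G ⧸ H) = 840 := by
    have h := Subgroup.card_eq_card_quotient_mul_card_subgroup H
    rw [S.card_group, K.card_normalizer_T] at h
    omega
  have hbij : Function.Bijective cF :=
    (Nat.bijective_iff_surjective_and_card _).mpr ⟨hsurj, by rw [hcard, Nat.card_fin]⟩
  set ε := Equiv.ofBijective cF hbij with hε
  let φ : G →* Equiv.Perm (Fin 840) :=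
    ε.symm.permCongrHom.toMonoidHom.comp (MulAction.toPermHom G (G ⧸ H))
  have hφ : ∀ g i, φ g i = ε.symm (g • ε i) := fun g i => rfl
  have hφs : ∀ g : Fin 6, φ (s g) = tablePerm g := fun g => Equiv.ext fun i => by
    rw [hφ, Equiv.symm_apply_eq]
    exact hcF g i
  have hinj : Function.Injective φ := by
    refine (ε.symm.permCongrHom.injective.comp ?_)
    rw [← MonoidHom.ker_eq_bot_iff, ← Subgroup.normalCore_eq_ker]
    exact Setup.Local.Factor.core_normalizer_T K e
  have hrange : φ.range = tableGroup := by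
    rw [MonoidHom.range_eq_map, ← A.gen_top, Setup.Local.Factor.genGroup, MonoidHom.map_closure,
      tableGroup]
    refine congrArg Subgroup.closure (Set.ext fun π => ?_)
    constructor
    · rintro ⟨_, ⟨k, hk, rfl⟩, rfl⟩
      exact ⟨⟨k, hk⟩, (hφs ⟨k, hk⟩).symm⟩
    · rintro ⟨g, rfl⟩
      exact ⟨_, ⟨g, g.2, rfl⟩, hφs g⟩
  exact ⟨(MonoidHom.ofInjective hinj).trans (MulEquiv.subgroupCongr hrange)⟩

end Cfsg.Agent.HallJankoType
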