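import Cfsg.Agent.Lib.HallJankoType.Identify
import Cfsg.Agent.Lib.HallJankoType.Hypotheses
import Cfsg.Agent.Lib.LeechIcosian.J2Local

/-!
`J₂` is a group of Hall–Janko type; hence every group of Hall–Janko type is isomorphic to it.
-/

set_option autoImplicit false
set_option linter.style.haveILetI false

namespace Cfsg.Agent.HallJankoType

open Cfsg Cfsg.Spor

universe u

/-- A word for an involution of the second class. -/
def secondWord : List ℕ := [0, 1, 2, 0, 3, 2, 0, 3, 0, 1, 2, 0, 3, 2, 0, 3, 0, 1, 2, 0, 3, 2, 0, 3]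

theorem secondWord_check :
    (List.range 315).all (fun x => decide (HJ.awN (secondWord ++ secondWord) x = x)) &&
      decide (((List.range 315).filter fun x => decide (HJ.awN secondWord x = x)).length = 15) &&
      decide (((List.range 315).filter fun x => decide (HJ.awN [0] x = x)).length = 11) = true := by
  decide +kernel

theorem card_fix_word (l : List ℕ) (hl : ∀ k ∈ l, k < 4) :
    (Finset.univ.filter fun x : Fin 315 => HJ.wP (HJ.toWord l) x = x).card =
      ((List.range 315).filter fun x => decide (HJ.awN l x = x)).length := by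
  rw [← List.toFinset_card_of_nodup (List.nodup_range.filter _),
    ← Finset.card_map ⟨Fin.val, Fin.val_injective⟩]
  refine congrArg Finset.card (Finset.ext fun n => ?_)
  simp only [Finset.mem_map, Finset.mem_filter, Finset.mem_univ, true_and, List.mem_toFinset,
    List.mem_filter, List.mem_range, decide_eq_true_eq, Function.Embedding.coeFn_mk]
  constructor
  · rintro ⟨x, hx, rfl⟩
    exact ⟨x.2, by rw [← HJ.wP_toWord l hl x, hx]⟩
  · rintro ⟨hn, h⟩
    exact ⟨⟨n, hn⟩, Fin.ext (by rw [HJ.wP_toWord l hl]; exact h), rfl⟩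

theorem j2_two_classes : ∃ x y : J2, orderOf x = 2 ∧ orderOf y = 2 ∧ ¬ IsConj x y := by
  haveI := Fact.mk Nat.prime_two
  have hc := secondWord_check
  simp only [Bool.and_eq_true, decide_eq_true_eq, List.all_eq_true, List.mem_range] at hc
  obtain ⟨⟨hinv, h15⟩, h11⟩ := hc
  have hl : ∀ k ∈ secondWord, k < 4 := by decide
  have hl0 : ∀ k ∈ [0], k < 4 := by decide
  let v : HJ.P := ⟨HJ.wP (HJ.toWord secondWord), HJ.wP_mem _⟩
  let z : HJ.P := ⟨HJ.wP (HJ.toWord [0]), HJ.wP_mem _⟩
  have hfix : ∀ (p : HJ.P) (n : ℕ), (Finset.univ.filter fun x : Fin 315 => (p : Equiv.Perm (Fin 315)) x = x).card = n →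
      n ≠ 315 → p ≠ 1 := fun p n h hn e => hn (by
    rw [← h, e]; simp)
  have hz11 := (card_fix_word [0] hl0).trans h11
  have hv15 := (card_fix_word secondWord hl).trans h15
  have hv : orderOf v = 2 := by
    refine orderOf_eq_prime ?_ (hfix v 15 hv15 (by norm_num))
    refine Subtype.ext (Equiv.ext fun x => Fin.ext ?_)
    rw [pow_two]
    show (HJ.wP (HJ.toWord secondWord) * HJ.wP (HJ.toWord secondWord)) x = (x : ℕ)
    rw [← HJ.wP_toWord_append, HJ.wP_toWord _ (by decide)]
    exact hinv x x.2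
  have hz : orderOf z = 2 := by
    refine orderOf_eq_prime ?_ (hfix z 11 hz11 (by norm_num))
    refine Subtype.ext ?_
    rw [Subgroup.coe_pow, pow_two]
    show (HJ.gperm 0 * 1) * (HJ.gperm 0 * 1) = 1
    rw [mul_one, HJ.gperm_sq]
  refine ⟨HJ.isoP.symm z, HJ.isoP.symm v, by rw [MulEquiv.orderOf_eq, hz], by rw [MulEquiv.orderOf_eq, hv],
    fun h => ?_⟩
  obtain ⟨c, hc⟩ := isConj_iff.mp h
  have e : HJ.isoP c * z * (HJ.isoP c)⁻¹ = v := by
    have := congrArg HJ.isoP hc
    simpa using this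
  set d : Equiv.Perm (Fin 315) := ((HJ.isoP c : HJ.P) : Equiv.Perm (Fin 315)) with hd
  have e' : d * (z : Equiv.Perm (Fin 315)) * d⁻¹ = (v : Equiv.Perm (Fin 315)) := congrArg Subtype.val e
  have heq : (Finset.univ.filter fun x : Fin 315 => (v : Equiv.Perm (Fin 315)) x = x).card =
      (Finset.univ.filter fun x : Fin 315 => (z : Equiv.Perm (Fin 315)) x = x).card := by
    rw [← Finset.card_map d.toEmbedding (s := Finset.univ.filter fun x : Fin 315 => (z : Equiv.Perm (Fin 315)) x = x)]
    refine congrArg Finset.card (Finset.ext fun x => ?_)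
    rw [Finset.mem_map_equiv, Finset.mem_filter, Finset.mem_filter, ← e']
    simp only [Finset.mem_univ, true_and, Equiv.Perm.mul_apply]
    rw [show d⁻¹ x = d.symm x from rfl, Equiv.apply_eq_iff_eq_symm_apply]
  exact absurd ((hv15.symm.trans heq).trans hz11) (by norm_num)

/-- `J₂` is of Hall–Janko type. -/
theorem exists_setup_j2 : Nonempty (Setup J2) := by
  haveI : Finite J2 := Finite.of_equiv _ HJ.isoP.symm.toEquiv
  obtain ⟨z, hz, Q, hQn, hF, hQ, hcard, ⟨e⟩, hnwc⟩ := LeechIcosian.large_extraspecial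
  obtain ⟨S, -, -⟩ := exists_setup z hz Q hF hQ hcard e hnwc j2_two_classes
  exact ⟨S⟩

/-- A group of Hall–Janko type is isomorphic to `J₂`. -/
theorem Setup.isoJ2 {G : Type u} [Group G] [Finite G] (S : Setup G) : IsoJ2 G := by
  haveI : Finite J2 := Finite.of_equiv _ HJ.isoP.symm.toEquiv
  obtain ⟨T⟩ := exists_setup_j2
  obtain ⟨e₁⟩ := S.nonempty_table_iso
  obtain ⟨e₂⟩ := T.nonempty_table_iso
  exact ⟨e₁.trans e₂.symm⟩

end Cfsg.Agent.HallJankoType
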