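import Cfsg.Agent.Lib.HallJankoType.Main
import Cfsg.Agent.Lib.PSL2.Klein
import Cfsg.Agent.Lib.PCore.Basic

/-!
`C(a) ≅ 2² × A₅` and `N(O₂(C(a))) ≅ A₄ × A₅` in a group of Hall–Janko type.
-/

set_option autoImplicit false
set_option linter.style.haveILetI false
set_option linter.unusedSectionVars false

namespace Cfsg.Agent.HallJankoType

open Cfsg.Agent.JankoOrder (Inv inv_iff_orderOf)
open Subgroup

universe u

local notation "A5" => alternatingGroup (Fin 5)

namespace Setup.Local.Factor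

variable {G : Type u} [Group G] {S : Setup G} [Finite G] {a : G} {L : Setup.Local S a}

theorem center_trivial (K : Setup.Local.Factor L) {b : G} (hb : b ∈ K.B)
    (hc : ∀ x ∈ K.B, b * x = x * b) : b = 1 := by
  have hbF : b ∈ F S a := K.cent_z hb (hc _ K.z_mem)
  exact L.T_inf_F (L.mem_T.mpr ⟨F_le_E hbF, hc _ K.n_mem⟩) hbF

theorem mem_T_iff (K : Setup.Local.Factor L) {x : G} : x ∈ L.T ↔
    x ∈ Subgroup.centralizer ({a} : Set G) ∧
      ∀ d ∈ Subgroup.centralizer ({a} : Set G), x * d = d * x := by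
  constructor
  · intro hx
    refine ⟨T_le hx, fun d hd => ?_⟩
    obtain ⟨t, ht, b, hb, rfl⟩ := K.decomp hd
    calc x * (t * b) = (x * t) * b := by group
      _ = t * (x * b) := by rw [S.E_comm L.outside hx.1 ht.1]; group
      _ = t * b * x := by rw [K.T_comm hx hb]; group
  · rintro ⟨hx, hc⟩
    obtain ⟨t, ht, b, hb, rfl⟩ := K.decomp hx
    have hb1 : b = 1 := K.center_trivial hb fun y hy => by
      have h := hc y (K.le hy)
      have e : t * (b * y) = t * (y * b) := by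
        calc t * (b * y) = t * b * y := by group
          _ = y * (t * b) := h
          _ = (y * t) * b := by group
          _ = t * (y * b) := by rw [← K.T_comm ht hy]; group
      exact mul_left_cancel e
    rw [hb1, mul_one]; exact ht

theorem cent_T (K : Setup.Local.Factor L) {g : G} :
    (∀ t ∈ L.T, g * t = t * g) ↔ g ∈ Subgroup.centralizer ({a} : Set G) :=
  ⟨fun h => mem_cent.mpr (h a L.a_mem_T), fun hg _ ht => ((K.mem_T_iff.mp ht).2 g hg).symm⟩

theorem exists_move_T (K : Setup.Local.Factor L) {b : G} (hb : b ∈ L.T) (hb1 : b ≠ 1) :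
    ∃ g ∈ Subgroup.normalizer (L.T : Set G), g * b * g⁻¹ = a := by
  have hbo : S.Outside b := ⟨hb.1.1, fun h => hb1 (L.T_inf_F hb ⟨h, hb.1.2⟩), S.E_sq L.outside hb.1⟩
  obtain ⟨c, -, e⟩ := S.conj_outside hbo L.outside
  set D : Subgroup G := Subgroup.centralizer ({a} : Set G) with hD
  have hDb : D ≤ Subgroup.centralizer ({b} : Set G) := fun d hd =>
    mem_cent.mpr (((K.mem_T_iff.mp hb).2 d hd).symm)
  let f : ↥D → ↥(Subgroup.centralizer ({b} : Set G)) := fun d => ⟨c⁻¹ * d * c, mem_cent.mpr (by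
    have hd : (d : G) * a = a * d := mem_cent.mp d.2
    calc c⁻¹ * (d : G) * c * b = c⁻¹ * ((d : G) * (c * b * c⁻¹)) * c := by group
      _ = c⁻¹ * (c * b * c⁻¹ * d) * c := by rw [e, hd]
      _ = b * (c⁻¹ * d * c) := by group)⟩
  have hf : Function.Bijective f := by
    refine ⟨fun p q k => Subtype.ext ?_, fun x => ⟨⟨c * x * c⁻¹, mem_cent.mpr ?_⟩, Subtype.ext ?_⟩⟩
    · have k' : c⁻¹ * (p : G) * c = c⁻¹ * q * c := congrArg Subtype.val k
      exact mul_left_cancel (mul_right_cancel k')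
    · have hx : (x : G) * b = b * x := mem_cent.mp x.2
      calc c * (x : G) * c⁻¹ * a = c * ((x : G) * b) * c⁻¹ := by rw [← e]; group
        _ = c * (b * x) * c⁻¹ := by rw [hx]
        _ = a * (c * x * c⁻¹) := by rw [← e]; group
    · show c⁻¹ * (c * (x : G) * c⁻¹) * c = x
      group
  have heq : D = Subgroup.centralizer ({b} : Set G) :=
    Subgroup.eq_of_le_of_card_ge hDb (le_of_eq (Nat.card_eq_of_bijective f hf).symm)
  have hconjD : ∀ d : G, d ∈ D → c⁻¹ * d * c ∈ D := fun d hd => by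
    have h := (f ⟨d, hd⟩).2
    exact heq.ge h
  have hconjD' : ∀ d : G, d ∈ D → c * d * c⁻¹ ∈ D := fun d hd => by
    obtain ⟨y, hy⟩ := hf.2 ⟨d, hDb hd⟩
    have e' : c⁻¹ * (y : G) * c = d := congrArg Subtype.val hy
    rw [← e']
    simp [mul_assoc]
  refine ⟨c, Subgroup.mem_normalizer_iff.mpr fun t => ⟨fun ht => ?_, fun ht => ?_⟩, e⟩
  · refine K.mem_T_iff.mpr ⟨hconjD' _ (T_le ht), fun d hd => ?_⟩
    have h := (K.mem_T_iff.mp ht).2 _ (hconjD d hd)
    calc c * t * c⁻¹ * d = c * (t * (c⁻¹ * d * c)) * c⁻¹ := by group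
      _ = c * (c⁻¹ * d * c * t) * c⁻¹ := by rw [h]
      _ = d * (c * t * c⁻¹) := by group
  · have ht' : t ∈ D := by
      have h1 := hconjD _ (T_le ht)
      simpa [mul_assoc] using h1
    refine K.mem_T_iff.mpr ⟨ht', fun d hd => ?_⟩
    have h := (K.mem_T_iff.mp ht).2 _ (hconjD' d hd)
    calc t * d = c⁻¹ * (c * t * c⁻¹ * (c * d * c⁻¹)) * c := by group
      _ = c⁻¹ * (c * d * c⁻¹ * (c * t * c⁻¹)) * c := by rw [h]
      _ = d * t := by group

theorem card_normalizer_T (K : Setup.Local.Factor L) :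
    Nat.card ↥(Subgroup.normalizer (L.T : Set G)) = 720 := by
  classical
  set N := Subgroup.normalizer (L.T : Set G) with hN
  have h := card_orbit_mul N a
  have h1 : Nat.card {v : G // ∃ g ∈ N, g * a * g⁻¹ = v} = 3 := by
    have e1 := Nat.card_congr (Equiv.sumCompl fun x : ↥L.T => (x : G) = 1)
    rw [Nat.card_sum, L.card_T] at e1
    have e2 : Nat.card {x : ↥L.T // (x : G) = 1} = 1 :=
      Nat.card_eq_one_iff_unique.mpr ⟨⟨fun p q => Subtype.ext (Subtype.ext (p.2.trans q.2.symm))⟩,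
        ⟨⟨1, rfl⟩⟩⟩
    have e3 : Nat.card {x : ↥L.T // ¬ (x : G) = 1} = Nat.card {v : G // ∃ g ∈ N, g * a * g⁻¹ = v} := by
      refine Nat.card_congr
        { toFun := fun x => ⟨x.1, ?_⟩
          invFun := fun v => ⟨⟨v.1, ?_⟩, ?_⟩
          left_inv := fun _ => rfl
          right_inv := fun _ => rfl }
      · obtain ⟨g, hg, e⟩ := K.exists_move_T x.1.2 x.2
        exact ⟨g⁻¹, inv_mem hg, (congrArg (fun w => g⁻¹ * w * g⁻¹⁻¹) e).symm.trans (by group)⟩
      · obtain ⟨g, hg, e⟩ := v.2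
        exact e ▸ (Subgroup.mem_normalizer_iff.mp hg a).mp L.a_mem_T
      · obtain ⟨g, hg, e⟩ := v.2
        exact fun k => L.outside.isInv.2 (conj_eq_one_iff.mp (e.trans k))
    omega
  have h2 : (N ⊓ Subgroup.centralizer ({a} : Set G) : Subgroup G) =
      Subgroup.centralizer ({a} : Set G) := by
    refine inf_eq_right.mpr fun d hd => Subgroup.centralizer_le_normalizer _ ?_
    exact Subgroup.mem_centralizer_iff.mpr fun t ht => (K.mem_T_iff.mp ht).2 d hd
  rw [h1, h2, K.card_D] at h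
  omega

theorem conj_B_mem (K : Setup.Local.Factor L) {g : G} (hg : g ∈ Subgroup.normalizer (L.T : Set G))
    {b : G} (hb : b ∈ K.B) : g * b * g⁻¹ ∈ K.B := by
  obtain ⟨e⟩ := K.nonempty_iso
  set D : Subgroup G := Subgroup.centralizer ({a} : Set G) with hD
  have hgD : ∀ x ∈ K.B, g * x * g⁻¹ ∈ D := fun x hx => K.cent_T.mp fun t ht => by
    have ht' : g⁻¹ * t * g ∈ L.T := by
      have := (Subgroup.mem_normalizer_iff.mp (inv_mem hg) t).mp ht
      simpa using this
    calc g * x * g⁻¹ * t = g * (x * (g⁻¹ * t * g)) * g⁻¹ := by group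
      _ = g * ((g⁻¹ * t * g) * x) * g⁻¹ := by rw [← K.T_comm ht' hx]
      _ = t * (g * x * g⁻¹) := by group
  let γ : ↥K.B →* ↥D := MonoidHom.mk' (fun x => ⟨g * x * g⁻¹, hgD x x.2⟩) fun x y =>
    Subtype.ext (by
      show g * ((x : G) * y) * g⁻¹ = g * x * g⁻¹ * (g * y * g⁻¹)
      group)
  let π : ↥K.B →* ↥L.T :=
    (MonoidHom.fst ↥L.T ↥K.B).comp (K.prodEquiv.symm.toMonoidHom.comp γ)
  haveI : Nontrivial ↥K.B := Finite.one_lt_card_iff_nontrivial.mp (by rw [K.card_B]; norm_num)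
  haveI : IsSimpleGroup ↥K.B := IsSimpleGroup.isSimpleGroup_of_surjective e.symm.toMonoidHom e.symm.surjective
  have hker : π.ker = ⊤ := by
    refine (π.normal_ker.eq_bot_or_eq_top).resolve_left fun h => ?_
    have hinj : Function.Injective π := (MonoidHom.ker_eq_bot_iff π).mp h
    have := Nat.card_le_card_of_injective π hinj
    rw [K.card_B, L.card_T] at this
    norm_num at this
  have h1 : π ⟨b, hb⟩ = 1 := MonoidHom.mem_ker.mp (hker ▸ Subgroup.mem_top _)
  have h2 : K.prodEquiv (K.prodEquiv.symm (γ ⟨b, hb⟩)) = γ ⟨b, hb⟩ := MulEquiv.apply_symm_apply _ _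
  have h1' : ((K.prodEquiv.symm (γ ⟨b, hb⟩)).1 : G) = 1 := congrArg Subtype.val h1
  have h3 : ((K.prodEquiv.symm (γ ⟨b, hb⟩)).1 : G) * (K.prodEquiv.symm (γ ⟨b, hb⟩)).2 = g * b * g⁻¹ :=
    congrArg Subtype.val h2
  rw [h1', one_mul] at h3
  rw [← h3]
  exact (K.prodEquiv.symm (γ ⟨b, hb⟩)).2.2

/-- `N(T) ≅ A₄ × A₅`, and `N(T)` induces inner automorphisms on the second factor. -/
theorem normalizer_data (K : Setup.Local.Factor L) :
    Nonempty (↥(Subgroup.normalizer (L.T : Set G)) ≃* alternatingGroup (Fin 4) × A5) ∧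
      ∀ g ∈ Subgroup.normalizer (L.T : Set G), ∃ b ∈ K.B, ∀ x ∈ K.B,
        g * x * g⁻¹ = b * x * b⁻¹ := by
  classical
  haveI : Fact (Nat.Prime 3) := ⟨Nat.prime_three⟩
  obtain ⟨e⟩ := K.nonempty_iso
  set N := Subgroup.normalizer (L.T : Set G) with hN
  let ι : Equiv.Perm (Fin 5) ≃* MulAut A5 :=
    MulEquiv.ofBijective MulAut.conjNormal (S2119.result 5 (by norm_num) (by norm_num))
  let Φ : ↥N →* MulAut ↥K.B := MonoidHom.mk'
    (fun g =>
      { toFun := fun x => ⟨(g : G) * x * (g : G)⁻¹, K.conj_B_mem g.2 x.2⟩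
        invFun := fun x => ⟨(g : G)⁻¹ * x * g, by
          have := K.conj_B_mem (inv_mem g.2) x.2
          simpa using this⟩
        left_inv := fun x => Subtype.ext (by show (g : G)⁻¹ * ((g : G) * x * (g : G)⁻¹) * g = x; group)
        right_inv := fun x => Subtype.ext (by show (g : G) * ((g : G)⁻¹ * x * g) * (g : G)⁻¹ = x; group)
        map_mul' := fun x y => Subtype.ext (by
          show (g : G) * ((x : G) * y) * (g : G)⁻¹ = (g : G) * x * (g : G)⁻¹ * ((g : G) * y * (g : G)⁻¹)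
          group) })
    fun g h => MulEquiv.ext fun x => Subtype.ext (by
      show ((g : G) * h) * x * ((g : G) * h)⁻¹ = (g : G) * ((h : G) * x * (h : G)⁻¹) * (g : G)⁻¹
      group)
  have hΦ : ∀ (g : ↥N) (x : ↥K.B), ((Φ g x : ↥K.B) : G) = (g : G) * x * (g : G)⁻¹ := fun _ _ => rfl
  have hDN : Subgroup.centralizer ({a} : Set G) ≤ N := fun d hd =>
    Subgroup.centralizer_le_normalizer _
      (Subgroup.mem_centralizer_iff.mpr fun t ht => (K.mem_T_iff.mp ht).2 d hd)
  set A := Φ.ker with hA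
  have hmemA : ∀ g : ↥N, g ∈ A ↔ ∀ x ∈ K.B, (g : G) * x = x * g := fun g => by
    rw [hA, MonoidHom.mem_ker, MulEquiv.ext_iff]
    refine ⟨fun h x hx => mul_inv_eq_iff_eq_mul.mp (congrArg Subtype.val (h ⟨x, hx⟩) :),
      fun h x => Subtype.ext ?_⟩
    rw [hΦ, h x x.2, mul_inv_cancel_right]
    rfl
  let ιB : ↥K.B →* ↥N := Subgroup.inclusion (fun x hx => hDN (K.le hx))
  have hBinj : Function.Injective (Φ.comp ιB) := by
    rw [← MonoidHom.ker_eq_bot_iff, Subgroup.eq_bot_iff_forall]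
    intro x hx
    rw [MonoidHom.mem_ker] at hx
    exact Subtype.ext (K.center_trivial x.2 ((hmemA (ιB x)).mp hx))
  have hr60 : 60 ≤ Nat.card ↥Φ.range := by
    rw [← K.card_B]
    exact Nat.card_le_card_of_injective (fun x => ⟨Φ (ιB x), _, rfl⟩)
      fun x y k => hBinj (congrArg Subtype.val k :)
  have hr120 : Nat.card ↥Φ.range ∣ 120 := by
    refine (Subgroup.card_subgroup_dvd_card _).trans (dvd_of_eq ?_)
    rw [Nat.card_congr (MulAut.congr e).toEquiv, ← Nat.card_congr ι.toEquiv, Nat.card_perm,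
      Nat.card_fin]
    rfl
  have hTA : ∀ t : ↥L.T, (⟨t, hDN (T_le t.2)⟩ : ↥N) ∈ A :=
    fun t => (hmemA _).mpr fun x hx => K.T_comm t.2 hx
  have h4A : 4 ∣ Nat.card ↥A := by
    rw [← L.card_T]
    let f : ↥L.T →* ↥A := MonoidHom.mk' (fun t => ⟨⟨t, hDN (T_le t.2)⟩, hTA t⟩) fun _ _ => rfl
    exact Subgroup.card_dvd_of_injective f fun p q k => Subtype.ext (congrArg (fun w : ↥A => ((w : ↥N) : G)) k)
  have hlag := Φ.ker.card_mul_index
  rw [Subgroup.index_ker, K.card_normalizer_T, ← hA] at hlag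
  have hA12 : Nat.card ↥A = 12 := by
    obtain ⟨q, hq⟩ := hr120
    obtain ⟨j, hj⟩ := h4A
    have hle : Nat.card ↥Φ.range ≤ 120 := Nat.le_of_dvd (by norm_num) ⟨q, hq⟩
    have hq2 : q = 1 ∨ q = 2 := by
      have h1 : 0 < q := Nat.pos_of_ne_zero fun k => by rw [k, mul_zero] at hq; norm_num at hq
      have h2 : q ≤ 2 := by
        by_contra k
        push Not at k
        have := Nat.mul_le_mul hr60 k
        omega
      omega
    rcases hq2 with rfl | rfl
    · rw [mul_one] at hq; rw [← hq, hj] at hlag; omega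
    · have hr : Nat.card ↥Φ.range = 60 := by omega
      rw [hr] at hlag; omega
  -- `A ≅ A₄`
  obtain ⟨h3, hh3⟩ := exists_prime_orderOf_dvd_card' (G := ↥A) 3 (by rw [hA12]; norm_num)
  have hoff : ((h3 : ↥N) : G) * a * ((h3 : ↥N) : G)⁻¹ ≠ a := fun k => by
    have hD : ((h3 : ↥N) : G) ∈ Subgroup.centralizer ({a} : Set G) :=
      mem_cent.mpr (mul_inv_eq_iff_eq_mul.mp k)
    obtain ⟨t, ht, b, hb, etb⟩ := K.decomp hD
    have hb1 : b = 1 := K.center_trivial hb fun x hx => by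
      have h := (hmemA _).mp h3.2 x hx
      rw [← etb] at h
      have e' : t * (b * x) = t * (x * b) := by
        calc t * (b * x) = t * b * x := by group
          _ = x * (t * b) := h
          _ = (x * t) * b := by group
          _ = t * (x * b) := by rw [← K.T_comm ht hx]; group
      exact mul_left_cancel e'
    rw [hb1, mul_one] at etb
    have h := orderOf_dvd_of_pow_eq_one (show ((h3 : ↥N) : G) ^ 2 = 1 by
      rw [← etb, pow_two]; exact S.E_sq L.outside ht.1)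
    rw [Subgroup.orderOf_coe, Subgroup.orderOf_coe, hh3] at h
    norm_num at h
  set xA : ↥A := ⟨⟨a, hDN (T_le L.a_mem_T)⟩, hTA ⟨a, L.a_mem_T⟩⟩ with hxA
  set yA : ↥A := h3 * xA * h3⁻¹ with hyA
  have hyT : ((yA : ↥N) : G) ∈ L.T := (Subgroup.mem_normalizer_iff.mp (h3 : ↥N).2 a).mp L.a_mem_T
  have hxo : orderOf xA = 2 := by
    rw [← Subgroup.orderOf_coe, ← Subgroup.orderOf_coe]
    exact inv_iff_orderOf.mp L.outside.isInv
  have hpair : PSL2.IsInvPair xA yA := by
    refine ⟨hxo, ?_, ?_, fun k => hoff ?_⟩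
    · rw [hyA, ← MulAut.conj_apply, MulEquiv.orderOf_eq, hxo]
    · exact Subtype.ext (Subtype.ext (S.E_comm L.outside L.a_mem_T.1 hyT.1))
    · exact (congrArg (fun w : ↥A => ((w : ↥N) : G)) k).symm
  obtain ⟨eA⟩ := PSL2.mulEquiv_alternatingFour hpair hh3 hyA.symm hA12
  -- `A × B → N`
  let μ : ↥A × ↥K.B →* ↥N := MonoidHom.mk' (fun p => (p.1 : ↥N) * ιB p.2) fun p q => by
    have hc : ιB p.2 * (q.1 : ↥N) = (q.1 : ↥N) * ιB p.2 :=
      Subtype.ext ((hmemA _).mp q.1.2 p.2 p.2.2).symm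
    show ((p.1 * q.1 : ↥A) : ↥N) * ιB (p.2 * q.2) = _
    rw [map_mul, Subgroup.coe_mul]
    calc (p.1 : ↥N) * q.1 * (ιB p.2 * ιB q.2) = (p.1 : ↥N) * ((q.1 : ↥N) * ιB p.2) * ιB q.2 := by group
      _ = (p.1 : ↥N) * (ιB p.2 * (q.1 : ↥N)) * ιB q.2 := by rw [hc]
      _ = (p.1 : ↥N) * ιB p.2 * ((q.1 : ↥N) * ιB q.2) := by group
  have hμ : Function.Bijective μ := by
    refine (Nat.bijective_iff_injective_and_card _).mpr ⟨?_, ?_⟩
    · rw [← MonoidHom.ker_eq_bot_iff, Subgroup.eq_bot_iff_forall]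
      rintro ⟨p, q⟩ hpq
      rw [MonoidHom.mem_ker] at hpq
      have e1 : (p : ↥N) * ιB q = 1 := hpq
      have hqA : ιB q ∈ A := by
        rw [eq_inv_of_mul_eq_one_right e1]; exact inv_mem p.2
      have hq1 : q = 1 := hBinj (by
        rw [map_one]; exact MonoidHom.mem_ker.mp hqA)
      rw [hq1, map_one, mul_one] at e1
      exact Prod.ext (Subtype.ext e1) hq1
    · rw [Nat.card_prod, hA12, K.card_B, K.card_normalizer_T]
  refine ⟨⟨(MulEquiv.ofBijective μ hμ).symm.trans (eA.prodCongr e)⟩, fun g hg => ?_⟩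
  obtain ⟨⟨p, q⟩, hpq⟩ := hμ.2 ⟨g, hg⟩
  refine ⟨q, q.2, fun x hx => ?_⟩
  have e1 : ((p : ↥N) : G) * (q : G) = g := congrArg Subtype.val hpq
  have hc := (hmemA _).mp p.2 ((q : G) * x * (q : G)⁻¹) (mul_mem (mul_mem q.2 hx) (inv_mem q.2))
  calc g * x * g⁻¹ = ((p : ↥N) : G) * ((q : G) * x * (q : G)⁻¹) * ((p : ↥N) : G)⁻¹ := by
        rw [← e1]; group
    _ = (q : G) * x * (q : G)⁻¹ := by rw [hc, mul_inv_cancel_right]

/-- `N(T) ≅ A₄ × A₅`. -/
theorem normalizer_iso (K : Setup.Local.Factor L) :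
    Nonempty (↥(Subgroup.normalizer (L.T : Set G)) ≃* alternatingGroup (Fin 4) × A5) :=
  K.normalizer_data.1

/-- `C(a) ≅ 2² × A₅`. -/
theorem cent_iso (K : Setup.Local.Factor L) :
    Nonempty (↥(Subgroup.centralizer ({a} : Set G)) ≃*
      (Multiplicative (ZMod 2) × Multiplicative (ZMod 2)) × A5) := by
  obtain ⟨e⟩ := K.nonempty_iso
  haveI : IsKleinFour ↥L.T :=
    { card_four := L.card_T
      exponent_two := by
        haveI : Nontrivial ↥L.T := Finite.one_lt_card_iff_nontrivial.mp (by rw [L.card_T]; norm_num)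
        refine (Monoid.exponent_eq_prime_iff Nat.prime_two).mpr fun g hg => ?_
        refine inv_iff_orderOf.mp ⟨Subtype.ext (S.E_sq L.outside g.2.1), hg⟩ }
  haveI : IsKleinFour (Multiplicative (ZMod 2) × Multiplicative (ZMod 2)) :=
    { card_four := by rw [Nat.card_prod]; simp
      exponent_two := by
        haveI : Nontrivial (Multiplicative (ZMod 2) × Multiplicative (ZMod 2)) :=
          Finite.one_lt_card_iff_nontrivial.mp (by rw [Nat.card_prod]; simp)
        refine (Monoid.exponent_eq_prime_iff Nat.prime_two).mpr fun g hg => ?_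
        refine inv_iff_orderOf.mp ⟨?_, hg⟩
        revert g; decide }
  obtain ⟨eT⟩ := IsKleinFour.nonempty_mulEquiv (G₁ := ↥L.T)
    (G₂ := Multiplicative (ZMod 2) × Multiplicative (ZMod 2))
  exact ⟨K.prodEquiv.symm.trans (eT.prodCongr e)⟩

/-- `O₂(C(a)) = T`. -/
theorem pCore_eq (K : Setup.Local.Factor L) :
    (Cfsg.pCore 2 ↥(Subgroup.centralizer ({a} : Set G))).map
      (Subgroup.centralizer ({a} : Set G)).subtype = L.T := by
  obtain ⟨e⟩ := K.nonempty_iso
  haveI : Fact (Nat.Prime 2) := ⟨Nat.prime_two⟩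
  set D : Subgroup G := Subgroup.centralizer ({a} : Set G) with hD
  set Td := L.T.subgroupOf D with hTd
  haveI : Td.Normal := ⟨fun x hx g => by
    rw [hTd, Subgroup.mem_subgroupOf] at hx ⊢
    show (g : G) * x * (g : G)⁻¹ ∈ L.T
    rw [← (K.mem_T_iff.mp hx).2 g g.2, mul_inv_cancel_right]
    exact hx⟩
  have hTp : IsPGroup 2 ↥Td := IsPGroup.of_card (n := 2) (by
    rw [hTd, Nat.card_congr (Subgroup.subgroupOfEquivOfLe (T_le (L := L))).toEquiv, L.card_T]; norm_num)
  let π : ↥D →* ↥K.B := (MonoidHom.snd ↥L.T ↥K.B).comp K.prodEquiv.symm.toMonoidHom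
  have hπs : Function.Surjective π := fun b =>
    ⟨K.prodEquiv (1, b), by simp [π]⟩
  haveI : Nontrivial ↥K.B := Finite.one_lt_card_iff_nontrivial.mp (by rw [K.card_B]; norm_num)
  haveI : IsSimpleGroup ↥K.B := IsSimpleGroup.isSimpleGroup_of_surjective e.symm.toMonoidHom e.symm.surjective
  have hbot : Cfsg.pCore 2 ↥K.B = ⊥ := by
    refine ((PCore.pCore_normal).eq_bot_or_eq_top).resolve_right fun h => ?_
    obtain ⟨k, hk⟩ := PCore.exists_card_pCore (p := 2) (G := ↥K.B)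
    rw [h, Subgroup.card_top, K.card_B] at hk
    have h15 : 15 ∣ 2 ^ k := hk ▸ ⟨4, rfl⟩
    have := (Nat.prime_three.dvd_of_dvd_pow ((show 3 ∣ 15 from ⟨5, rfl⟩).trans h15))
    norm_num at this
  refine le_antisymm ?_ fun t ht => ⟨⟨t, T_le ht⟩, PCore.le_pCore hTp ht, rfl⟩
  rintro _ ⟨x, hx, rfl⟩
  have h1 : π x ∈ Cfsg.pCore 2 ↥K.B := PCore.map_pCore_le π hπs ⟨x, hx, rfl⟩
  rw [hbot, Subgroup.mem_bot] at h1
  have h2 : ((K.prodEquiv.symm x).1 : G) * (K.prodEquiv.symm x).2 = x :=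
    congrArg Subtype.val (K.prodEquiv.apply_symm_apply x)
  have h3 : ((K.prodEquiv.symm x).2 : G) = 1 := congrArg Subtype.val h1
  rw [h3, mul_one] at h2
  show (x : G) ∈ L.T
  rw [← h2]
  exact (K.prodEquiv.symm x).1.2

end Setup.Local.Factor

end Cfsg.Agent.HallJankoType
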