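import Cfsg.Agent.Lib.HallJankoType.Product
import Cfsg.Agent.S0213
import Cfsg.Agent.Lib.Involution.Isolated
import Cfsg.Agent.Lib.SmallSimple.Order168

/-!
The order formula for a group of Hall–Janko type, in terms of the factor `B` of `C(t)`.
-/

set_option autoImplicit false
set_option linter.style.haveILetI false
set_option linter.unusedSectionVars false

namespace Cfsg.Agent.HallJankoType

open Cfsg.Agent.JankoOrder (Inv)
open Subgroup

universe u

theorem count_eq {g zc tc d n m k : ℕ} (hg : 0 < g) (hz : zc * 1920 = g) (ht : tc * d = g)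
    (h : zc * n = tc * m) (hm : m * 1920 = k * d) : n = k := by
  have hzc : 0 < zc := Nat.pos_of_ne_zero fun e => by rw [e, zero_mul] at hz; omega
  have e : zc * (n * d) = zc * (k * d) := by
    calc zc * (n * d) = (zc * n) * d := by ring
      _ = (tc * d) * m := by rw [h]; ring
      _ = (zc * 1920) * m := by rw [ht, hz]
      _ = zc * (m * 1920) := by ring
      _ = zc * (k * d) := by rw [hm]
  have hd : 0 < d := Nat.pos_of_ne_zero fun e => by rw [e, mul_zero] at ht; omega
  exact Nat.eq_of_mul_eq_mul_right hd (Nat.eq_of_mul_eq_mul_left hzc e)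

namespace Setup.Local.Factor

variable {G : Type u} [Group G] {S : Setup G} [Finite G] {t : G} {L : Setup.Local S t}

set_option maxHeartbeats 2000000 in
theorem order_formula (K : Setup.Local.Factor L) {m p r : ℕ}
    (hm : Nat.card {b : ↥K.B // Inv b} = m)
    (hp : Nat.card {q : ↥K.B × ↥K.B // Inv q.1 ∧ Inv q.2 ∧ q.1 * q.2 = q.2 * q.1} = p)
    (hr : Nat.card {q : ↥K.B × ↥K.B // Inv q.1 ∧ q.2 * q.2 = 1 ∧ (q.1 * q.2) ^ 15 = 1} = r)
    (hexp : ∀ {x : ↥K.B} {k : ℕ}, Odd k → x ^ k = 1 → x ^ 15 = 1)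
    (hmD : m * 1920 = 120 * Nat.card ↥(Subgroup.centralizer ({t} : Set G)))
    (hpD : p * 1920 = 360 * Nat.card ↥(Subgroup.centralizer ({t} : Set G))) :
    Nat.card G =
      Nat.card ↥(Subgroup.centralizer ({t} : Set G)) * 960 + 1920 * r := by
  classical
  set z := S.z with hzdef
  have hz : orderOf z = 2 := S.hz
  have ha : S.Outside t := L.outside
  have ht : orderOf t = 2 := JankoOrder.inv_iff_orderOf.mp ha.isInv
  have hzt : ¬ IsConj z t := S.not_conj_outside ha
  have hcl : ∀ x : G, orderOf x = 2 → IsConj z x ∨ IsConj t x := fun x hx =>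
    S.two_conj_classes ha (JankoOrder.inv_iff_orderOf.mpr hx)
  have hinv : ∀ {x : G}, IsConj z x ∨ IsConj t x → x * x = 1 ∧ orderOf x = 2 := by
    intro x hx
    have h : Inv x := hx.elim (fun h => conj_inv_iff h S.inv_z) (fun h => conj_inv_iff h ha.isInv)
    exact ⟨h.1, JankoOrder.inv_iff_orderOf.mp h⟩
  have hnc : ∀ {x : G}, IsConj z x → ¬ IsConj t x := fun h1 h2 => hzt (h1.trans h2.symm)
  have hzz : z * z = 1 := S.zz
  set D := Subgroup.centralizer ({t} : Set G) with hD
  have hmemD : ∀ x : G, x ∈ D ↔ Commute x t := fun x => mem_cent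
  have hmemC : ∀ x : G, x ∈ S.C ↔ Commute x z := fun x => mem_cent
  have hzG := SmallSimple.card_class_mul_card_centralizer z
  have htG := SmallSimple.card_class_mul_card_centralizer t
  rw [show Nat.card ↥(Subgroup.centralizer ({z} : Set G)) = 1920 from S.card_C] at hzG
  rw [← hD] at htG
  have hclassC : ∀ u : G, Commute u z → (IsConj z u ↔ u ∈ S.Q ∧ orderOf u = 2) := by
    intro u hu
    refine ⟨fun h => ⟨?_, (hinv (.inl h)).2⟩,
      fun h => S.isConj_z_of_mem_Q h.1 (JankoOrder.inv_iff_orderOf.mpr h.2)⟩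
    by_contra hq
    exact S.not_conj_outside ⟨(hmemC u).mpr hu, hq, (hinv (.inl h)).1⟩ h
  have hclassD : ∀ u : G, Commute u t → (IsConj z u ↔ u ∈ K.B ∧ orderOf u = 2) := fun u hu =>
    ⟨fun h => ⟨(K.isConj_z_iff ((hmemD u).mpr hu) (conj_inv_iff h S.inv_z)).mp h, (hinv (.inl h)).2⟩,
      fun h => (K.isConj_z_iff (K.le h.1) (JankoOrder.inv_iff_orderOf.mpr h.2)).mpr h.1⟩
  have htB : t ∉ K.B := fun h => ha.isInv.2 (K.T_inf_B L.a_mem_T h)
  have hA : Nat.card {u : G // Commute z u ∧ IsConj z u} = 11 := by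
    obtain ⟨u₀, hu₀, hu₀2, hu₀z, -⟩ := S.exists_noncentral
    have h1 := Nat.card_congr (Equiv.sumCompl fun x : {x : G // x ∈ S.Q ∧ x * x = 1} => (x : G) = 1)
    rw [Nat.card_sum, (S.involutions_Q hu₀ hu₀2 hu₀z).1] at h1
    have h2 : Nat.card {x : {x : G // x ∈ S.Q ∧ x * x = 1} // (x : G) = 1} = 1 :=
      Nat.card_eq_one_iff_unique.mpr ⟨⟨fun a b => Subtype.ext (Subtype.ext (a.2.trans b.2.symm))⟩,
        ⟨⟨⟨1, one_mem _, one_mul 1⟩, rfl⟩⟩⟩
    have h3 : Nat.card {x : {x : G // x ∈ S.Q ∧ x * x = 1} // ¬ (x : G) = 1} =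
        Nat.card {u : G // Commute z u ∧ IsConj z u} :=
      Nat.card_congr
        { toFun := fun x => ⟨x.1.1, ((hmemC _).mp (S.Q_le x.1.2.1)).symm,
            S.isConj_z_of_mem_Q x.1.2.1 ⟨x.1.2.2, x.2⟩⟩
          invFun := fun u => ⟨⟨u.1, ((hclassC _ u.2.1.symm).mp u.2.2).1, (hinv (.inl u.2.2)).1⟩,
            (conj_inv_iff u.2.2 S.inv_z).2⟩
          left_inv := fun _ => rfl
          right_inv := fun _ => rfl }
    omega
  -- double counting
  have hcomm : ∀ {g a b : G}, Commute a b → Commute (g * a * g⁻¹) (g * b * g⁻¹) := fun {g a b} h =>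
    show g * a * g⁻¹ * (g * b * g⁻¹) = g * b * g⁻¹ * (g * a * g⁻¹) by
      calc g * a * g⁻¹ * (g * b * g⁻¹) = g * (a * b) * g⁻¹ := by group
        _ = g * b * g⁻¹ * (g * a * g⁻¹) := by rw [h.eq]; group
  have hconj : ∀ {c g a : G}, IsConj c a → IsConj c (g * a * g⁻¹) := fun {c g a} h =>
    h.trans (isConj_iff.mpr ⟨g, rfl⟩)
  have hsmul : ∀ g a : G, ConjAct.toConjAct g • a = g * a * g⁻¹ := fun g a => ConjAct.toConjAct_smul g a
  have hmk : ∀ b : ↥K.B, JankoOrder.Inv b → Commute t (b : G) ∧ IsConj z (b : G) := fun b hb =>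
    ⟨((hmemD _).mp (K.le b.2)).symm, (hclassD _ ((hmemD _).mp (K.le b.2))).mpr
      ⟨b.2, by rw [Subgroup.orderOf_coe]; exact JankoOrder.inv_iff_orderOf.mp hb⟩⟩
  have h15 : Nat.card {a : G // Commute t a ∧ IsConj z a} = m := by
    rw [← hm]
    refine (Nat.card_eq_of_bijective (fun b => ⟨((b.1 : ↥K.B) : G), hmk b.1 b.2⟩) ⟨?_, ?_⟩).symm
    · intro a b e
      have h := congrArg Subtype.val e
      apply Subtype.ext; apply Subtype.ext
      exact h
    · rintro ⟨a, hac, haz⟩
      obtain ⟨haB, ha2⟩ := (hclassD _ hac.symm).mp haz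
      exact ⟨⟨⟨a, haB⟩, JankoOrder.inv_iff_orderOf.mpr ((Subgroup.orderOf_mk a haB).trans ha2)⟩, rfl⟩
  have hI : Nat.card {v : G // Commute z v ∧ IsConj t v} = 120 := by
    have e1 := JankoOrder.card_pairs z (fun a v => Commute a v ∧ IsConj t v) (fun g a v h => by
      simp only [hsmul]; exact ⟨hcomm h.1, hconj h.2⟩)
    have e2 := JankoOrder.card_pairs t (fun v a => Commute v a ∧ IsConj z a) (fun g a v h => by
      simp only [hsmul]; exact ⟨hcomm h.1, hconj h.2⟩)
    have e3 : Nat.card {q : G × G // IsConj z q.1 ∧ Commute q.1 q.2 ∧ IsConj t q.2} =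
        Nat.card {q : G × G // IsConj t q.1 ∧ Commute q.1 q.2 ∧ IsConj z q.2} :=
      Nat.card_congr (Equiv.subtypeEquiv (Equiv.prodComm G G) fun q =>
        ⟨fun h => ⟨h.2.2, h.2.1.symm, h.1⟩, fun h => ⟨h.2.2, h.2.1.symm, h.1⟩⟩)
    rw [e3, e2, h15] at e1
    exact count_eq Nat.card_pos hzG htG e1.symm hmD
  have h45 : Nat.card {q : G × G //
      (Commute t q.1 ∧ IsConj z q.1) ∧ (Commute t q.2 ∧ IsConj z q.2) ∧ Commute q.1 q.2} = p := by
    rw [← hp]
    refine (Nat.card_eq_of_bijective (fun q => ⟨((q.1.1 : G), (q.1.2 : G)), hmk _ q.2.1, hmk _ q.2.2.1,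
      (congrArg Subtype.val q.2.2.2 : _)⟩) ⟨?_, ?_⟩).symm
    · intro a b e
      have e' := congrArg Subtype.val e
      exact Subtype.ext (Prod.ext (Subtype.ext (congrArg Prod.fst e')) (Subtype.ext (congrArg Prod.snd e')))
    · rintro ⟨⟨a, b⟩, ⟨hac, haz⟩, ⟨hbc, hbz⟩, hab⟩
      obtain ⟨haB, ha2⟩ := (hclassD _ hac.symm).mp haz
      obtain ⟨hbB, hb2⟩ := (hclassD _ hbc.symm).mp hbz
      exact ⟨⟨(⟨a, haB⟩, ⟨b, hbB⟩), JankoOrder.inv_iff_orderOf.mpr ((Subgroup.orderOf_mk a haB).trans ha2),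
        JankoOrder.inv_iff_orderOf.mpr ((Subgroup.orderOf_mk b hbB).trans hb2), Subtype.ext hab.eq⟩, rfl⟩
  have h360 : Nat.card {q : G × G //
      (Commute z q.1 ∧ IsConj z q.1) ∧ (Commute z q.2 ∧ IsConj t q.2) ∧ Commute q.1 q.2} = 360 := by
    have e1 := JankoOrder.card_pairs (X := G × G) z (fun a q =>
      (Commute a q.1 ∧ IsConj z q.1) ∧ (Commute a q.2 ∧ IsConj t q.2) ∧ Commute q.1 q.2) (fun g a q h => by
      simp only [Prod.smul_fst, Prod.smul_snd, hsmul]
      exact ⟨⟨hcomm h.1.1, hconj h.1.2⟩, ⟨hcomm h.2.1.1, hconj h.2.1.2⟩, hcomm h.2.2⟩)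
    have e2 := JankoOrder.card_pairs (X := G × G) t (fun v q =>
      (Commute v q.1 ∧ IsConj z q.1) ∧ (Commute v q.2 ∧ IsConj z q.2) ∧ Commute q.1 q.2) (fun g a q h => by
      simp only [Prod.smul_fst, Prod.smul_snd, hsmul]
      exact ⟨⟨hcomm h.1.1, hconj h.1.2⟩, ⟨hcomm h.2.1.1, hconj h.2.1.2⟩, hcomm h.2.2⟩)
    let eT : G × G × G ≃ G × G × G :=
      { toFun := fun q => (q.2.2, q.1, q.2.1)
        invFun := fun q => (q.2.1, q.2.2, q.1)
        left_inv := fun q => rfl
        right_inv := fun q => rfl }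
    have e3 : Nat.card {q : G × G × G // IsConj z q.1 ∧ (Commute q.1 q.2.1 ∧ IsConj z q.2.1) ∧
          (Commute q.1 q.2.2 ∧ IsConj t q.2.2) ∧ Commute q.2.1 q.2.2} =
        Nat.card {q : G × G × G // IsConj t q.1 ∧ (Commute q.1 q.2.1 ∧ IsConj z q.2.1) ∧
          (Commute q.1 q.2.2 ∧ IsConj z q.2.2) ∧ Commute q.2.1 q.2.2} :=
      Nat.card_congr (Equiv.subtypeEquiv eT fun q =>
        ⟨fun ⟨h1, ⟨h2, h3⟩, ⟨h4, h5⟩, h6⟩ => ⟨h5, ⟨h4.symm, h1⟩, ⟨h6.symm, h3⟩, h2⟩,
          fun ⟨h5, ⟨h4, h1⟩, ⟨h6, h3⟩, h2⟩ => ⟨h1, ⟨h2, h3⟩, ⟨h4.symm, h5⟩, h6.symm⟩⟩)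
    rw [e3, e2, h45] at e1
    exact count_eq Nat.card_pos hzG htG e1.symm hpD
  have h960 : Nat.card {q : G × G // ((Commute z q.1 ∧ IsConj z q.1) ∧ (Commute z q.2 ∧ IsConj t q.2)) ∧
      ¬ Commute q.1 q.2} = 960 := by
    have hall : Nat.card {q : G × G // (Commute z q.1 ∧ IsConj z q.1) ∧ (Commute z q.2 ∧ IsConj t q.2)} =
        1320 := by
      rw [Nat.card_congr (Equiv.subtypeProdEquivProd (p := fun u : G => Commute z u ∧ IsConj z u)
        (q := fun v : G => Commute z v ∧ IsConj t v)), Nat.card_prod, hA, hI]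
    have h1 := Nat.card_congr (Equiv.sumCompl fun q : {q : G × G // (Commute z q.1 ∧ IsConj z q.1) ∧
      (Commute z q.2 ∧ IsConj t q.2)} => Commute q.1.1 q.1.2)
    rw [Nat.card_sum, hall,
      Nat.card_congr (Equiv.subtypeSubtypeEquivSubtypeInter
        (fun q : G × G => (Commute z q.1 ∧ IsConj z q.1) ∧ (Commute z q.2 ∧ IsConj t q.2))
        (fun q => Commute q.1 q.2)),
      Nat.card_congr (Equiv.subtypeSubtypeEquivSubtypeInter
        (fun q : G × G => (Commute z q.1 ∧ IsConj z q.1) ∧ (Commute z q.2 ∧ IsConj t q.2))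
        (fun q => ¬ Commute q.1 q.2))] at h1
    have h2 : Nat.card {q : G × G // ((Commute z q.1 ∧ IsConj z q.1) ∧ (Commute z q.2 ∧ IsConj t q.2)) ∧
        Commute q.1 q.2} = 360 := by
      rw [← h360]
      exact Nat.card_congr (Equiv.subtypeEquivRight fun q => and_assoc)
    omega
  -- `z` as a power of `u v`
  have hn1 : Nat.card {p : G × G // IsConj z p.1 ∧ IsConj t p.2 ∧ z ∈ Subgroup.zpowers (p.1 * p.2)} = 960 := by
    rw [← h960]
    refine Nat.card_congr (Equiv.subtypeEquivRight fun p => ?_)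
    obtain ⟨u, v⟩ := p
    constructor
    · rintro ⟨huz, hvt, hzp⟩
      have hu := (hinv (.inl huz)).1
      have hv := (hinv (.inr hvt)).1
      obtain ⟨k, hk⟩ := mem_powers_iff_mem_zpowers.mpr hzp
      have hk' : (u * v) ^ k = z := hk
      have hui : u⁻¹ = u := inv_eq_of_mul_eq_one_right hu
      have huc : Commute z u := by
        have h1 := Involution.Isolated.conj_pow_eq hu hv k
        rw [hk', inv_eq_of_mul_eq_one_right hzz] at h1
        show z * u = u * z
        calc z * u = u * z * u * u := by rw [h1]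
          _ = u * z := by rw [mul_assoc, hu, mul_one]
      have huvc : Commute z (u * v) := hk' ▸ (Commute.refl (u * v)).pow_left k
      have hvc : Commute z v := by
        have := huc.mul_right huvc
        rwa [← mul_assoc, hu, one_mul] at this
      refine ⟨⟨⟨huc, huz⟩, hvc, hvt⟩, fun hc => ?_⟩
      have hc2 : (u * v) ^ 2 = 1 := by
        rw [pow_two, mul_assoc, ← mul_assoc v, ← hc.eq, mul_assoc u v v, hv, mul_one, hu]
      rcases Nat.even_or_odd k with ⟨j, rfl⟩ | ⟨j, rfl⟩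
      · rw [← two_mul, pow_mul, hc2, one_pow] at hk'
        rw [← hk', orderOf_one] at hz
        exact absurd hz (by norm_num)
      · rw [pow_succ, pow_mul, hc2, one_pow, one_mul] at hk'
        have hvu : v = u * z := by rw [← hk', ← mul_assoc, hu, one_mul]
        have hvQ : v ∈ S.Q := hvu ▸ mul_mem ((hclassC u huc.symm).mp huz).1 S.z_mem_Q
        exact hnc ((hclassC v hvc.symm).mpr ⟨hvQ, (hinv (.inr hvt)).2⟩) hvt
    · rintro ⟨⟨⟨huc, huz⟩, hvc, hvt⟩, hne⟩
      refine ⟨huz, hvt, ?_⟩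
      obtain ⟨hu, hu2⟩ := hinv (.inl huz)
      have hv := (hinv (.inr hvt)).1
      have hvi : v⁻¹ = v := inv_eq_of_mul_eq_one_right hv
      have huQ := ((hclassC u huc.symm).mp huz).1
      have hu' : IsConj z (v * u * v⁻¹) := hconj huz
      have hu'Q : v * u * v⁻¹ ∈ S.Q := S.conj_mem ((hmemC v).mpr hvc.symm) huQ
      have hu'1 := (hinv (.inl hu')).1
      have huZ : ¬ S.Zp u := by
        rintro (e | e)
        · exact (conj_inv_iff huz S.inv_z).2 e
        · exact hne (e ▸ hvc)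
      have hsq2 : (u * v) ^ 2 = u * (v * u * v⁻¹) := by rw [hvi, pow_two]; simp only [mul_assoc]
      by_cases hcc : v * u * v⁻¹ * u = u * (v * u * v⁻¹)
      · rcases (S.involutions_Q huQ hu huZ).2 _ hu'Q hu'1 hcc with (e | e) | (e | e)
        · exact absurd e (conj_inv_iff hu' S.inv_z).2
        · refine absurd ?_ hne
          have h0 : u = z := by
            calc u = v⁻¹ * (v * u * v⁻¹) * v := by group
              _ = z := by rw [e, mul_assoc, hvc.eq, inv_mul_cancel_left]
          exact h0 ▸ hvc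
        · refine absurd ?_ hne
          have e' : v * u * v⁻¹ = u := by rw [eq_inv_of_mul_eq_one_left e, inv_of_sq hu]
          exact (mul_inv_eq_iff_eq_mul.mp e').symm
        · rw [hcc, ← hsq2] at e
          show z ∈ Subgroup.zpowers (u * v)
          rw [hzdef, ← e]
          exact pow_mem (Subgroup.mem_zpowers _) 2
      · rcases S.sq_zp (mul_mem huQ hu'Q) with e | e
        · refine absurd ((eq_inv_of_mul_eq_one_left e).trans ?_).symm hcc
          rw [mul_inv_rev, inv_of_sq hu'1, inv_of_sq hu]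
        · rw [← hsq2] at e
          show z ∈ Subgroup.zpowers (u * v)
          rw [hzdef, ← e]
          exact mul_mem (pow_mem (Subgroup.mem_zpowers _) 2) (pow_mem (Subgroup.mem_zpowers _) 2)
  -- `t` as a power of `u v`
  have hn2 : Nat.card {p : G × G // IsConj z p.1 ∧ IsConj t p.2 ∧ t ∈ Subgroup.zpowers (p.1 * p.2)} = r := by
    rw [← hr]
    have htt : t * t = 1 := (hinv (.inr (IsConj.refl t))).1
    have htc : ∀ b : ↥K.B, Commute t (b : G) := fun b => ((hmemD _).mp (K.le b.2)).symm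
    have hfun : ∀ c d : ↥K.B, JankoOrder.Inv c → d * d = 1 → (c * d) ^ 15 = 1 →
        IsConj z (c : G) ∧ IsConj t (t * (d : G)) ∧
          t ∈ Subgroup.zpowers ((c : G) * (t * (d : G))) := by
      intro c d hc hd h15'
      refine ⟨(hmk c hc).2, ?_, ?_⟩
      · have hb : (d : G) * d = 1 := congrArg Subtype.val hd
        have h2 : orderOf (t * (d : G)) = 2 := by
          refine JankoOrder.inv_iff_orderOf.mp ⟨?_, fun e => htB ?_⟩
          · calc t * (d : G) * (t * (d : G)) = t * ((d : G) * t) * (d : G) := by group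
              _ = 1 := by rw [← (htc d).eq, ← mul_assoc, htt, one_mul, hb]
          · exact Eq.subst (motive := fun x => x ∈ K.B) (eq_inv_of_mul_eq_one_left e).symm (inv_mem d.2)
        refine (hcl _ h2).resolve_left fun k => htB ?_
        have hm := ((hclassD _ ((Commute.refl t).mul_left (htc d).symm)).mp k).1
        have := mul_mem hm (inv_mem d.2)
        rwa [mul_inv_cancel_right] at this
      · have h15'' : ((c : G) * (d : G)) ^ 15 = 1 := congrArg Subtype.val h15'
        have e : ((c : G) * (t * (d : G))) ^ 15 = t := by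
          rw [show (c : G) * (t * (d : G)) = t * ((c : G) * (d : G)) by
            rw [← mul_assoc, ← (htc c).eq, mul_assoc], ((htc c).mul_right (htc d)).mul_pow, h15'',
            mul_one, show (15 : ℕ) = 2 * 7 + 1 by rfl, pow_succ, pow_mul, pow_two, htt, one_pow, one_mul]
        have hp := pow_mem (Subgroup.mem_zpowers ((c : G) * (t * (d : G)))) 15
        rwa [e] at hp
    refine (Nat.card_eq_of_bijective (fun q => ⟨((q.1.1 : G), t * (q.1.2 : G)),
      hfun q.1.1 q.1.2 q.2.1 q.2.2.1 q.2.2.2⟩) ⟨?_, ?_⟩).symm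
    · intro a b e
      have e' := congrArg Subtype.val e
      exact Subtype.ext (Prod.ext (Subtype.ext (congrArg Prod.fst e'))
        (Subtype.ext (mul_left_cancel (congrArg Prod.snd e'))))
    · rintro ⟨⟨u, v⟩, huz, hvt, htp⟩
      have hu := (hinv (.inl huz)).1
      have hv := (hinv (.inr hvt)).1
      obtain ⟨k, hk⟩ := mem_powers_iff_mem_zpowers.mpr htp
      have hk' : (u * v) ^ k = t := hk
      have huc : Commute t u := by
        have h1 := Involution.Isolated.conj_pow_eq hu hv k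
        rw [hk', inv_eq_of_mul_eq_one_right htt] at h1
        show t * u = u * t
        calc t * u = u * t * u * u := by rw [h1]
          _ = u * t := by rw [mul_assoc, hu, mul_one]
      have hvc : Commute t v := by
        have := huc.mul_right (hk' ▸ (Commute.refl (u * v)).pow_left k)
        rwa [← mul_assoc, hu, one_mul] at this
      obtain ⟨huB, hu2⟩ := (hclassD u huc.symm).mp huz
      obtain ⟨w, hw, b, hb, rfl⟩ := K.decomp ((hmemD v).mpr hvc.symm)
      have hcw : Commute w u := K.T_comm hw huB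
      have hcwb : Commute w b := K.T_comm hw hb
      have hw2 : w * w = 1 := S.E_sq ha hw.1
      have hkey : w ^ k * (u * b) ^ k = t := by
        rw [← hk', ← (hcw.mul_right hcwb).mul_pow]
        congr 1
        rw [← mul_assoc, hcw.eq, mul_assoc]
      obtain ⟨h1, h2⟩ := K.unique (t := t⁻¹ * w ^ k) (b := (u * b) ^ k)
        (mul_mem (inv_mem L.a_mem_T) (pow_mem hw k)) (pow_mem (mul_mem huB hb) k) (by rw [mul_assoc, hkey, inv_mul_cancel])
      have hwk : w ^ k = t := (inv_mul_eq_one.mp h1).symm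
      obtain ⟨hkodd, hwt⟩ : Odd k ∧ w = t := by
        rcases Nat.even_or_odd k with ⟨j, rfl⟩ | ⟨j, rfl⟩
        · rw [← two_mul, pow_mul, pow_two, hw2, one_pow] at hwk
          rw [← hwk, orderOf_one] at ht
          exact absurd ht (by norm_num)
        · rw [pow_succ, pow_mul, pow_two, hw2, one_pow, one_mul] at hwk
          exact ⟨⟨j, rfl⟩, hwk⟩
      subst hwt
      have hb2 : b * b = 1 := by
        calc b * b = w * w * (b * b) := by rw [hw2, one_mul]
          _ = w * (w * b) * b := by simp only [mul_assoc]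
          _ = w * (b * w) * b := by rw [hcwb.eq]
          _ = w * b * (w * b) := by simp only [mul_assoc]
          _ = 1 := hv
      exact ⟨⟨(⟨u, huB⟩, ⟨b, hb⟩), JankoOrder.inv_iff_orderOf.mpr ((Subgroup.orderOf_mk u huB).trans hu2),
        Subtype.ext hb2, hexp hkodd (Subtype.ext h2)⟩, rfl⟩
  have h := Cfsg.Agent.S0213.result z t hz ht hzt hcl
  rw [hn1, hn2, show Nat.card ↥(Subgroup.centralizer ({z} : Set G)) = 1920 from S.card_C] at h
  exact h

end Setup.Local.Factor

end Cfsg.Agent.HallJankoType
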