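import Cfsg.Agent.Lib.HallJankoType.Structure

/-!
`C(a) = T × B` in a group of Hall–Janko type.
-/

set_option autoImplicit false
set_option linter.style.haveILetI false
set_option linter.unusedSectionVars false

namespace Cfsg.Agent.HallJankoType

open Cfsg.Agent.JankoOrder (Inv inv_iff_orderOf)
open Subgroup

universe u

local notation "A5" => alternatingGroup (Fin 5)

namespace Setup.Local.Factor

variable {G : Type u} [Group G] {S : Setup G} [Finite G] {a : G} {L : Setup.Local S a}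
  (K : Setup.Local.Factor L)

theorem T_le : L.T ≤ Subgroup.centralizer ({a} : Set G) := fun _ hx => hx.1.2

theorem T_comm_F {t x : G} (ht : t ∈ L.T) (hx : x ∈ F S a) : t * x = x * t :=
  S.E_comm L.outside ht.1 (F_le_E hx)

theorem T_comm {t b : G} (ht : t ∈ L.T) (hb : b ∈ K.B) : t * b = b * t := by
  rcases K.card_twelve_or_iso with ⟨-, h12⟩ | ⟨⟨e⟩⟩
  · -- `B` is generated by `F` and `n`
    set M : Subgroup G := K.B ⊓ Subgroup.centralizer ({t} : Set G) with hM
    have hFM : F S a ≤ M := fun x hx => ⟨K.F_le hx, mem_cent.mpr (T_comm_F ht hx).symm⟩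
    have hnM : L.n ∈ M := ⟨K.n_mem, mem_cent.mpr (L.mem_T.mp ht).2.symm⟩
    have h4 : 4 ∣ Nat.card ↥M := by
      rw [← S.card_cent_Q_outside L.outside]; exact Subgroup.card_dvd_of_le hFM
    have h3 : 3 ∣ Nat.card ↥M := by
      haveI : Fact (Nat.Prime 3) := ⟨Nat.prime_three⟩
      rw [← orderOf_eq_prime L.n_cube L.n_ne]
      exact Subgroup.orderOf_dvd_natCard _ hnM
    have e : M = K.B := Subgroup.eq_of_le_of_card_ge inf_le_left (by
      rw [h12]
      exact Nat.le_of_dvd Nat.card_pos (Nat.Coprime.mul_dvd_of_dvd_of_dvd (by decide : Nat.Coprime 4 3) h4 h3))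
    rw [← e] at hb
    exact (mem_cent.mp hb.2).symm
  · let σ : ↥K.B ≃* ↥K.B :=
      { toFun := fun x => ⟨t * x * t⁻¹, K.normal t (T_le ht) x x.2⟩
        invFun := fun x => ⟨t⁻¹ * x * t, by
          have := K.normal t⁻¹ (inv_mem (T_le ht)) x x.2
          simpa using this⟩
        left_inv := fun x => Subtype.ext (by show t⁻¹ * (t * x * t⁻¹) * t = x; group)
        right_inv := fun x => Subtype.ext (by show t * (t⁻¹ * x * t) * t⁻¹ = x; group)
        map_mul' := fun x y => Subtype.ext (by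
          show t * (x * y) * t⁻¹ = t * x * t⁻¹ * (t * y * t⁻¹); group) }
    have hu1 : L.u ≠ 1 := fun k => L.u_nz (.inl k)
    have h := aut_fix e σ (w := ⟨L.u, K.u_mem⟩) (v := ⟨S.z, K.z_mem⟩) (y := ⟨L.n, K.n_mem⟩)
      ⟨Subtype.ext L.u_sq, fun k => hu1 (congrArg Subtype.val k)⟩
      ⟨Subtype.ext S.zz, fun k => S.z_ne_one (congrArg Subtype.val k)⟩
      (fun k => L.u_nz (.inr (congrArg Subtype.val k).symm))
      (Subtype.ext (S.z_comm (S.Q_le L.u_mem)).symm)
      (Subtype.ext (by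
        show L.n * L.n * L.n = 1
        rw [← L.n_cube]; simp [pow_succ]))
      (fun k => L.n_ne (congrArg Subtype.val k))
      (.inl (Subtype.ext L.n_u))
      (Subtype.ext (by
        show t * L.u * t⁻¹ = L.u
        rw [T_comm_F ht L.u_mem_F, mul_inv_cancel_right]))
      (Subtype.ext (by
        show t * S.z * t⁻¹ = S.z
        rw [T_comm_F ht L.z_mem_F, mul_inv_cancel_right]))
      (Subtype.ext (by
        show t * L.n * t⁻¹ = L.n
        rw [(L.mem_T.mp ht).2, mul_inv_cancel_right]))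
      ⟨b, hb⟩
    exact mul_inv_eq_iff_eq_mul.mp (congrArg Subtype.val h)

theorem T_inf_B {x : G} (hx : x ∈ L.T) (hxB : x ∈ K.B) : x = 1 :=
  L.T_inf_F hx (K.inf_E x hx.1 hxB)

theorem unique {t b : G} (ht : t ∈ L.T) (hb : b ∈ K.B) (h : t * b = 1) : t = 1 ∧ b = 1 := by
  have e : t = b⁻¹ := eq_inv_of_mul_eq_one_left h
  have h1 : t = 1 := K.T_inf_B ht (e ▸ inv_mem hb)
  exact ⟨h1, by rwa [h1, one_mul] at h⟩

theorem bijective :
    Function.Bijective (fun p : ↥L.T × ↥K.B =>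
      (⟨(p.1 : G) * p.2, mul_mem (T_le p.1.2) (K.le p.2.2)⟩ :
        ↥(Subgroup.centralizer ({a} : Set G)))) := by
  refine (Nat.bijective_iff_injective_and_card _).mpr ⟨fun p q e => ?_, ?_⟩
  · have e' : (p.1 : G) * p.2 = q.1 * q.2 := congrArg Subtype.val e
    obtain ⟨h1, h2⟩ := K.unique (mul_mem (inv_mem q.1.2) p.1.2) (mul_mem p.2.2 (inv_mem q.2.2)) (by
      calc (q.1 : G)⁻¹ * p.1 * (p.2 * (q.2 : G)⁻¹) = (q.1 : G)⁻¹ * (p.1 * p.2) * (q.2 : G)⁻¹ := by group
        _ = 1 := by rw [e']; group)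
    exact Prod.ext (Subtype.ext (inv_mul_eq_one.mp h1).symm) (Subtype.ext (mul_inv_eq_one.mp h2))
  · rw [Nat.card_prod, L.card_T, K.index]

theorem decomp {x : G} (hx : x ∈ Subgroup.centralizer ({a} : Set G)) :
    ∃ t ∈ L.T, ∃ b ∈ K.B, t * b = x := by
  obtain ⟨p, hp⟩ := K.bijective.2 ⟨x, hx⟩
  exact ⟨p.1, p.1.2, p.2, p.2.2, congrArg Subtype.val hp⟩

/-- `C(a) ≅ T × B`. -/
noncomputable def prodEquiv : ↥L.T × ↥K.B ≃* ↥(Subgroup.centralizer ({a} : Set G)) :=
  MulEquiv.ofBijective (MonoidHom.mk' (fun p : ↥L.T × ↥K.B =>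
    (⟨(p.1 : G) * p.2, mul_mem (T_le p.1.2) (K.le p.2.2)⟩ :
      ↥(Subgroup.centralizer ({a} : Set G)))) fun p q => Subtype.ext (by
        show (p.1 : G) * q.1 * ((p.2 : G) * q.2) = (p.1 : G) * p.2 * ((q.1 : G) * q.2)
        calc (p.1 : G) * q.1 * ((p.2 : G) * q.2) = (p.1 : G) * (q.1 * p.2) * q.2 := by group
          _ = (p.1 : G) * (p.2 * q.1) * q.2 := by rw [K.T_comm q.1.2 p.2.2]
          _ = (p.1 : G) * p.2 * ((q.1 : G) * q.2) := by group)) K.bijective

end Setup.Local.Factor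

end Cfsg.Agent.HallJankoType
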