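import Cfsg.Agent.Lib.HallJankoType.Amalgam
import Cfsg.Agent.Lib.Presented.Data.J2C840

/-!
The generators of an `Amalgam` satisfy the relators of the coset table `J2C840`; hence its 840 cosets
map equivariantly onto cosets of `N(T)`.
-/

set_option autoImplicit false
set_option linter.style.haveILetI false
set_option linter.unusedSectionVars false

namespace Cfsg.Agent.HallJankoType

open Cfsg.Agent.Presented (wval)
open Subgroup

universe u

local notation "A5" => alternatingGroup (Fin 5)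

/-- `q⁻¹pq`. -/
def uT : A5 := qT⁻¹ * pT * qT

/-- `qpq⁻¹`. -/
def vT : A5 := qT * pT * qT⁻¹

/-- The letters of `B`. -/
def sT : ℕ → A5 := fun g => [pT, uT, vT].getD g 1

set_option maxRecDepth 8000 in
theorem sT_words : wval sT [2, 0, 1, 2, 0] = qT ∧ wval sT [0, 2, 1, 0, 2] = qT⁻¹ ∧
    wval sT [2, 0, 1, 2] = xT ∧ wval sT [2, 1, 0, 2] = xT⁻¹ ∧
    wval sT [0, 2, 0, 1, 0, 1, 2, 0, 2, 0, 1, 0, 1, 0, 1, 2, 0] = wT ∧
    wval sT [0, 2, 1, 0, 1, 0, 1, 0, 2, 0, 2, 1, 0, 1, 0, 2, 0] = wT ∧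
    wval sT [0, 2, 1, 0, 2, 0, 2, 0, 1, 0, 1, 2, 0] = q1T ∧
    wval sT [0, 2, 1, 0, 1, 0, 2, 0, 2, 0, 1, 2, 0] = q1T⁻¹ ∧
    wval sT [2, 0, 1, 2, 0, 2, 1, 0, 2, 1] = 1 ∧ wval sT [2, 0, 1, 0, 1, 0, 1, 0, 1, 0, 1, 2] = 1 ∧
    wval sT [0, 2, 1, 0, 2, 0, 2, 0, 1, 2, 0, 2] = 1 ∧
    wval sT [2, 0, 1, 2, 0, 2, 0, 1, 2, 0, 2, 0, 1, 2, 0] = 1 ∧
    pT * pT = 1 ∧ uT * uT = 1 ∧ vT * vT = 1 ∧ wT * wT = 1 := by
  decide +kernel

/-- The relators of the table. -/
def j2Rels : List (List ℕ) :=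
  [[0, 3, 0, 3], [5, 4, 5, 4, 5, 4], [0, 4, 5, 0, 5, 4], [4, 3, 4, 3, 4, 3], [5, 4, 3, 5, 4, 3, 5, 4, 3],
    [2, 1, 0, 2, 4, 2, 0, 1, 2, 4], [2, 0, 1, 2, 0, 2, 1, 0, 2, 1],
    [2, 0, 1, 0, 1, 0, 1, 0, 1, 0, 1, 2], [0, 2, 1, 0, 2, 3, 2, 0, 1, 2, 0, 3],
    [0, 2, 1, 0, 2, 0, 2, 0, 1, 2, 0, 2], [0, 2, 1, 0, 2, 4, 5, 2, 0, 1, 2, 0, 5, 4],
    [2, 0, 1, 2, 0, 2, 0, 1, 2, 0, 2, 0, 1, 2, 0],
    [0, 2, 1, 0, 1, 0, 1, 0, 2, 0, 2, 1, 0, 1, 0, 2, 0, 4, 0, 2, 0, 1, 0, 1, 2, 0, 2, 0, 1, 0, 1, 0, 1, 2,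
      0, 4],
    [5, 0, 2, 1, 0, 1, 0, 2, 0, 2, 0, 1, 2, 0, 4, 0, 2, 1, 0, 2, 4, 0, 2, 1, 0, 2, 0, 2, 0, 1, 0, 1, 2, 0,
      4, 2, 0, 1, 2, 0]]

/-- The words generating the subgroup. -/
def j2Sub : List (List ℕ) := [[0], [1], [2], [3], [5, 4]]

/-- A word is a square of a letter or a rotation of a relator or of its reverse. -/
def derivedWord (w : List ℕ) : Bool :=
  [[0, 0], [1, 1], [2, 2], [3, 3], [4, 4], [5, 5]].contains w ||
    (List.range (w.length + 1)).any fun k => j2Rels.contains (w.rotate k) || j2Rels.contains (w.rotate k).reverse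

open Presented.J2C840 in
theorem cert_words : cert.words.take cert.nR = j2Rels ∧
    ((cert.words.drop cert.nR).all fun w => j2Sub.contains w || (deriv.loops.map Prod.fst).contains w) = true ∧
    ((deriv.words.take deriv.nR).all derivedWord) = true ∧
    ((deriv.words.drop deriv.nR).all fun w => j2Sub.contains w) = true :=
  ⟨rfl, by decide +kernel, by decide +kernel, by decide +kernel⟩

theorem wval_reverse {H : Type*} [Group H] {s : ℕ → H} (hs : ∀ g, s g * s g = 1) (w : List ℕ) :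
    wval s w.reverse = (wval s w)⁻¹ := by
  rw [Presented.wval_eq_prod, Presented.wval_eq_prod, List.map_reverse, List.reverse_reverse,
    List.prod_inv_reverse, List.map_reverse, List.reverse_reverse, List.map_map]
  exact congrArg List.prod (List.map_congr_left fun g _ => eq_inv_of_mul_eq_one_left (hs g))

namespace Setup.Local.Factor

variable {G : Type u} [Group G] {S : Setup G} [Finite G] {a : G} {L : Setup.Local S a}
  {K : Setup.Local.Factor L} {e : ↥K.B ≃* A5} {y a' j : G}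

/-- The six involutions. -/
def letters (e : ↥K.B ≃* A5) (y a' j : G) : ℕ → G :=
  fun g => [bOf e pT, bOf e uT, bOf e vT, a', j, j * y].getD g 1

theorem Amalgam.sq (A : Amalgam e y a' j) (g : ℕ) : letters e y a' j g * letters e y a' j g = 1 := by
  obtain ⟨-, -, -, -, -, -, -, -, -, -, -, -, hp, hu, hv, -⟩ := sT_words
  match g with
  | 0 => show bOf e pT * bOf e pT = 1; rw [← bOf_mul, hp, bOf_one]
  | 1 => show bOf e uT * bOf e uT = 1; rw [← bOf_mul, hu, bOf_one]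
  | 2 => show bOf e vT * bOf e vT = 1; rw [← bOf_mul, hv, bOf_one]
  | 3 => exact A.a2
  | 4 => exact A.j2
  | 5 =>
    show j * y * (j * y) = 1
    calc j * y * (j * y) = (j * y * j⁻¹) * (j * j) * y := by group
      _ = 1 := by rw [A.jy, A.j2, mul_one, inv_mul_cancel]
  | n + 6 => exact mul_one 1

theorem wval_B (w : List ℕ) (hw : ∀ g ∈ w, g < 3) :
    wval (letters e y a' j) w = bOf e (wval sT w) := by
  induction w with
  | nil => exact (bOf_one e).symm
  | cons g w ih =>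
    rw [wval, wval, bOf_mul, ih fun x hx => hw x (List.mem_cons_of_mem _ hx)]
    congr 1
    have := hw g List.mem_cons_self
    interval_cases g <;> rfl

theorem Amalgam.rels_one (A : Amalgam e y a' j) : ∀ w ∈ j2Rels, wval (letters e y a' j) w = 1 := by
  obtain ⟨hq, hqi, hx, hxi, hw, hw', h1, h1i, r6, r7, r9, r11, hp, -, -, hw2⟩ := sT_words
  set s := letters e y a' j with hs
  have hB : ∀ w : List ℕ, (w.all fun g => decide (g < 3)) = true → wval s w = bOf e (wval sT w) :=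
    fun w hw => wval_B w (by simpa using hw)
  have hji : j⁻¹ = j := inv_of_sq A.j2
  have hjk : j * (j * y) = y := by rw [← mul_assoc, A.j2, one_mul]
  have hkj : (j * y) * j = y⁻¹ := by rw [← A.jy, hji]
  have hyc : ∀ b, y * bOf e b = bOf e b * y := fun b => A.yB _ (bOf_mem e b)
  have hac : ∀ b, a' * bOf e b = bOf e b * a' := fun b => bOf_comm_T e A.a_mem b
  intro w hmem
  simp only [j2Rels, List.mem_cons, List.not_mem_nil, or_false] at hmem
  rcases hmem with rfl | rfl | rfl | rfl | rfl | rfl | rfl | rfl | rfl | rfl | rfl | rfl | rfl | rfl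
  · show 1 * a' * bOf e pT * a' * bOf e pT = 1
    rw [one_mul, hac, mul_assoc (bOf e pT) a' a', A.a2, mul_one, ← bOf_mul, hp, bOf_one]
  · show 1 * j * (j * y) * j * (j * y) * j * (j * y) = 1
    calc 1 * j * (j * y) * j * (j * y) * j * (j * y) = (j * j) * y * ((j * j) * y) * ((j * j) * y) := by group
      _ = y ^ 3 := by simp only [A.j2, one_mul, pow_succ, pow_zero]
      _ = 1 := A.y3
  · show 1 * j * (j * y) * bOf e pT * (j * y) * j * bOf e pT = 1
    rw [one_mul, hjk, hyc, mul_assoc (bOf e pT * y), hkj, mul_inv_cancel_right, ← bOf_mul, hp, bOf_one]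
  · show 1 * a' * j * a' * j * a' * j = 1
    have h := A.aj
    simp only [pow_succ, pow_zero, one_mul, mul_assoc] at h ⊢
    exact h
  · show 1 * a' * j * (j * y) * a' * j * (j * y) * a' * j * (j * y) = 1
    calc _ = a' * (j * j) * y * (a' * (j * j) * y) * (a' * (j * j) * y) := by group
      _ = (a' * y) ^ 3 := by simp only [A.j2, mul_one, pow_succ, pow_zero, one_mul]
      _ = 1 := A.ay
  · show wval s ([2, 1, 0, 2] ++ ([4] ++ ([2, 0, 1, 2] ++ [4]))) = 1
    simp only [Presented.wval_append]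
    rw [hB [2, 1, 0, 2] rfl, hB [2, 0, 1, 2] rfl, hx, hxi]
    show 1 * j * bOf e xT * (1 * j) * bOf e xT⁻¹ = 1
    rw [one_mul, A.jx, mul_assoc (bOf e xT) j j, A.j2, mul_one, ← bOf_mul, mul_inv_cancel, bOf_one]
  · rw [hB _ rfl, r6, bOf_one]
  · rw [hB _ rfl, r7, bOf_one]
  · show wval s ([0, 2, 1, 0, 2] ++ ([3] ++ ([2, 0, 1, 2, 0] ++ [3]))) = 1
    simp only [Presented.wval_append]
    rw [hB [0, 2, 1, 0, 2] rfl, hB [2, 0, 1, 2, 0] rfl, hq, hqi]
    show 1 * a' * bOf e qT * (1 * a') * bOf e qT⁻¹ = 1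
    rw [one_mul, hac, mul_assoc (bOf e qT) a' a', A.a2, mul_one, ← bOf_mul, mul_inv_cancel, bOf_one]
  · rw [hB _ rfl, r9, bOf_one]
  · show wval s ([0, 2, 1, 0, 2] ++ ([4, 5] ++ ([2, 0, 1, 2, 0] ++ [5, 4]))) = 1
    simp only [Presented.wval_append]
    rw [hB [0, 2, 1, 0, 2] rfl, hB [2, 0, 1, 2, 0] rfl, hq, hqi]
    show 1 * j * (j * y) * bOf e qT * (1 * (j * y) * j) * bOf e qT⁻¹ = 1
    rw [one_mul, one_mul, hjk, hkj, hyc, mul_inv_cancel_right, ← bOf_mul, mul_inv_cancel, bOf_one]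
  · rw [hB _ rfl, r11, bOf_one]
  · show wval s ([0, 2, 1, 0, 1, 0, 1, 0, 2, 0, 2, 1, 0, 1, 0, 2, 0] ++
      ([4] ++ ([0, 2, 0, 1, 0, 1, 2, 0, 2, 0, 1, 0, 1, 0, 1, 2, 0] ++ [4]))) = 1
    simp only [Presented.wval_append]
    rw [hB [0, 2, 0, 1, 0, 1, 2, 0, 2, 0, 1, 0, 1, 0, 1, 2, 0] rfl,
      hB [0, 2, 1, 0, 1, 0, 1, 0, 2, 0, 2, 1, 0, 1, 0, 2, 0] rfl, hw, hw']
    show 1 * j * bOf e wT * (1 * j) * bOf e wT = 1
    rw [one_mul, A.jw, mul_assoc (bOf e wT) j j, A.j2, mul_one, ← bOf_mul, hw2, bOf_one]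
  · show wval s ([5] ++ ([0, 2, 1, 0, 1, 0, 2, 0, 2, 0, 1, 2, 0] ++ ([4] ++ ([0, 2, 1, 0, 2] ++
      ([4] ++ ([0, 2, 1, 0, 2, 0, 2, 0, 1, 0, 1, 2, 0] ++ ([4] ++ [2, 0, 1, 2, 0]))))))) = 1
    simp only [Presented.wval_append]
    rw [hB [0, 2, 1, 0, 1, 0, 2, 0, 2, 0, 1, 2, 0] rfl, hB [0, 2, 1, 0, 2] rfl,
      hB [0, 2, 1, 0, 2, 0, 2, 0, 1, 0, 1, 2, 0] rfl, hB [2, 0, 1, 2, 0] rfl, hq, hqi, h1, h1i, bOf_inv, bOf_inv]
    show bOf e qT * (1 * j) * bOf e q1T * (1 * j) * (bOf e qT)⁻¹ * (1 * j) * (bOf e q1T)⁻¹ *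
      (1 * (j * y)) = 1
    refine Eq.trans ?_ A.key
    simp only [one_mul, mul_inv_rev, inv_inv, hji, mul_assoc]

theorem Amalgam.deriv_one (A : Amalgam e y a' j) {w : List ℕ} (h : derivedWord w = true) :
    wval (letters e y a' j) w = 1 := by
  simp only [derivedWord, Bool.or_eq_true, List.any_eq_true, List.contains_eq_mem, decide_eq_true_eq] at h
  rcases h with h | ⟨k, -, h'⟩
  · simp only [List.mem_cons, List.not_mem_nil, or_false] at h
    rcases h with rfl | rfl | rfl | rfl | rfl | rfl <;>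
      simp only [wval, one_mul, A.sq]
  · have h1 : wval (letters e y a' j) (w.rotate k) = 1 := by
      rcases h' with h' | h'
      · exact A.rels_one _ h'
      · have := A.rels_one _ h'
        rwa [wval_reverse A.sq, inv_eq_one] at this
    rw [List.rotate_eq_drop_append_take_mod, Presented.wval_append, mul_eq_one_comm, ← Presented.wval_append,
      List.take_append_drop] at h1
    exact h1

theorem Amalgam.sub_mem (A : Amalgam e y a' j) :
    ∀ w ∈ j2Sub, wval (letters e y a' j) w ∈ Subgroup.normalizer (L.T : Set G) := by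
  have hB : ∀ b, bOf e b ∈ Subgroup.normalizer (L.T : Set G) := fun b =>
    Subgroup.mem_normalizer_iff.mpr fun t => by
      constructor
      · intro ht
        rwa [show bOf e b * t * (bOf e b)⁻¹ = t from
          mul_inv_eq_iff_eq_mul.mpr (bOf_comm_T e ht b).symm]
      · intro ht
        have h := bOf_comm_T e ht b
        have e1 : bOf e b * t * (bOf e b)⁻¹ = t := by
          calc bOf e b * t * (bOf e b)⁻¹ = (bOf e b)⁻¹ * (bOf e b * (bOf e b * t * (bOf e b)⁻¹)) := by group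
            _ = t := by rw [← h]; group
        rwa [e1] at ht
  intro w hw
  simp only [j2Sub, List.mem_cons, List.not_mem_nil, or_false] at hw
  rcases hw with rfl | rfl | rfl | rfl | rfl
  · show 1 * bOf e pT ∈ _; rw [one_mul]; exact hB _
  · show 1 * bOf e uT ∈ _; rw [one_mul]; exact hB _
  · show 1 * bOf e vT ∈ _; rw [one_mul]; exact hB _
  · show 1 * a' ∈ _; rw [one_mul]; exact Subgroup.le_normalizer A.a_mem
  · show 1 * j * (j * y) ∈ _
    rw [one_mul, ← mul_assoc, A.j2, one_mul]; exact A.y_norm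

open Presented Presented.J2C840 in
/-- The cosets of the table map equivariantly to the cosets of `N(T)`. -/
theorem Amalgam.exists_map (A : Amalgam e y a' j) :
    ∃ c : ℕ → G ⧸ Subgroup.normalizer (L.T : Set G), c 0 = QuotientGroup.mk 1 ∧
      ∀ i g, i < cert.N → g < cert.m → letters e y a' j g • c i = c (cert.actOf i g) := by
  obtain ⟨hw, hsub, hd, hdk⟩ := cert_words
  set s := letters e y a' j with hs
  set H := Subgroup.normalizer (L.T : Set G) with hH
  have hloop : ∀ w ∈ deriv.loops.map Prod.fst, wval s w ∈ H :=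
    deriv.loops_mem H deriv_factsOK deriv_loopsOK (fun g _ => A.sq g)
      (fun w hw => A.deriv_one (List.all_eq_true.mp hd w hw))
      (fun w hw => A.sub_mem w (by simpa using List.all_eq_true.mp hdk w hw))
  obtain ⟨c, hc0, hc⟩ := CosetCert.exists_cosets (s := s) cert_nodesOK H
  refine ⟨c, hc0, fun i g hi hg => ?_⟩
  refine CosetCert.edge_good cert_edgesOK cert_nodesOK H (fun g _ => A.sq g)
    (fun w hm => A.rels_one w (hw ▸ hm)) (fun w hm => ?_) hc0 hc _ i g hi hg cert.rankOf_lt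
  have := List.all_eq_true.mp hsub w hm
  simp only [Bool.or_eq_true, List.contains_eq_mem, decide_eq_true_eq] at this
  exact this.elim (A.sub_mem w) (hloop w)

end Setup.Local.Factor

end Cfsg.Agent.HallJankoType
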