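import Cfsg.Agent.Lib.HallJankoType.Outside
import Cfsg.Agent.Lib.Involution.Dihedral

/-!
The two classes of involutions of a group of Hall–Janko type, and the centralizer in `C(z)` of
an involution outside `Q`.
-/

set_option autoImplicit false
set_option linter.style.haveILetI false
set_option linter.unusedSectionVars false

namespace Cfsg.Agent.HallJankoType

open Cfsg.Agent.JankoOrder (Inv inv_iff_orderOf)
open Subgroup

universe u

local notation "A5" => alternatingGroup (Fin 5)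

theorem div_mem_of_index_two {G : Type*} [Group G] [Finite G] {K H : Subgroup G} (hKH : K ≤ H)
    (hcard : 2 * Nat.card ↥K = Nat.card ↥H) {r s : G} (hr : r ∈ H) (hs : s ∈ H) (hrK : r ∉ K)
    (hsK : s ∉ K) : r⁻¹ * s ∈ K := by
  have hidx : (K.subgroupOf H).index = 2 := by
    have h := (K.subgroupOf H).index_mul_card
    rw [Nat.card_congr (Subgroup.subgroupOfEquivOfLe hKH).toEquiv, ← hcard] at h
    exact Nat.eq_of_mul_eq_mul_right Nat.card_pos h
  have h := (Subgroup.mul_mem_iff_of_index_two hidx (a := (⟨r, hr⟩ : ↥H)⁻¹) (b := ⟨s, hs⟩)).mpr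
    (iff_of_false (fun h => hrK ((Subgroup.inv_mem_iff _).mp h)) hsK)
  exact h

theorem cube_eq_one_of_card_two_pow {G : Type*} [Group G] {K : Subgroup G} {n : ℕ}
    (h : Nat.card ↥K = 2 ^ n) {k : G} (hk : k ∈ K) (h3 : k ^ 3 = 1) : k = 1 := by
  refine orderOf_eq_one_iff.mp (Nat.eq_one_of_dvd_coprimes ?_ (Subgroup.orderOf_dvd_natCard K hk)
    (orderOf_dvd_of_pow_eq_one h3))
  rw [h]
  exact Nat.Coprime.pow_left _ (by decide)

namespace Setup

variable {G : Type u} [Group G] (S : Setup G) [Finite G] {a : G}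

theorem card_noncentral :
    Nat.card {w : G // w ∈ S.Q ∧ w * w = 1 ∧ ¬ S.Zp w} = 10 := by
  classical
  obtain ⟨u, hu, hu2, huz, -⟩ := S.exists_noncentral
  have h1 := Nat.card_congr
    (Equiv.sumCompl fun w : {x : G // x ∈ S.Q ∧ x * x = 1} => S.Zp (w : G))
  rw [Nat.card_sum, (S.involutions_Q hu hu2 huz).1] at h1
  have e2 : Nat.card {w : {x : G // x ∈ S.Q ∧ x * x = 1} // S.Zp (w : G)} = 2 := by
    refine Nat.card_eq_two_iff.mpr ⟨⟨⟨1, one_mem _, mul_one 1⟩, .inl rfl⟩,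
      ⟨⟨S.z, S.z_mem_Q, S.zz⟩, .inr rfl⟩, ?_, ?_⟩
    · intro e; exact S.z_ne_one (congrArg (fun w => ((w.1 : {x : G // x ∈ S.Q ∧ x * x = 1}) : G)) e).symm
    · refine Set.eq_univ_iff_forall.mpr fun w => ?_
      rcases w.2 with h | h
      · exact .inl (Subtype.ext (Subtype.ext h))
      · exact .inr (Set.mem_singleton_iff.mpr (Subtype.ext (Subtype.ext h)))
  have e3 : Nat.card {w : {x : G // x ∈ S.Q ∧ x * x = 1} // ¬ S.Zp (w : G)} =
      Nat.card {w : G // w ∈ S.Q ∧ w * w = 1 ∧ ¬ S.Zp w} :=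
    Nat.card_congr
      { toFun := fun w => ⟨w.1.1, w.1.2.1, w.1.2.2, w.2⟩
        invFun := fun w => ⟨⟨w.1, w.2.1, w.2.2.1⟩, w.2.2.2⟩
        left_inv := fun _ => rfl
        right_inv := fun _ => rfl }
  omega

theorem not_zp_conj {u c : G} (hc : c ∈ S.C) (h : ¬ S.Zp u) : ¬ S.Zp (c * u * c⁻¹) := fun h' => h (by
  have e : c⁻¹ * (c * u * c⁻¹) * c = u := by group
  rw [← e, Zp.comm S h' (inv_mem hc), inv_mul_cancel_right]
  exact h')

/-- The centralizer in `C` of a noncentral involution of `Q` has order 192. -/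
theorem card_cent_C_noncentral {u : G} (hu : u ∈ S.Q) (hu2 : u * u = 1) (huz : ¬ S.Zp u) :
    Nat.card ↥(S.C ⊓ Subgroup.centralizer ({u} : Set G) : Subgroup G) = 192 := by
  have h := card_orbit_mul S.C u
  have e : Nat.card {v : G // ∃ c ∈ S.C, c * u * c⁻¹ = v} = 10 := by
    rw [← S.card_noncentral]
    refine Nat.card_congr (Equiv.subtypeEquivRight fun v => ⟨?_, fun hv => ?_⟩)
    · rintro ⟨c, hc, rfl⟩
      refine ⟨S.conj_mem hc hu, ?_, S.not_zp_conj hc huz⟩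
      calc c * u * c⁻¹ * (c * u * c⁻¹) = c * (u * u) * c⁻¹ := by group
        _ = 1 := by rw [hu2]; group
    · exact S.conj_noncentral hu hu2 huz hv.1 hv.2.1 hv.2.2
  rw [e, S.card_C] at h
  omega

/-- An element of order three of `C` cannot centralise a maximal subgroup of `Q`. -/
theorem mem_Q_of_fix {K : Subgroup G} (hK : K ≤ S.Q) (hcard : Nat.card ↥K = 16) {y : G} (hy : y ∈ S.C)
    (hy3 : y ^ 3 = 1) (hfix : ∀ k ∈ K, y * k * y⁻¹ = k) : y ∈ S.Q := by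
  refine S.self y hy fun q hq => mul_inv_eq_iff_eq_mul.mp ?_
  refine fix_of_index_two hy3 hfix (fun r hr => ?_)
    (fun k hk h => cube_eq_one_of_card_two_pow (n := 4) (by rw [hcard]; norm_num) hk h) hq
  by_cases hrK : r ∈ K
  · rw [hfix r hrK, inv_mul_cancel]; exact one_mem _
  · refine div_mem_of_index_two hK (by rw [hcard, S.card_Q]) hr (S.conj_mem hy hr) hrK fun h => hrK ?_
    have e := hfix _ h
    have : y * r * y⁻¹ = r := mul_left_cancel (mul_right_cancel e)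
    rwa [this] at h

theorem four_comm {u k x : G} (_hx : x ∈ S.Q) (hu2 : u * u = 1) (hk : k ∈ S.C) (hku : k * u = u * k)
    (hf : S.Four u x) : k * x = x * k := by
  rcases hf with h | h
  · exact Zp.comm S h hk
  · have e : x = x * u * u := by rw [mul_assoc, hu2, mul_one]
    rw [e]
    calc k * (x * u * u) = k * (x * u) * u := by group
      _ = x * u * (k * u) := by rw [Zp.comm S h hk]; group
      _ = x * u * u * k := by rw [hku]; group

set_option maxHeartbeats 1200000 in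
theorem cent_le_four (ha : S.Outside a) {u : G} (hu : u ∈ S.Q) (hu2 : u * u = 1) (huz : ¬ S.Zp u)
    (hua : u * a = a * u) (hiff : ∀ q ∈ S.Q, (q * a = a * q ↔ S.Four u q)) {k : G} (hk : k ∈ S.C)
    (hka : k * a = a * k) : k * u = u * k := by
  classical
  haveI : Fact (Nat.Prime 2) := ⟨Nat.prime_two⟩
  haveI : Fact (Nat.Prime 3) := ⟨Nat.prime_three⟩
  set Su : Subgroup G := S.C ⊓ Subgroup.centralizer ({u} : Set G) with hSu
  set R : Subgroup G := S.Q ⊓ Subgroup.centralizer ({u} : Set G) with hR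
  set F : Subgroup G := S.Q ⊓ Subgroup.centralizer ({a} : Set G) with hF
  have hR16 : Nat.card ↥R = 16 := S.card_cent_Q hu huz
  have hF4 : Nat.card ↥F = 4 := S.card_cent_Q_outside ha
  have hW8 := (S.card_W ha).1
  have hFc : ∀ {s x : G}, s ∈ Su → x ∈ F → s * x = x * s := fun hs hx =>
    S.four_comm hx.1 hu2 hs.1 (mem_cent.mp hs.2) ((hiff _ hx.1).mp (mem_cent.mp hx.2))
  have hFconj : ∀ {s x : G}, s ∈ Su → x ∈ F → s * x * s⁻¹ = x := fun hs hx => by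
    rw [hFc hs hx, mul_inv_cancel_right]
  have hzF : ∀ {x : G}, S.Zp x → x ∈ F := fun hx =>
    ⟨Zp.mem S hx, mem_cent.mpr (Zp.comm S hx ha.mem).symm⟩
  have huF : u ∈ F := ⟨hu, mem_cent.mpr hua⟩
  have huW : u ∈ S.W ha.mem := ⟨hu, .inl (by rw [← hua, mul_inv_cancel_right, mul_inv_cancel])⟩
  have hWR : S.W ha.mem ≤ R := fun w hw => ⟨hw.1, mem_cent.mpr (S.W_comm ha hw huW)⟩
  have hRS : R ≤ Su := fun r hr => ⟨S.Q_le hr.1, hr.2⟩
  have hFR : F ≤ R := fun x hx => ⟨hx.1, mem_cent.mpr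
    (S.four_comm hx.1 hu2 (S.Q_le hu) rfl ((hiff _ hx.1).mp (mem_cent.mp hx.2))).symm⟩
  have hFW : F ≤ S.W ha.mem := fun x hx => ⟨hx.1, .inl (by
    rw [(mem_cent.mp hx.2).symm, mul_inv_cancel_right, mul_inv_cancel])⟩
  have haS : a ∈ Su := ⟨ha.mem, mem_cent.mpr hua.symm⟩
  have hSR : ∀ {s r : G}, s ∈ Su → r ∈ R → s * r * s⁻¹ ∈ R := fun hs hr =>
    ⟨S.conj_mem hs.1 hr.1, (mul_mem (mul_mem hs (hRS hr)) (inv_mem hs)).2⟩
  -- an element of order three
  obtain ⟨yS, hyS⟩ := exists_prime_orderOf_dvd_card' (G := ↥Su) 3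
    (by rw [(S.card_cent_C_noncentral hu hu2 huz : Nat.card ↥Su = 192)]; norm_num)
  rw [← Subgroup.orderOf_coe] at hyS
  obtain ⟨y, hy, hy3⟩ : ∃ y ∈ Su, orderOf y = 3 := ⟨yS, yS.2, hyS⟩
  have hy3' : y ^ 3 = 1 := hy3 ▸ pow_orderOf_eq_one y
  have hyQ : y ∉ S.Q := fun h => by
    have hd := Subgroup.orderOf_dvd_natCard _ h
    rw [hy3, S.card_Q] at hd
    norm_num at hd
  -- the image of `Su`
  let χ : ↥Su →* A5 := S.ψ.comp (Subgroup.inclusion inf_le_left)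
  have hH : Nat.card ↥χ.range = 12 := by
    have hk : Nat.card ↥χ.ker = 16 := by
      rw [← hR16]
      refine Nat.card_congr
        { toFun := fun x => ⟨((x : ↥Su) : G), (S.mem_Q_iff (x : ↥Su).2.1).mpr x.2, (x : ↥Su).2.2⟩
          invFun := fun x => ⟨⟨x.1, hRS x.2⟩, (S.mem_Q_iff (S.Q_le x.2.1)).mp x.2.1⟩
          left_inv := fun _ => rfl
          right_inv := fun _ => rfl }
    have h := χ.ker.card_mul_index
    rw [Subgroup.index_ker, hk, (S.card_cent_C_noncentral hu hu2 huz : Nat.card ↥Su = 192)] at h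
    omega
  set H := χ.range with hHdef
  set A := S.ψ ⟨a, ha.mem⟩ with hA
  set Y := S.ψ ⟨y, hy.1⟩ with hY
  have hmemH : ∀ {s : G} (hs : s ∈ Su), S.ψ ⟨s, hs.1⟩ ∈ H := fun {s} hs => ⟨⟨s, hs⟩, rfl⟩
  have hA2 : Inv A := ha.ψ_inv
  have h5 : ∀ q ∈ H, q ^ 5 = 1 → q = 1 := by
    intro q hq hq5
    refine orderOf_eq_one_iff.mp (Nat.eq_one_of_dvd_coprimes (a := 5) (b := 12) (by decide)
      (orderOf_dvd_of_pow_eq_one hq5) (hH ▸ Subgroup.orderOf_dvd_natCard H hq))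
  obtain ⟨B, hB, hB2, hAB, hBc⟩ : ∃ B ∈ H, Inv B ∧ A ≠ B ∧ A * B = B * A := by
    obtain ⟨P, hP4, hP⟩ := Sylow.exists_subgroup_card_pow_prime_le 2 (n := 1) (m := 2)
      (show 2 ^ 2 ∣ Nat.card ↥H by rw [hH]; norm_num) (zpowers (⟨A, hmemH haS⟩ : ↥H))
      (by rw [Nat.card_zpowers, inv_iff_orderOf.mp ⟨Subtype.ext hA2.1,
        fun e => hA2.2 (congrArg Subtype.val e)⟩, pow_one]) (by norm_num)
    have hPcomm := IsPGroup.isMulCommutative_of_card_eq_prime_sq hP4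
    have hAP : (⟨A, hmemH haS⟩ : ↥H) ∈ P := hP (mem_zpowers _)
    obtain ⟨B, hBP, hB1, hBA⟩ : ∃ B ∈ P, (B : A5) ≠ 1 ∧ (B : A5) ≠ A := by
      by_contra hne
      push Not at hne
      have hle : Nat.card ↥P ≤ Nat.card ↥({1, A} : Set A5) :=
        Nat.card_le_card_of_injective (fun q => ⟨((q : ↥H) : A5), by
          by_cases hq : ((q : ↥H) : A5) = 1
          · exact .inl hq
          · exact .inr (hne _ q.2 hq)⟩) fun q r e =>
          Subtype.ext (Subtype.ext (congrArg Subtype.val e :))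
      rw [hP4, Nat.card_coe_set_eq, Set.ncard_pair hA2.2.symm] at hle
      norm_num at hle
    have hc : (B : A5) * A = A * B := congrArg (fun w : ↥H => (w : A5))
      (congrArg Subtype.val (hPcomm.is_comm.comm (⟨B, hBP⟩ : ↥P) ⟨⟨A, hmemH haS⟩, hAP⟩))
    exact ⟨B, B.2, ⟨five_cent_sq A B hA2 hc, hB1⟩, hBA.symm, hc.symm⟩
  have hY3 : Y * Y * Y = 1 := by
    rw [hY, ← map_mul, ← map_mul]
    convert map_one S.ψ using 2
    exact Subtype.ext (by
      show y * y * y = 1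
      rw [← hy3']; simp [pow_succ])
  have hY1 : Y ≠ 1 := fun h => hyQ ((S.mem_Q_iff hy.1).mpr h)
  have hne5 : ∀ q ∈ H, Inv q → (q * Y) ^ 5 ≠ 1 := by
    intro q hq hq2 h
    have e := h5 _ (mul_mem hq (hmemH hy)) h
    have eY : Y = q := (eq_inv_of_mul_eq_one_right e).trans (inv_of_sq hq2.1)
    rw [eY, hq2.1, one_mul] at hY3
    exact hq2.2 hY3
  have hABinv : Inv (A * B) := by
    refine ⟨?_, fun e => hAB ?_⟩
    · calc A * B * (A * B) = A * (B * A) * B := by group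
        _ = (A * A) * (B * B) := by rw [← hBc]; group
        _ = 1 := by rw [hA2.1, hB2.1, one_mul]
    · rw [eq_inv_of_mul_eq_one_left e, inv_of_sq hB2.1]
  obtain ⟨hAC, hCA, hYC⟩ := five_twelve A hA2 B ⟨hB2, hAB, hBc⟩ Y ⟨hY3, hY1⟩
    ⟨hne5 A (hmemH haS) hA2, hne5 B hB hB2, hne5 _ (mul_mem (hmemH haS) hB) hABinv⟩
  set c := y * a * y⁻¹ with hcdef
  have hc : S.Outside c := ha.conj S hy.1
  have hcS : c ∈ Su := mul_mem (mul_mem hy haS) (inv_mem hy)
  set d := y * c * y⁻¹ with hddef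
  have hd : S.Outside d := hc.conj S hy.1
  have hdS : d ∈ Su := mul_mem (mul_mem hy hcS) (inv_mem hy)
  set Cc := S.ψ ⟨c, hc.mem⟩ with hCc
  have hCeq : Cc = Y * A * Y⁻¹ := by
    rw [hCc, hY, hA, ← map_inv, ← map_mul, ← map_mul]
    rfl
  rw [← hCeq] at hAC hCA hYC
  have hDeq : S.ψ ⟨d, hd.mem⟩ = A * Cc := by
    rw [← hYC, hCc, hY, ← map_inv, ← map_mul, ← map_mul]
    rfl
  -- `y` fixes `F`, and moves the coset of `F` in `W`
  obtain ⟨w, hw, hwF⟩ : ∃ w ∈ S.W ha.mem, w ∉ F := by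
    by_contra hne
    push Not at hne
    have := Subgroup.card_le_of_le (show S.W ha.mem ≤ F from hne)
    omega
  have hw' : y * w * y⁻¹ ∉ S.W ha.mem := by
    intro hyw
    refine hyQ (S.mem_Q_of_fix (K := R) inf_le_left hR16 hy.1 hy3' fun r hr => ?_)
    have hW : ∀ v ∈ S.W ha.mem, y * v * y⁻¹ = v := fun v hv => by
      refine fix_of_index_two hy3' (fun x hx => hFconj hy hx) (fun s hs => ?_)
        (fun x hx h => cube_eq_one_of_card_two_pow (n := 2) (by rw [hF4]; norm_num) hx h) hv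
      by_cases hsF : s ∈ F
      · rw [hFconj hy hsF, inv_mul_cancel]; exact one_mem _
      · have hsw : w⁻¹ * s ∈ F := div_mem_of_index_two hFW (by rw [hF4, hW8]) hw hs hwF hsF
        have hsy : y * s * y⁻¹ ∈ S.W ha.mem := by
          have e : y * s * y⁻¹ = (y * w * y⁻¹) * (y * (w⁻¹ * s) * y⁻¹) := by group
          rw [e, hFconj hy hsw]
          exact mul_mem hyw (hFW hsw)
        refine div_mem_of_index_two hFW (by rw [hF4, hW8]) hs hsy hsF fun h => hsF ?_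
        have e := hFconj hy h
        have : y * s * y⁻¹ = s := mul_left_cancel (mul_right_cancel e)
        rwa [this] at h
    refine fix_of_index_two hy3' hW (fun s hs => ?_)
      (fun x hx h => cube_eq_one_of_card_two_pow (n := 3) (by rw [hW8]; norm_num) hx h) hr
    by_cases hsW : s ∈ S.W ha.mem
    · rw [hW s hsW, inv_mul_cancel]; exact one_mem _
    · refine div_mem_of_index_two hWR (by rw [hW8, hR16]) hs (hSR hy hs) hsW fun h => hsW ?_
      have e := hW _ h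
      have : y * s * y⁻¹ = s := mul_left_cancel (mul_right_cancel e)
      rwa [this] at h
  -- `c` acts trivially on `R` modulo `F`
  have hcw : ∀ v ∈ S.W ha.mem, c * v * c⁻¹ * v⁻¹ ∈ F := by
    intro v hv
    by_cases hvF : v ∈ F
    · rw [hFconj hcS hvF, mul_inv_cancel]; exact one_mem _
    have hv' : c * v * c⁻¹ ∈ S.W ha.mem := by
      refine ⟨S.conj_mem hc.mem hv.1, ?_⟩
      set q := (c⁻¹ * a * c) * a⁻¹ with hq
      have hqQ : q ∈ S.Q := by
        rw [S.mem_Q_iff (mul_mem (mul_mem (mul_mem (inv_mem hc.mem) ha.mem) hc.mem) (inv_mem ha.mem))]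
        have e : Cc⁻¹ * A * Cc * A⁻¹ = 1 := by rw [mul_assoc Cc⁻¹, hAC]; group
        rw [hCc, hA, ← map_inv, ← map_mul, ← map_mul, ← map_inv, ← map_mul] at e
        exact e
      obtain ⟨η, hη, hqv⟩ : ∃ η, S.Zp η ∧ q * v⁻¹ * q⁻¹ = v⁻¹ * η := by
        rcases S.conj_in_Q hqQ (inv_mem hv.1) with e | e
        · exact ⟨1, .inl rfl, by rw [e, mul_one]⟩
        · exact ⟨S.z, .inr rfl, e⟩
      have e : a * (c * v * c⁻¹) * a⁻¹ * (c * v * c⁻¹)⁻¹ =
          c * ((q * (a * v * a⁻¹) * q⁻¹) * v⁻¹) * c⁻¹ := by rw [hq]; group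
      rw [e, S.W_inverted ha hv, hqv]
      have h2 : S.Zp (v⁻¹ * η * v⁻¹) := by
        rw [mul_assoc, ← Zp.comm S hη (inv_mem (S.Q_le hv.1)), ← mul_assoc, ← mul_inv_rev]
        exact Zp.mul S (Zp.inv S (S.sq_zp hv.1)) hη
      rw [Zp.comm S h2 hc.mem, mul_inv_cancel_right]
      exact h2
    have h := div_mem_of_index_two hFW (by rw [hF4, hW8]) hv hv' hvF fun h => hvF (by
      have e := hFconj (inv_mem hcS) h
      rw [show c⁻¹ * (c * v * c⁻¹) * c⁻¹⁻¹ = v by group] at e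
      rwa [← e] at h)
    have e : c * v * c⁻¹ * v⁻¹ = v * (v⁻¹ * (c * v * c⁻¹)) * v⁻¹ := by group
    rw [e, hFconj (hRS (hWR hv)) h]
    exact h
  let T : ∀ x ∈ Su, Subgroup G := fun x hx =>
    { carrier := {r | r ∈ R ∧ x * r * x⁻¹ * r⁻¹ ∈ F}
      one_mem' := ⟨one_mem _, by simp⟩
      mul_mem' := by
        rintro r s ⟨hr, hr'⟩ ⟨hs, hs'⟩
        refine ⟨mul_mem hr hs, ?_⟩
        have e : x * (r * s) * x⁻¹ * (r * s)⁻¹ =
            (x * r * x⁻¹ * r⁻¹) * (r * (x * s * x⁻¹ * s⁻¹) * r⁻¹) := by group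
        rw [e, hFconj (hRS hr) hs']
        exact mul_mem hr' hs'
      inv_mem' := by
        rintro r ⟨hr, hr'⟩
        refine ⟨inv_mem hr, ?_⟩
        have e : x * r⁻¹ * x⁻¹ * r⁻¹⁻¹ = r⁻¹ * (x * r * x⁻¹ * r⁻¹)⁻¹ * r⁻¹⁻¹ := by group
        rw [e, hFconj (hRS (inv_mem hr)) (inv_mem hr')]
        exact inv_mem hr' }
  have hTc : ∀ r ∈ R, c * r * c⁻¹ * r⁻¹ ∈ F := by
    have hWT : S.W ha.mem ≤ T c hcS := fun v hv => ⟨hWR hv, hcw v hv⟩
    have hyT : y * w * y⁻¹ ∈ T c hcS := by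
      refine ⟨hSR hy (hWR hw), ?_⟩
      have e : c * (y * w * y⁻¹) * c⁻¹ * (y * w * y⁻¹)⁻¹ = y * (a * w * a⁻¹ * w⁻¹) * y⁻¹ := by
        rw [hcdef]; group
      have hz : a * w * a⁻¹ * w⁻¹ ∈ F := hzF hw.2
      rw [e, hFconj hy hz]
      exact hz
    have hlt : S.W ha.mem < T c hcS := lt_of_le_of_ne hWT fun h => hw' (h ▸ hyT)
    have hTR : T c hcS ≤ R := fun r hr => hr.1
    have h16 : Nat.card ↥R ≤ Nat.card ↥(T c hcS) := by
      rw [hR16]
      by_contra hlt'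
      obtain ⟨i, hi, hTi⟩ := (Nat.dvd_prime_pow Nat.prime_two).mp
        (show Nat.card ↥(T c hcS) ∣ 2 ^ 4 by
          rw [show (2 : ℕ) ^ 4 = Nat.card ↥R by rw [hR16]; norm_num]
          exact Subgroup.card_dvd_of_le hTR)
      have h8 : 8 < Nat.card ↥(T c hcS) := by
        rw [← hW8]
        by_contra hle
        exact hlt.ne (Subgroup.eq_of_le_of_card_ge hWT (not_lt.mp hle))
      rw [hTi] at h8 hlt'
      interval_cases i
      all_goals omega
    intro r hr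
    have e := Subgroup.eq_of_le_of_card_ge hTR h16
    have h : r ∈ T c hcS := by rw [e]; exact hr
    exact h.2
  have hTa : ∀ r ∈ R, a * r * a⁻¹ * r⁻¹ ∈ F := by
    intro r hr
    have h := hTc _ (hSR hy hr)
    have e : a * r * a⁻¹ * r⁻¹ = y⁻¹ * (c * (y * r * y⁻¹) * c⁻¹ * (y * r * y⁻¹)⁻¹) * y⁻¹⁻¹ := by
      rw [hcdef]; group
    rw [e, hFconj (inv_mem hy) h]
    exact h
  -- the involution `c` commutes with `a` modulo `F`
  obtain ⟨f, hf, hcf⟩ : ∃ f ∈ F, c * a * c⁻¹ = a * f := by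
    refine ⟨a * c * (a * c), ?_, by rw [hc.inv_eq]; calc c * a * c = (a * a) * c * a * c := by rw [ha.sq, one_mul]
                                                        _ = a * (a * c * (a * c)) := by group⟩
    set r := (a * c)⁻¹ * d with hr
    have hrR : r ∈ R := by
      refine Subgroup.mem_inf.mpr ⟨?_, (mul_mem (inv_mem (mul_mem haS hcS)) hdS).2⟩
      rw [hr, ← S.ψ_eq_iff (mul_mem ha.mem hc.mem) hd.mem, S.ψ_mul ha.mem hc.mem, hDeq]
    have hd2 : a * c * r * (a * c * r) = 1 := by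
      rw [hr, mul_inv_cancel_left, hd.sq]
    -- `r` is central modulo `F`
    obtain ⟨f₁, hf₁, e1⟩ : ∃ f₁ ∈ F, r * (a * c) = a * c * r * f₁ := by
      have h1 := hTc r hrR
      have h2 := hTa r hrR
      refine ⟨(a * c * r)⁻¹ * r * (a * c), ?_, by group⟩
      have e : (a * c * r)⁻¹ * r * (a * c) =
          (r⁻¹ * c⁻¹) * (a⁻¹ * r * a * r⁻¹) * (r⁻¹ * c⁻¹)⁻¹ *
            (r⁻¹ * (c⁻¹ * r * c * r⁻¹) * r⁻¹⁻¹) := by group
      have ea : a⁻¹ * r * a * r⁻¹ = a * r * a⁻¹ * r⁻¹ := by rw [ha.inv_eq]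
      have ec : c⁻¹ * r * c * r⁻¹ = c * r * c⁻¹ * r⁻¹ := by rw [hc.inv_eq]
      rw [e, ea, ec, hFconj (mul_mem (inv_mem (hRS hrR)) (inv_mem hcS)) h2,
        hFconj (inv_mem (hRS hrR)) h1]
      exact mul_mem h2 h1
    have e2 : a * c * (a * c) = (r * f₁ * r)⁻¹ := by
      refine eq_inv_of_mul_eq_one_left ?_
      calc a * c * (a * c) * (r * f₁ * r) = a * c * (a * c * r * f₁) * r := by group
        _ = a * c * (r * (a * c)) * r := by rw [e1]
        _ = a * c * r * (a * c * r) := by group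
        _ = 1 := hd2
    rw [e2]
    have e3 : r * f₁ * r = f₁ * (r * r) := by rw [hFc (hRS hrR) hf₁]; group
    rw [e3]
    exact inv_mem (mul_mem hf₁ (hzF (S.sq_zp hrR.1)))
  -- conclusion
  obtain ⟨l, hl, hlk, f', hf', hlf⟩ : ∃ l, ∃ hl : l ∈ Su,
      S.ψ ⟨l, hl.1⟩ = S.ψ ⟨k, hk⟩ ∧ ∃ f' ∈ F, l * a * l⁻¹ = a * f' := by
    have hK : S.ψ ⟨k, hk⟩ * A = A * S.ψ ⟨k, hk⟩ := by
      rw [hA, ← map_mul, ← map_mul]
      exact congrArg S.ψ (Subtype.ext hka)
    have hCA' : Cc * A = A * Cc := hAC.symm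
    by_cases h1 : S.ψ ⟨k, hk⟩ = 1
    · exact ⟨1, one_mem _, by rw [h1]; exact map_one S.ψ, 1, one_mem _, by simp⟩
    by_cases h2 : S.ψ ⟨k, hk⟩ = A
    · exact ⟨a, haS, h2.symm, 1, one_mem _, by simp⟩
    rcases five_cent_pair A hA2 Cc ⟨hCA', fun e => hc.ψ_inv.2 e, hCA⟩ _ ⟨hK, h1, h2⟩ with e | e
    · exact ⟨c, hcS, inv_mul_eq_one.mp e, f, hf, hcf⟩
    · refine ⟨c * a, mul_mem hcS haS, ?_, f, hf, ?_⟩
      · rw [S.ψ_mul hc.mem ha.mem]
        exact (inv_mul_eq_iff_eq_mul.mp e).symm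
      · rw [← hcf]; group
  set q := k * l⁻¹ with hq
  have hqQ : q ∈ S.Q := by
    rw [S.mem_Q_iff (mul_mem hk (inv_mem hl.1))]
    have e : S.ψ ⟨k, hk⟩ * (S.ψ ⟨l, hl.1⟩)⁻¹ = 1 := by rw [hlk, mul_inv_cancel]
    rw [← map_inv, ← map_mul] at e
    exact e
  have hqa : q⁻¹ * a * q = a * f' := by
    rw [hq, ← hlf]
    calc (k * l⁻¹)⁻¹ * a * (k * l⁻¹) = l * (k⁻¹ * (a * k)) * l⁻¹ := by group
      _ = l * a * l⁻¹ := by rw [← hka, inv_mul_cancel_left]
  let μ : ↥R →* ↥F := MonoidHom.mk'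
    (fun r => ⟨a * r⁻¹ * a⁻¹ * (r : G)⁻¹⁻¹, hTa _ (inv_mem r.2)⟩) (fun r s => Subtype.ext (by
      have hr := hTa _ (inv_mem r.2)
      have hs := hTa _ (inv_mem s.2)
      show a * ((r : G) * s)⁻¹ * a⁻¹ * ((r : G) * s)⁻¹⁻¹ =
        (a * (r : G)⁻¹ * a⁻¹ * (r : G)⁻¹⁻¹) * (a * (s : G)⁻¹ * a⁻¹ * (s : G)⁻¹⁻¹)
      rw [hFc (hRS (hFR hr)) hs,
        show a * ((r : G) * s)⁻¹ * a⁻¹ * ((r : G) * s)⁻¹⁻¹ = (a * (s : G)⁻¹ * a⁻¹ * (s : G)⁻¹⁻¹) *
          ((s : G)⁻¹ * (a * (r : G)⁻¹ * a⁻¹ * (r : G)⁻¹⁻¹) * (s : G)⁻¹⁻¹) by group,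
        hFconj (inv_mem (hRS s.2)) hr]))
  have hμk : Nat.card ↥μ.ker ≤ 4 := by
    rw [← hF4]
    refine Nat.card_le_card_of_injective
      (fun r => ⟨((r : ↥R) : G), Subgroup.mem_inf.mpr ⟨(r : ↥R).2.1, mem_cent.mpr ?_⟩⟩)
      fun r s e => Subtype.ext (Subtype.ext (congrArg Subtype.val e :))
    have h : a * ((r : ↥R) : G)⁻¹ * a⁻¹ * ((r : ↥R) : G)⁻¹⁻¹ = 1 :=
      congrArg Subtype.val (MonoidHom.mem_ker.mp r.2)
    calc ((r : ↥R) : G) * a = (a * ((r : ↥R) : G)⁻¹ * a⁻¹ * ((r : ↥R) : G)⁻¹⁻¹) * ((r : ↥R) : G) * a := by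
          rw [h, one_mul]
      _ = a * ((r : ↥R) : G)⁻¹ * a⁻¹ * (((r : ↥R) : G) * ((r : ↥R) : G)) * a := by group
      _ = a * ((r : ↥R) : G)⁻¹ * (((r : ↥R) : G) * ((r : ↥R) : G)) * a⁻¹ * a := by
          rw [mul_assoc (a * ((r : ↥R) : G)⁻¹) a⁻¹, Zp.comm S (S.sq_zp (r : ↥R).2.1) (inv_mem ha.mem)]; group
      _ = a * ((r : ↥R) : G) := by group
  have hμ : μ.range = ⊤ := by
    refine Subgroup.eq_top_of_card_eq _ (le_antisymm (Subgroup.card_le_card_group _) ?_)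
    have h := μ.ker.card_mul_index
    rw [Subgroup.index_ker, hR16] at h
    rw [hF4]
    by_contra hlt
    push Not at hlt
    have := Nat.mul_le_mul hμk (Nat.le_of_lt_succ hlt : Nat.card ↥μ.range ≤ 3)
    omega
  obtain ⟨r, hr⟩ := MonoidHom.range_eq_top.mp hμ ⟨f', hf'⟩
  have hr' : a * (r : G)⁻¹ * a⁻¹ * (r : G)⁻¹⁻¹ = f' := congrArg Subtype.val hr
  have hra : (r : G)⁻¹ * a * r = a * f' := by
    rw [← hr', ha.inv_eq]
    calc (r : G)⁻¹ * a * r = (a * a) * (r : G)⁻¹ * a * r := by rw [ha.sq, one_mul]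
      _ = a * (a * (r : G)⁻¹ * a * (r : G)⁻¹⁻¹) := by group
  have hqR : q * (r : G)⁻¹ ∈ F := by
    refine Subgroup.mem_inf.mpr ⟨mul_mem hqQ (inv_mem r.2.1), mem_cent.mpr ?_⟩
    calc q * (r : G)⁻¹ * a = q * ((r : G)⁻¹ * a * r) * (r : G)⁻¹ := by group
      _ = q * (q⁻¹ * a * q) * (r : G)⁻¹ := by rw [hra, hqa]
      _ = a * (q * (r : G)⁻¹) := by group
  have hkS : k ∈ Su := by
    have e : k = q * (r : G)⁻¹ * r * l := by rw [hq]; group
    rw [e]
    exact mul_mem (mul_mem (hRS (hFR hqR)) (hRS r.2)) hl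
  exact mem_cent.mp hkS.2

end Setup

end Cfsg.Agent.HallJankoType
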