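import Cfsg.Agent.Lib.HallJankoType.Centralizer
import Cfsg.Agent.Lib.HallJanko.CentralizerJ2
import Cfsg.Agent.Lib.TI.Extraspecial

/-!
The Hall–Janko group satisfies the Hall–Janko type hypotheses.
-/

set_option autoImplicit false
set_option linter.style.haveILetI false

namespace Cfsg.Agent.HallJankoType

open Cfsg.Agent.JankoOrder (Inv inv_iff_orderOf)
open Subgroup

universe u v

local notation "A5" => alternatingGroup (Fin 5)

/-- A setup transported along an isomorphism. -/
theorem Setup.exists_map {G : Type u} [Group G] {H : Type v} [Group H] (S : Setup G) (f : G ≃* H) :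
    ∃ S' : Setup H, S'.z = f S.z := by
  let eC : ↥(Subgroup.centralizer ({f S.z} : Set H)) ≃* ↥(Subgroup.centralizer ({S.z} : Set G)) :=
    (HJ.centralizerCongr f rfl).symm
  have heC : ∀ x, ((eC x : ↥(Subgroup.centralizer ({S.z} : Set G))) : G) = f.symm (x : H) := fun _ => rfl
  have hmem : ∀ x : H, x ∈ S.Q.map f.toMonoidHom ↔ f.symm x ∈ S.Q := fun x =>
    Subgroup.mem_map_equiv
  exact ⟨{ z := f S.z
           hz := by rw [MulEquiv.orderOf_eq]; exact S.hz
           Q := S.Q.map f.toMonoidHom
           ψ := S.ψ.comp eC.toMonoidHom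
           ψ_surj := S.ψ_surj.comp eC.surjective
           ψ_ker := fun x => by rw [hmem, ← heC]; exact S.ψ_ker (eC x)
           Q_le := by
             rintro _ ⟨q, hq, rfl⟩
             rw [Subgroup.mem_centralizer_singleton_iff]
             show f q * f S.z = f S.z * f q
             rw [← map_mul, ← map_mul, Subgroup.mem_centralizer_singleton_iff.mp (S.Q_le hq)]
           extra := TI.isExtraspecial_congr (f.subgroupMap S.Q) S.extra
           card_Q := by rw [card_map_of_injective f.injective]; exact S.card_Q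
           self := fun x hx hxq => by
             rw [hmem]
             refine S.self _ ?_ fun q hq => f.injective ?_
             · rw [Subgroup.mem_centralizer_singleton_iff]
               apply f.injective
               rw [map_mul, map_mul, f.apply_symm_apply]
               exact Subgroup.mem_centralizer_singleton_iff.mp hx
             · rw [map_mul, map_mul, f.apply_symm_apply]
               exact hxq _ ⟨q, hq, rfl⟩
           nwc := by
             obtain ⟨u, hu, hne, hc⟩ := S.nwc
             exact ⟨f u, ⟨u, hu, rfl⟩, fun h => hne (f.injective h), f.toMonoidHom.map_isConj hc⟩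
           two_classes := by
             obtain ⟨x, y, hx, hy, hxy⟩ := S.two_classes
             refine ⟨f x, f y, by rw [MulEquiv.orderOf_eq]; exact hx,
               by rw [MulEquiv.orderOf_eq]; exact hy, fun h => hxy ?_⟩
             have := f.symm.toMonoidHom.map_isConj h
             simpa using this }, rfl⟩

end Cfsg.Agent.HallJankoType

namespace Cfsg.Agent.HJ

open Subgroup

/-- The map of the centraliser of the reflection of line 0 onto the alternating group. -/
noncomputable def psiFive :
    ↥(Subgroup.centralizer ({(⟨sigma 0, sigma_mem 0⟩ : P)} : Set P)) →* alternatingGroup (Fin 5) :=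
  ((MulEquiv.subgroupCongr five_range).toMonoidHom.comp five.rangeRestrict).comp centEquiv.toMonoidHom

theorem psiFive_eq_one (x : ↥(Subgroup.centralizer ({(⟨sigma 0, sigma_mem 0⟩ : P)} : Set P))) :
    psiFive x = 1 ↔ centEquiv x ∈ Q32 := by
  show MulEquiv.subgroupCongr five_range (five.rangeRestrict (centEquiv x)) = 1 ↔ five (centEquiv x) = 1
  rw [EmbeddingLike.map_eq_one_iff, ← Subtype.coe_inj]
  rfl

/-- The centraliser of the extraspecial subgroup in the line stabiliser lies in it. -/
theorem centralizer_Q32 {c : P1} (hc : ∀ q ∈ Q32, c * q = q * c) : c ∈ Q32 := by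
  have h60 : Nat.card ↥(alternatingGroup (Fin 5)) = 60 := by rw [← five_range]; exact card_five_eq.1
  let ρ : P1 →* ↥(alternatingGroup (Fin 5)) :=
    (MulEquiv.subgroupCongr five_range).toMonoidHom.comp five.rangeRestrict
  have hρker : ∀ {g : P1}, ρ g = 1 ↔ g ∈ Q32 := fun {g} => by
    show MulEquiv.subgroupCongr five_range (five.rangeRestrict g) = 1 ↔ five g = 1
    rw [EmbeddingLike.map_eq_one_iff, ← Subtype.coe_inj]
    rfl
  have hρ : Function.Surjective ρ :=
    (MulEquiv.subgroupCongr five_range).surjective.comp five.rangeRestrict_surjective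
  let Cq : Subgroup P1 := Subgroup.centralizer (Q32 : Set P1)
  have hQn : Q32.Normal := inferInstanceAs five.ker.Normal
  have hCn : Cq.Normal := ⟨fun x hx g => by
    rw [Subgroup.mem_centralizer_iff] at hx ⊢
    intro q hq
    have e := hx _ (hQn.conj_mem q hq g⁻¹)
    rw [inv_inv] at e
    calc q * (g * x * g⁻¹) = g * (g⁻¹ * q * g * x) * g⁻¹ := by group
      _ = g * (x * (g⁻¹ * q * g)) * g⁻¹ := by rw [e]
      _ = g * x * g⁻¹ * q := by group⟩
  have hsimple : IsSimpleGroup ↥(alternatingGroup (Fin 5)) :=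
    alternatingGroup.isSimpleGroup (by simp)
  rcases (hCn.map ρ hρ).eq_bot_or_eq_top with h | h
  · refine hρker.mp ?_
    rw [← mem_bot, ← h]
    exact ⟨c, Subgroup.mem_centralizer_iff.mpr fun q hq => (hc q hq).symm, rfl⟩
  exfalso
  obtain ⟨π, ⟨g, rfl⟩, hπ, -⟩ := five_levels 0 1 (Nat.zero_le _)
  obtain ⟨x, hx, hxg⟩ : ρ g ∈ Cq.map ρ := h ▸ mem_top _
  have hq : x⁻¹ * g ∈ Q32 := hρker.mp (by rw [map_mul, map_inv, hxg, inv_mul_cancel])
  -- `x` fixes the lines 1 and 2
  have q2 : qW 2 = [1] := by decide +kernel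
  have s1 : (qel 2 : Equiv.Perm (Fin 315)) = sigma 1 := by
    show wP (toWord (qW 2)) = sigma 1
    rw [q2, show sigma 1 = gperm 1 from sigma_gi 1]
    exact mul_one _
  have hxc : ∀ s : P1, s ∈ Q32 → ∀ i, (s : Equiv.Perm (Fin 315)) = sigma i →
      (x : Equiv.Perm (Fin 315)) i = i := by
    intro s hs i hi
    refine sigma_injective ?_
    have e := congrArg Subtype.val (Subgroup.mem_centralizer_iff.mp hx s hs)
    rw [Subgroup.coe_mul, Subgroup.coe_mul, hi] at e
    rw [← conj_sigma x.2.1 i, ← e, mul_inv_cancel_right]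
  have x1 : (x : Equiv.Perm (Fin 315)) 1 = 1 := hxc _ (qel_mem 2) 1 s1
  have x2 : (x : Equiv.Perm (Fin 315)) 2 = 2 := by
    refine hxc (z0 * qel 2) (mul_mem (qel_mem 1) (qel_mem 2)) 2 ?_
    rw [Subgroup.coe_mul, z0_val, ← sigma_zero, s1, sigma_third]
  have hb0 : bA 0 = 1 := Fin.ext (by decide +kernel)
  have hfix : five (x⁻¹ * g) 0 = 0 := by
    rw [show five (x⁻¹ * g) = 1 from hq]; rfl
  have hx0 : five x 0 = 0 := by
    show blk ((x : Equiv.Perm (Fin 315)) (bA 0)) = 0
    rw [hb0, x1, ← hb0]
    exact (bA_spec 0).2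
  have hg0 : five g 0 = 0 := by
    have e : five g = five x * five (x⁻¹ * g) := by rw [← map_mul, mul_inv_cancel_left]
    rw [e, Equiv.Perm.mul_apply, hfix, hx0]
  have h10 : (1 : Fin 5) = 0 := hπ.symm.trans hg0
  exact absurd h10 (by decide)

/-- A word of an involution fixing more lines than a reflection. -/
def outerWord : List ℕ :=
  [3, 2, 1, 3, 2, 1, 0, 3, 2, 1, 3, 2, 1, 0, 3, 2, 1, 3, 2, 1, 0, 3, 2, 1, 3, 2, 1, 0, 3, 2, 1, 3, 2, 1, 0]

theorem outer_check : outerWord.all (fun k => decide (k < 4)) = true ∧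
    (List.range 315).all (fun x => decide (awN outerWord (awN outerWord x) = x)) = true ∧
    ((List.range 315).filter fun x => decide (awN outerWord x = x)).length = 15 ∧
    ((List.range 315).filter fun x => decide (gtN 0 x = x)).length = 11 := by decide +kernel

end Cfsg.Agent.HJ

set_option maxRecDepth 20000

namespace Cfsg.Agent.HallJankoType

open Cfsg.Agent.HJ Subgroup

theorem filter_card {n : ℕ} (g : Equiv.Perm (Fin n)) (f : ℕ → ℕ) (h : ∀ x : Fin n, (g x : ℕ) = f x) :
    Nat.card {x : Fin n // g x = x} = ((List.range n).filter fun x => decide (f x = x)).length := by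
  rw [← List.toFinset_card_of_nodup (List.nodup_range.filter _), ← Nat.card_eq_finsetCard]
  refine Nat.card_congr
    ⟨fun x => ⟨(x.1 : ℕ), by simp [← h, x.2]⟩,
      fun k => ⟨⟨k.1, by have := k.2; simp at this; exact this.1⟩, ?_⟩,
      fun x => rfl, fun k => rfl⟩
  have := k.2
  simp at this
  refine Fin.ext ?_
  rw [h]
  exact this.2

theorem P1_le : P1 ≤ P := inf_le_left

theorem mem_Q32_map (g : P) : g ∈ Q32.map (Subgroup.inclusion P1_le) ↔
    ∃ hg : (g : Equiv.Perm (Fin 315)) ∈ P1, (⟨g, hg⟩ : P1) ∈ Q32 := by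
  constructor
  · rintro ⟨q, hq, rfl⟩
    exact ⟨q.2, hq⟩
  · rintro ⟨hg, hq⟩
    exact ⟨⟨g, hg⟩, hq, rfl⟩

/-- The Hall–Janko group has the Hall–Janko type. -/
theorem exists_setup_J2 : Nonempty (Setup Cfsg.Spor.J2) := by
  have hz2 : (⟨HJ.sigma 0, sigma_mem 0⟩ : P) * ⟨HJ.sigma 0, sigma_mem 0⟩ = 1 := Subtype.ext (sigma_sq 0)
  have hz1 : (⟨HJ.sigma 0, sigma_mem 0⟩ : P) ≠ 1 := fun h => z0_ne_one (Subtype.ext (by
    rw [z0_val, ← sigma_zero]; exact congrArg Subtype.val h))
  haveI : Fact (Nat.Prime 2) := ⟨Nat.prime_two⟩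
  have hzord : orderOf (⟨HJ.sigma 0, sigma_mem 0⟩ : P) = 2 :=
    orderOf_eq_prime (by rw [pow_two]; exact hz2) hz1
  let S : Setup P :=
    { z := (⟨HJ.sigma 0, sigma_mem 0⟩ : P)
      hz := hzord
      Q := Q32.map (Subgroup.inclusion P1_le)
      ψ := psiFive
      ψ_surj := ((MulEquiv.subgroupCongr five_range).surjective.comp
        five.rangeRestrict_surjective).comp centEquiv.surjective
      ψ_ker := fun x => by
        rw [psiFive_eq_one, mem_Q32_map]
        exact ⟨fun h => ⟨_, h⟩, fun ⟨_, h⟩ => h⟩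
      Q_le := by
        rintro _ ⟨q, -, rfl⟩
        exact (HJ.mem_centralizer_iff _).mpr q.2
      extra := TI.isExtraspecial_congr
        (Q32.equivMapOfInjective _ (Subgroup.inclusion_injective _)) Q32_extraspecial
      card_Q := by
        rw [card_map_of_injective (Subgroup.inclusion_injective _)]
        exact card_five_eq.2
      self := fun x hx hxq => by
        rw [mem_Q32_map]
        refine ⟨(HJ.mem_centralizer_iff x).mp hx, centralizer_Q32 fun q hq => Subtype.ext ?_⟩
        exact (congrArg Subtype.val (hxq (Subgroup.inclusion P1_le q) ⟨q, hq, rfl⟩) :)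
      nwc := by
        have q2 : qW 2 = [1] := by decide +kernel
        have s1 : (qel 2 : Equiv.Perm (Fin 315)) = HJ.sigma 1 := by
          show wP (toWord (qW 2)) = HJ.sigma 1
          rw [q2, show HJ.sigma 1 = gperm 1 from sigma_gi 1]
          exact mul_one _
        refine ⟨⟨HJ.sigma 1, sigma_mem 1⟩, ⟨qel 2, qel_mem 2, Subtype.ext s1⟩, fun h => ?_, ?_⟩
        · exact absurd (sigma_injective (congrArg Subtype.val h)) (by decide)
        · obtain ⟨g, hg, hg1⟩ := HJ.transitive 0 1
          refine isConj_iff.mpr ⟨⟨g, hg⟩, Subtype.ext ?_⟩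
          show g * HJ.sigma 0 * g⁻¹ = HJ.sigma 1
          rw [conj_sigma hg, hg1]
      two_classes := by
        obtain ⟨h4, hsq, h15, h11⟩ := outer_check
        simp only [List.all_eq_true, decide_eq_true_eq, List.mem_range] at h4 hsq
        let y : P := ⟨wP (toWord outerWord), wP_mem _⟩
        have hy : ∀ x : Fin 315, (y.1 x : ℕ) = awN outerWord x := wP_toWord _ h4
        have hy2 : y * y = 1 := Subtype.ext (Equiv.ext fun x => Fin.ext (by
          show (y.1 (y.1 x) : ℕ) = x
          rw [hy, hy]; exact hsq x x.2))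
        have c15 : Nat.card {x : Fin 315 // y.1 x = x} = 15 := (filter_card _ _ hy).trans h15
        have hy1 : y ≠ 1 := fun h => by
          have e : Nat.card {x : Fin 315 // y.1 x = x} = Nat.card (Fin 315) :=
            Nat.card_congr (Equiv.subtypeUnivEquiv fun x => by rw [h]; rfl)
          rw [Nat.card_fin] at e
          omega
        refine ⟨⟨HJ.sigma 0, sigma_mem 0⟩, y, hzord,
          orderOf_eq_prime (by rw [pow_two]; exact hy2) hy1, fun h => ?_⟩
        obtain ⟨g, hg⟩ := isConj_iff.mp h
        have c11 : Nat.card {x : Fin 315 // HJ.sigma 0 x = x} = 11 :=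
          (filter_card _ _ fun x => by rw [sigma_zero]; exact gperm_apply 0 x).trans h11
        have e : Nat.card {x : Fin 315 // HJ.sigma 0 x = x} = Nat.card {x : Fin 315 // y.1 x = x} := by
          refine Nat.card_congr (Equiv.subtypeEquiv g.1 fun x => ?_)
          rw [← hg]
          show HJ.sigma 0 x = x ↔ g.1 (HJ.sigma 0 (g.1⁻¹ (g.1 x))) = g.1 x
          rw [HJ.perm_inv_self, EmbeddingLike.apply_eq_iff_eq]
        omega }
  obtain ⟨S', -⟩ := S.exists_map isoP.symm
  exact ⟨S'⟩

end Cfsg.Agent.HallJankoType
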