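import Cfsg.Agent.Lib.HallJankoType.Centralizer
import Cfsg.Agent.Lib.HJType.Setting
import Cfsg.Agent.Lib.ZStar.Main
import Cfsg.Agent.Lib.TI.Extraspecial
import Cfsg.Agent.Lib.PCore.Extras

/-!
From the hypotheses of the simple-group form (no elementary subgroup of order 8 in `Q`) to a `Setup`:
`z` is not weakly closed in `Q`.
-/

set_option autoImplicit false
set_option linter.style.haveILetI false
set_option linter.unusedSectionVars false

namespace Cfsg.Agent.HallJankoType

open Cfsg.Agent.JankoOrder (Inv inv_iff_orderOf)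
open Subgroup

universe u

local notation "A5" => alternatingGroup (Fin 5)

/-- The hypotheses on `C(t)` without fusion conditions. -/
structure Shape {G : Type u} [Group G] (t : G) (Q : Subgroup G)
    (ψ : ↥(Subgroup.centralizer ({t} : Set G)) →* A5) : Prop where
  tt : t * t = 1
  t_ne : t ≠ 1
  surj : Function.Surjective ψ
  ker : ∀ x, ψ x = 1 ↔ (x : G) ∈ Q
  le : Q ≤ Subgroup.centralizer ({t} : Set G)
  extra : Cfsg.IsExtraspecial 2 ↥Q
  card : Nat.card ↥Q = 32
  self : ∀ x ∈ Subgroup.centralizer ({t} : Set G), (∀ q ∈ Q, x * q = q * x) → x ∈ Q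
  minus : ∀ E : Subgroup ↥Q, Cfsg.IsElementaryAbelian 2 E → Nat.card E ≤ 4

namespace Shape

variable {G : Type u} [Group G] {t : G} {Q : Subgroup G}
  {ψ : ↥(Subgroup.centralizer ({t} : Set G)) →* A5} (h : Shape t Q ψ)

include h

theorem t_mem : t ∈ Q :=
  h.self _ (mem_cent.mpr rfl) fun _ hq => (mem_cent.mp (h.le hq)).symm

theorem t_center {q : ↥Q} (hq : (q : G) = t) : q ∈ center ↥Q :=
  mem_center_iff.mpr fun g => Subtype.ext (by
    show (g : G) * q = q * g
    rw [hq]; exact mem_cent.mp (h.le g.2))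

theorem mem_center_iff' {q : ↥Q} : q ∈ center ↥Q ↔ (q : G) = 1 ∨ (q : G) = t := by
  refine ⟨fun hq => ?_, fun hq => ?_⟩
  · obtain ⟨u, v, -, hall⟩ := Nat.card_eq_two_iff.mp h.extra.2
    have a : ∀ x : ↥(center ↥Q), x = u ∨ x = v := fun x => by
      simpa using (hall ▸ Set.mem_univ x : x ∈ ({u, v} : Set ↥(center ↥Q)))
    by_contra hcon
    push Not at hcon
    rcases a ⟨q, hq⟩ with a1 | a1 <;> rcases a ⟨⟨t, h.t_mem⟩, h.t_center rfl⟩ with a2 | a2 <;>
      rcases a 1 with a3 | a3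
    all_goals first
      | exact hcon.2 (congrArg (fun x : ↥(center ↥Q) => ((x : ↥Q) : G)) (a1.trans a2.symm))
      | exact hcon.1 (congrArg (fun x : ↥(center ↥Q) => ((x : ↥Q) : G)) (a1.trans a3.symm))
      | exact h.t_ne (congrArg (fun x : ↥(center ↥Q) => ((x : ↥Q) : G)) (a2.trans a3.symm))
  · rcases hq with e | e
    · rw [show q = 1 from Subtype.ext e]; exact one_mem _
    · exact h.t_center e

theorem conj_mem {c q : G} (hc : c * t = t * c) (hq : q ∈ Q) : c * q * c⁻¹ ∈ Q := by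
  have e : ψ (⟨c, mem_cent.mpr hc⟩ * ⟨q, h.le hq⟩ * ⟨c, mem_cent.mpr hc⟩⁻¹) = 1 := by
    rw [map_mul, map_mul, (h.ker ⟨q, h.le hq⟩).mpr hq, mul_one, map_inv, mul_inv_cancel]
  exact (h.ker _).mp e

variable [Finite G]

/-- An element of order five of `C(t)` centralises only `{1, t}` in `Q`. -/
theorem five_fix {d : G} (hd : d * t = t * d) (h5 : orderOf d = 5) {q : G} (hq : q ∈ Q)
    (hdq : d * q = q * d) : q = 1 ∨ q = t := by
  haveI : Fact (Nat.Prime 5) := ⟨by decide⟩
  haveI : Fact (Nat.Prime 2) := ⟨Nat.prime_two⟩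
  by_contra hcon
  push Not at hcon
  set D : Subgroup G := Q ⊓ centralizer ({d} : Set G) with hD
  have hmod : Nat.card D ≡ 32 [MOD 5] := by
    have e := HJType.Data.conj_fixed_modEq (p := 5) 1 (Q : Set G) (fun x hx => h.conj_mem hd hx)
      (by rw [pow_one, ← h5]; exact pow_orderOf_eq_one d)
    have hset : ({x : G | x ∈ (Q : Set G) ∧ Commute d x} : Set G) = (D : Set G) := by
      ext x
      exact and_congr Iff.rfl (mem_cent.trans ⟨fun e => e.symm, fun e => e.symm⟩).symm
    rw [hset, SetLike.coe_sort_coe, SetLike.coe_sort_coe, h.card] at e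
    exact e.symm
  have h3 : 3 ≤ Nat.card D := by
    have hs : ({1, t, q} : Set G) ⊆ (D : Set G) := by
      rintro x (rfl | rfl | rfl)
      · exact one_mem D
      · exact ⟨h.t_mem, mem_cent.mpr hd.symm⟩
      · exact ⟨hq, mem_cent.mpr hdq.symm⟩
    have := Nat.card_mono (Set.toFinite _) hs
    rw [Nat.card_coe_set_eq, Set.ncard_insert_of_notMem (by simp [h.t_ne.symm, hcon.1.symm]),
      Set.ncard_pair hcon.2.symm] at this
    simpa using this
  obtain ⟨k, hk, hk'⟩ := (Nat.dvd_prime_pow (m := 5) Nat.prime_two).mp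
    (show Nat.card D ∣ 2 ^ 5 from (card_dvd_of_le (inf_le_left : D ≤ Q)).trans (dvd_of_eq h.card))
  have h32 : Nat.card D = 32 := by
    rw [hk'] at hmod h3 ⊢
    revert hmod h3
    interval_cases k <;> decide
  have hDQ : D = Q := eq_of_le_of_card_ge inf_le_left (by rw [h32, h.card])
  have hdQ := h.self d (mem_cent.mpr hd) fun x hx => (mem_cent.mp (hDQ.symm ▸ hx : x ∈ D).2).symm
  have := Subgroup.orderOf_dvd_natCard Q hdQ
  rw [h5, h.card] at this
  norm_num at this

/-- `Q` contains a noncentral involution commuting with an outside involution, and the outside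
involutions over the image of the latter are conjugate to it. -/
theorem outside_data {a : G} (hat : a * t = t * a) (ha2 : a * a = 1) (haQ : a ∉ Q) :
    (∃ q ∈ Q, q * q = 1 ∧ q ≠ 1 ∧ q ≠ t ∧ a * q = q * a) ∧
      ∀ q ∈ Q, a * q * (a * q) = 1 → IsConj a (a * q) := by
  classical
  haveI : Fact (Nat.Prime 2) := ⟨Nat.prime_two⟩
  have hai : a⁻¹ = a := inv_eq_of_mul_eq_one_right ha2
  let α : ↥Q → ↥Q := fun q => ⟨a * q * a⁻¹, h.conj_mem hat q.2⟩
  let c : ↥Q → ↥Q := fun q => α q * q⁻¹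
  have hcval : ∀ q : ↥Q, (c q : G) = a * ((q : G) * a * (q : G)⁻¹) := fun q => by
    show a * (q : G) * a⁻¹ * (q : G)⁻¹ = _
    rw [hai]; group
  have hinvert : ∀ q : ↥Q, a * (c q : G) * a⁻¹ = ((c q : G))⁻¹ := fun q => by
    rw [hcval, hai, show a * (a * ((q : G) * a * (q : G)⁻¹)) * a =
      (a * a) * ((q : G) * a * (q : G)⁻¹) * a by group, ha2, one_mul]
    rw [mul_inv_rev, mul_inv_rev, mul_inv_rev, inv_inv, hai]; group
  -- the induced homomorphism into `Q / Z(Q)`
  have hab : ∀ x y : ↥Q ⧸ center ↥Q, x * y = y * x := by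
    intro x y
    induction x using QuotientGroup.induction_on with
    | H x =>
      induction y using QuotientGroup.induction_on with
      | H y =>
        rw [← QuotientGroup.mk_mul, ← QuotientGroup.mk_mul, QuotientGroup.eq,
          show (x * y)⁻¹ * (y * x) = y⁻¹ * x⁻¹ * y⁻¹⁻¹ * x⁻¹⁻¹ by group]
        rw [← h.extra.1.2.2, commutator_def]
        have := commutator_mem_commutator (mem_top (y⁻¹ : ↥Q)) (mem_top (x⁻¹ : ↥Q))
        rwa [commutatorElement_def] at this
  have hcmul : ∀ x y : ↥Q, c (x * y) = c x * (x * c y * x⁻¹) := fun x y => Subtype.ext (by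
    show a * ((x : G) * y) * a⁻¹ * ((x : G) * y)⁻¹ =
      a * (x : G) * a⁻¹ * (x : G)⁻¹ * ((x : G) * (a * y * a⁻¹ * (y : G)⁻¹) * (x : G)⁻¹)
    group)
  let φ : ↥Q →* ↥Q ⧸ center ↥Q :=
    MonoidHom.mk' (fun q => QuotientGroup.mk (c q)) fun x y => by
      have key : ∀ u v w : ↥Q, QuotientGroup.mk' (center ↥Q) (u * (v * w * v⁻¹)) =
          QuotientGroup.mk' (center ↥Q) u * QuotientGroup.mk' (center ↥Q) w := fun u v w => by
        rw [map_mul, map_mul, map_mul, map_inv,
          hab (QuotientGroup.mk' (center ↥Q) v) (QuotientGroup.mk' (center ↥Q) w), mul_inv_cancel_right]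
      rw [hcmul]
      exact key (c x) x (c y)
  have hker : ∀ {q : ↥Q}, q ∈ φ.ker ↔ ((c q : G) = 1 ∨ (c q : G) = t) := fun {q} => by
    rw [MonoidHom.mem_ker, ← h.mem_center_iff']
    exact QuotientGroup.eq_one_iff _
  let Y : Subgroup ↥Q := φ.range.comap (QuotientGroup.mk' (center ↥Q))
  have hY : ∀ {y : ↥Q}, y ∈ Y ↔ ∃ q, ∃ ζ : ↥Q, ζ ∈ center ↥Q ∧ y = c q * ζ := fun {y} => by
    constructor
    · rintro ⟨q, hq⟩
      exact ⟨q, (c q)⁻¹ * y, QuotientGroup.eq.mp hq, by group⟩
    · rintro ⟨q, ζ, hζ, rfl⟩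
      exact ⟨q, QuotientGroup.eq.mpr (by rw [inv_mul_cancel_left]; exact hζ)⟩
  have hprod : Nat.card φ.ker * Nat.card φ.range = 32 := by
    rw [← h.card, ← φ.ker.card_mul_index, Subgroup.index_ker]
  have hYcard : Nat.card Y = 2 * Nat.card φ.range := by
    have e1 : Y.index = φ.range.index :=
      index_comap_of_surjective _ (QuotientGroup.mk'_surjective _)
    have e2 : Nat.card (↥Q ⧸ center ↥Q) * 2 = 32 := by
      rw [← h.card, Subgroup.card_eq_card_quotient_mul_card_subgroup (center ↥Q), h.extra.2]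
    have e3 := φ.range.index_mul_card
    have e4 := Y.index_mul_card
    rw [e1, h.card] at e4
    have hpos : 0 < φ.range.index := Nat.pos_of_ne_zero Subgroup.index_ne_zero_of_finite
    apply Nat.eq_of_mul_eq_mul_left hpos
    rw [e4, ← e2, ← e3]; ring
  -- the kernel has order at most eight
  have hker8 : Nat.card φ.ker ≤ 8 := by
    by_contra hbig
    push Not at hbig
    set A := ψ ⟨a, mem_cent.mpr hat⟩ with hA
    have hA2 : A * A = 1 ∧ A ≠ 1 := by
      refine ⟨?_, fun e => haQ ((h.ker _).mp e)⟩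
      rw [hA, ← map_mul]
      convert map_one ψ using 2
      exact Subtype.ext ha2
    obtain ⟨y, hy5, hy1⟩ := five_inv_product A hA2
    obtain ⟨⟨k, hk⟩, rfl⟩ := h.surj y
    have hkt : k * t = t * k := mem_cent.mp hk
    set b := k * a * k⁻¹ with hb
    have hbmem : b ∈ Subgroup.centralizer ({t} : Set G) :=
      mul_mem (mul_mem hk (mem_cent.mpr hat)) (inv_mem hk)
    have hpm : a * b ∈ Subgroup.centralizer ({t} : Set G) := mul_mem (mem_cent.mpr hat) hbmem
    have hp5 : orderOf (ψ ⟨a * b, hpm⟩) = 5 := by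
      haveI : Fact (Nat.Prime 5) := ⟨by decide⟩
      have e : ψ ⟨a * b, hpm⟩ = A * (ψ ⟨k, hk⟩ * A * (ψ ⟨k, hk⟩)⁻¹) := by
        rw [hA, ← map_inv, ← map_mul, ← map_mul, ← map_mul]; rfl
      rw [e]; exact orderOf_eq_prime hy5 hy1
    have hdvd : 5 ∣ orderOf (a * b) := by
      rw [← hp5, ← Subgroup.orderOf_mk (a * b) hpm]
      exact orderOf_map_dvd ψ _
    obtain ⟨n, hn⟩ := hdvd
    have hn0 : n ≠ 0 := fun e => (orderOf_pos (a * b)).ne' (by rw [hn, e, mul_zero])
    set d := (a * b) ^ n with hd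
    have hd5 : orderOf d = 5 := by
      rw [hd, orderOf_pow_of_dvd hn0 ⟨5, by rw [hn, mul_comm]⟩, hn,
        Nat.mul_div_cancel _ (Nat.pos_of_ne_zero hn0)]
    have hdt : d * t = t * d := (Commute.pow_left (mem_cent.mp hpm) n).eq
    -- the subgroups fixed modulo the centre by `a` and by `b`
    let W : Subgroup G := φ.ker.map Q.subtype
    let W' : Subgroup G := W.map (MulAut.conj k).toMonoidHom
    have hWQ : W ≤ Q := map_subtype_le _
    have hW'Q : W' ≤ Q := by
      rintro _ ⟨x, hx, rfl⟩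
      exact h.conj_mem hkt (hWQ hx)
    have hWc : Nat.card W = Nat.card φ.ker := card_map_of_injective Q.subtype_injective
    have hW'c : Nat.card W' = Nat.card φ.ker := by
      rw [← hWc]; exact card_map_of_injective (MulAut.conj k).injective
    have hrel : ∀ V : Subgroup G, V ≤ Q → 9 ≤ Nat.card V → V.relIndex Q ≤ 2 := by
      intro V hV h9
      have e := (V.subgroupOf Q).index_mul_card
      rw [Nat.card_congr (subgroupOfEquivOfLe hV).toEquiv, h.card] at e
      by_contra h3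
      push Not at h3
      have : 3 * Nat.card V ≤ 32 := e ▸ Nat.mul_le_mul_right _ h3
      have hVd : Nat.card V ∣ 2 ^ 5 := (card_dvd_of_le hV).trans (dvd_of_eq h.card)
      obtain ⟨i, hi, hi'⟩ := (Nat.dvd_prime_pow Nat.prime_two).mp hVd
      rw [hi'] at this h9
      interval_cases i <;> omega
    have hI : 8 ≤ Nat.card (W ⊓ W' : Subgroup G) := by
      have h4 : (W ⊓ W').relIndex Q ≤ 4 :=
        relIndex_inf_le.trans (Nat.mul_le_mul (hrel W hWQ (by omega)) (hrel W' hW'Q (by omega)))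
      have e := ((W ⊓ W').subgroupOf Q).index_mul_card
      rw [Nat.card_congr (subgroupOfEquivOfLe (inf_le_left.trans hWQ)).toEquiv, h.card] at e
      have : 32 ≤ 4 * Nat.card (W ⊓ W' : Subgroup G) := e ▸ Nat.mul_le_mul_right _ h4
      omega
    obtain ⟨q, hq, hq1, hqt⟩ : ∃ q ∈ W ⊓ W', q ≠ 1 ∧ q ≠ t := by
      by_contra hcon
      push Not at hcon
      have hs : ((W ⊓ W' : Subgroup G) : Set G) ⊆ ({1, t} : Set G) := fun x hx => by
        by_cases h1 : x = 1
        · exact Or.inl h1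
        · exact Or.inr (hcon x hx h1)
      have := Nat.card_mono (Set.toFinite _) hs
      rw [SetLike.coe_sort_coe, Nat.card_coe_set_eq ({1, t} : Set G),
        Set.ncard_pair h.t_ne.symm] at this
      omega
    obtain ⟨⟨q0, hq0, e0⟩, _, ⟨q1, hq1m, rfl⟩, e1⟩ := hq
    have hqQ : q ∈ Q := e0 ▸ q0.2
    have moves : ∀ s ∈ φ.ker, a * (s : G) * a⁻¹ = s ∨ a * (s : G) * a⁻¹ = t * s := fun s hs => by
      rcases hker.mp hs with e | e
      · exact Or.inl (mul_inv_eq_one.mp e)
      · exact Or.inr (mul_inv_eq_iff_eq_mul.mp e)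
    have tc : ∀ x : G, x * t = t * x → ∀ ζ : G, ζ = 1 ∨ ζ = t → x * ζ * x⁻¹ = ζ := by
      rintro x hx ζ (rfl | rfl)
      · group
      · rw [hx, mul_inv_cancel_right]
    obtain ⟨ζ, hζ, haq⟩ : ∃ ζ : G, (ζ = 1 ∨ ζ = t) ∧ a * q * a⁻¹ = ζ * q := by
      rcases moves q0 hq0 with e | e
      · exact ⟨1, Or.inl rfl, by rw [← e0, one_mul]; exact e⟩
      · exact ⟨t, Or.inr rfl, by rw [← e0]; exact e⟩
    obtain ⟨ζ', hζ', hbq⟩ : ∃ ζ : G, (ζ = 1 ∨ ζ = t) ∧ b * q * b⁻¹ = ζ * q := by
      have eq : q = k * (q1 : G) * k⁻¹ := e1.symm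
      rcases moves q1 hq1m with e | e
      · refine ⟨1, Or.inl rfl, ?_⟩
        rw [eq, one_mul, hb]
        calc k * a * k⁻¹ * (k * q1 * k⁻¹) * (k * a * k⁻¹)⁻¹
            = k * (a * (q1 : G) * a⁻¹) * k⁻¹ := by group
          _ = k * q1 * k⁻¹ := by rw [e]
      · refine ⟨t, Or.inr rfl, ?_⟩
        rw [eq, hb]
        calc k * a * k⁻¹ * (k * q1 * k⁻¹) * (k * a * k⁻¹)⁻¹
            = k * (a * (q1 : G) * a⁻¹) * k⁻¹ := by group
          _ = (k * t * k⁻¹) * (k * q1 * k⁻¹) := by rw [e]; group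
          _ = t * (k * q1 * k⁻¹) := by rw [tc k hkt t (Or.inr rfl)]
    have zmul : ∀ x y : G, (x = 1 ∨ x = t) → (y = 1 ∨ y = t) → (x * y = 1 ∨ x * y = t) := by
      rintro x y (hx | hx) (hy | hy) <;> rw [hx, hy]
      · exact Or.inl (one_mul 1)
      · exact Or.inr (one_mul t)
      · exact Or.inr (mul_one t)
      · exact Or.inl h.tt
    have step : ∀ m : ℕ, ∃ η : G, (η = 1 ∨ η = t) ∧ (a * b) ^ m * q * ((a * b) ^ m)⁻¹ = η * q := by
      intro m
      induction m with
      | zero => exact ⟨1, Or.inl rfl, by simp⟩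
      | succ m ih =>
        obtain ⟨η, hη, e⟩ := ih
        refine ⟨η * (ζ' * ζ), zmul _ _ hη (zmul _ _ hζ' hζ), ?_⟩
        have hat' := tc a hat
        have hbt' := tc b (mem_cent.mp hbmem)
        calc (a * b) ^ (m + 1) * q * ((a * b) ^ (m + 1))⁻¹
            = a * b * ((a * b) ^ m * q * ((a * b) ^ m)⁻¹) * (a * b)⁻¹ := by
              rw [pow_succ', mul_inv_rev ((a * b))]; simp only [mul_assoc]
          _ = a * ((b * η * b⁻¹) * (b * q * b⁻¹)) * a⁻¹ := by rw [e]; group
          _ = (a * η * a⁻¹) * (a * ζ' * a⁻¹) * (a * q * a⁻¹) := by rw [hbt' η hη, hbq]; group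
          _ = η * (ζ' * ζ) * q := by rw [hat' η hη, hat' ζ' hζ', haq]; group
    obtain ⟨η, hη, e⟩ := step n
    have hη1 : η = 1 := by
      have step' : ∀ m : ℕ, d ^ m * q * (d ^ m)⁻¹ = η ^ m * q := by
        intro m
        induction m with
        | zero => simp
        | succ m ih =>
          calc d ^ (m + 1) * q * (d ^ (m + 1))⁻¹ = d * (d ^ m * q * (d ^ m)⁻¹) * d⁻¹ := by
                rw [pow_succ']; group
            _ = (d * η ^ m * d⁻¹) * (d * q * d⁻¹) := by rw [ih]; group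
            _ = η ^ m * (η * q) := by
                have : d * η ^ m * d⁻¹ = η ^ m := by
                  have hc : Commute d η := mul_inv_eq_iff_eq_mul.mp (tc d hdt η hη)
                  rw [(hc.pow_right m).eq, mul_inv_cancel_right]
                rw [this, hd, e]
            _ = η ^ (m + 1) * q := by rw [pow_succ]; group
      have h5' := step' 5
      rw [← hd5, pow_orderOf_eq_one, one_mul, inv_one, mul_one, hd5] at h5'
      have e5 : η ^ 5 = 1 := right_eq_mul.mp h5'
      rcases hη with e' | e'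
      · exact e'
      · exfalso
        refine h.t_ne ?_
        rw [e', pow_succ, pow_succ, pow_succ, pow_two, h.tt, one_mul, h.tt, one_mul] at e5
        exact e5
    have hcomm : d * q = q * d := by
      rw [hη1, one_mul] at e
      exact mul_inv_eq_iff_eq_mul.mp e
    rcases h.five_fix hdt hd5 hqQ hcomm with e' | e'
    exacts [hq1 e', hqt e']
  -- hence the kernel is `Y`
  have hYle : Y ≤ φ.ker := by
    intro y hy
    obtain ⟨q, ζ, hζ, rfl⟩ := hY.mp hy
    refine mul_mem (hker.mpr ?_) (hker.mpr ?_)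
    · have e : (c (c q) : G) = ((c q * c q)⁻¹ : ↥Q) := by
        show a * (c q : G) * a⁻¹ * (c q : G)⁻¹ = ((c q : G) * c q)⁻¹
        rw [hinvert, mul_inv_rev]
      rw [e]
      refine h.mem_center_iff'.mp (inv_mem ?_)
      rw [← h.extra.1.2.1, ← pow_two]
      exact PGroup.pow_mem_frattini (IsPGroup.of_card (n := 5) (by rw [h.card]; norm_num)) _
    · left
      show a * (ζ : G) * a⁻¹ * (ζ : G)⁻¹ = 1
      rcases h.mem_center_iff'.mp hζ with e | e <;> rw [e]
      · group
      · rw [hat, mul_inv_cancel_right, mul_inv_cancel]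
  have hY8 : Nat.card Y = 8 ∧ Nat.card φ.ker = 8 := by
    have h1 : Nat.card Y ≤ Nat.card φ.ker := Subgroup.card_le_of_le hYle
    have hdv : Nat.card φ.ker ∣ 32 := ⟨_, hprod.symm⟩
    obtain ⟨i, hi, hi'⟩ := (Nat.dvd_prime_pow Nat.prime_two).mp (show Nat.card φ.ker ∣ 2 ^ 5 from hdv)
    rw [hi'] at hprod hker8 h1 ⊢
    rw [hYcard] at h1 ⊢
    interval_cases i <;> omega
  have hYeq : Y = φ.ker := eq_of_le_of_card_ge hYle (by rw [hY8.1, hY8.2])
  have hYinv : ∀ y ∈ Y, a * (y : G) * a⁻¹ = (y : G)⁻¹ := by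
    intro y hy
    obtain ⟨q, ζ, hζ, rfl⟩ := hY.mp hy
    have hζc : (c q : G) * (ζ : G) = ζ * (c q : G) :=
      congrArg Subtype.val (mem_center_iff.mp hζ (c q))
    have hζ' : a * (ζ : G) * a⁻¹ = (ζ : G)⁻¹ := by
      rcases h.mem_center_iff'.mp hζ with e | e <;> rw [e]
      · group
      · rw [hat, mul_inv_cancel_right, inv_eq_of_mul_eq_one_right h.tt]
    show a * ((c q : G) * ζ) * a⁻¹ = ((c q : G) * ζ)⁻¹
    calc a * ((c q : G) * ζ) * a⁻¹ = (a * (c q : G) * a⁻¹) * (a * (ζ : G) * a⁻¹) := by group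
      _ = (c q : G)⁻¹ * (ζ : G)⁻¹ := by rw [hinvert, hζ']
      _ = ((c q : G) * ζ)⁻¹ := by rw [hζc, mul_inv_rev]
  have hsq : ∀ y : ↥Q, (y : G) * y = 1 ∨ (y : G) * y = t := fun y => by
    refine (h.mem_center_iff' (q := y * y)).mp ?_
    rw [← h.extra.1.2.1, ← pow_two]
    exact PGroup.pow_mem_frattini (IsPGroup.of_card (n := 5) (by rw [h.card]; norm_num)) _
  have hsq1 : ∀ y ∈ Y, a * (y : G) = y * a → (y : G) * y = 1 := fun y hy e => by
    have := hYinv y hy
    rw [e, mul_inv_cancel_right] at this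
    calc (y : G) * y = (y : G)⁻¹ * y := by rw [← this]
      _ = 1 := inv_mul_cancel _
  -- `a` does not centralise `Y`
  have hmoved : ∃ r : ↥Q, (c r : G) = t := by
    by_contra hcon
    push Not at hcon
    have hall : ∀ y ∈ Y, a * (y : G) = y * a := fun y hy => by
      have h1 := (hker.mp (hYeq ▸ hy : y ∈ φ.ker)).resolve_right (hcon y)
      exact mul_inv_eq_iff_eq_mul.mp (mul_inv_eq_one.mp h1)
    have hel : Cfsg.IsElementaryAbelian 2 Y := by
      refine PGroup.isElementaryAbelian_of_forall (fun y hy w hw => Subtype.ext ?_) fun y hy =>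
        Subtype.ext (by rw [pow_two]; exact hsq1 y hy (hall y hy))
      show (y : G) * w = w * y
      have e1 := hsq1 y hy (hall y hy)
      have e2 := hsq1 w hw (hall w hw)
      have e3 : (y : G) * w * ((y : G) * w) = 1 :=
        hsq1 (y * w) (mul_mem hy hw) (hall _ (mul_mem hy hw))
      calc (y : G) * w = ((y : G) * w)⁻¹ := (inv_eq_of_mul_eq_one_right e3).symm
        _ = (w : G)⁻¹ * (y : G)⁻¹ := mul_inv_rev _ _
        _ = w * y := by rw [inv_eq_of_mul_eq_one_right e2, inv_eq_of_mul_eq_one_right e1]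
    have := h.minus Y hel
    omega
  obtain ⟨r, hr⟩ := hmoved
  refine ⟨?_, fun q hq hq2 => ?_⟩
  · -- a noncentral involution of `Y` commuting with `a`
    by_contra hcon
    have hfour : ∀ y ∈ Y, y ∉ center ↥Q → (y : G) * y = t := by
      intro y hy hyc
      refine (hsq y).resolve_left fun e => hcon ⟨y, y.2, e, ?_, ?_, ?_⟩
      · exact fun k => hyc (h.mem_center_iff'.mpr (Or.inl k))
      · exact fun k => hyc (h.mem_center_iff'.mpr (Or.inr k))
      · have := hYinv y hy
        rw [inv_eq_of_mul_eq_one_right e] at this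
        exact mul_inv_eq_iff_eq_mul.mp this
    have hcY : center ↥Q ≤ Y := fun ζ hζ => hY.mpr ⟨1, (c 1)⁻¹ * ζ, mul_mem (inv_mem (by
      refine h.mem_center_iff'.mpr (Or.inl ?_)
      show a * ((1 : ↥Q) : G) * a⁻¹ * ((1 : ↥Q) : G)⁻¹ = 1
      simp)) hζ, by group⟩
    have hsize : Nat.card (center ↥Q) = 2 := h.extra.2
    obtain ⟨y1, hy1, hy1c⟩ : ∃ y ∈ Y, y ∉ center ↥Q := by
      by_contra hc'
      push Not at hc'
      have := Subgroup.card_le_of_le (show Y ≤ center ↥Q from hc')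
      omega
    obtain ⟨y2, hy2, hy2c, hy12⟩ : ∃ y ∈ Y, y ∉ center ↥Q ∧ y1⁻¹ * y ∉ center ↥Q := by
      by_contra hc'
      push Not at hc'
      have hle : (Y : Set ↥Q) ⊆ (center ↥Q : Set ↥Q) ∪ (fun z => y1 * z) '' (center ↥Q : Set ↥Q) :=
        fun y hy => by
          by_cases hyc : y ∈ center ↥Q
          · exact Or.inl hyc
          · exact Or.inr ⟨_, hc' y hy hyc, by group⟩
      have h1 := Set.ncard_le_ncard hle (Set.toFinite _)
      have h2 := Set.ncard_union_le (center ↥Q : Set ↥Q) ((fun z => y1 * z) '' (center ↥Q : Set ↥Q))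
      have h3 := Set.ncard_image_le (f := fun z => y1 * z) (Set.toFinite (center ↥Q : Set ↥Q))
      rw [← Nat.card_coe_set_eq, SetLike.coe_sort_coe] at h1
      rw [← Nat.card_coe_set_eq (center ↥Q : Set ↥Q), SetLike.coe_sort_coe, hsize] at h2 h3
      omega
    have h3 : y1 * y2 ∉ center ↥Q := by
      intro k
      refine hy12 ?_
      have e : y1⁻¹ * y2 = (y1 * y1)⁻¹ * (y1 * y2) := by group
      rw [e]
      exact mul_mem (inv_mem (h.mem_center_iff'.mpr (hsq y1))) k
    have e1 := hfour y1 hy1 hy1c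
    have e2 := hfour y2 hy2 hy2c
    have e3 := hfour _ (mul_mem hy1 hy2) h3
    have i1 := hYinv y1 hy1
    have i2 := hYinv y2 hy2
    have i3 : a * ((y1 : G) * y2) * a⁻¹ = ((y1 : G) * y2)⁻¹ := hYinv _ (mul_mem hy1 hy2)
    have j1 : (y1 : G)⁻¹ = y1 * t := inv_eq_of_mul_eq_one_right (by rw [← mul_assoc, e1, h.tt])
    have j2 : (y2 : G)⁻¹ = y2 * t := inv_eq_of_mul_eq_one_right (by rw [← mul_assoc, e2, h.tt])
    have c2 : t * (y2 : G) = y2 * t := (mem_cent.mp (h.le y2.2)).symm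
    have : ((y1 : G) * y2)⁻¹ = (y1 : G) * y2 := by
      calc ((y1 : G) * y2)⁻¹ = a * ((y1 : G) * y2) * a⁻¹ := i3.symm
        _ = (a * (y1 : G) * a⁻¹) * (a * (y2 : G) * a⁻¹) := by group
        _ = (y1 : G) * t * (y2 * t) := by rw [i1, i2, j1, j2]
        _ = (y1 : G) * y2 * (t * t) := by rw [mul_assoc (y1 : G) t, ← mul_assoc t, c2]; group
        _ = (y1 : G) * y2 := by rw [h.tt, mul_one]
    have e4 : (y1 : G) * y2 * ((y1 : G) * y2) = 1 := by
      calc (y1 : G) * y2 * ((y1 : G) * y2) = ((y1 : G) * y2)⁻¹ * ((y1 : G) * y2) := by rw [this]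
        _ = 1 := inv_mul_cancel _
    exact h.t_ne ((show (y1 : G) * y2 * ((y1 : G) * y2) = t from e3).symm.trans e4)
  · -- an outside involution over `ψ a`
    have hmem : (⟨q, hq⟩ : ↥Q) ∈ φ.ker := by
      refine hker.mpr ?_
      have hinv : a * q * a⁻¹ = q⁻¹ := by
        rw [hai]
        exact eq_inv_of_mul_eq_one_left (by simpa [mul_assoc] using hq2)
      have e : ((c ⟨q, hq⟩ : ↥Q) : G) = (q * q)⁻¹ := by
        show a * q * a⁻¹ * q⁻¹ = _
        rw [hinv, mul_inv_rev]
      rw [e]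
      rcases hsq ⟨q, hq⟩ with k | k
      · exact Or.inl (by rw [show q * q = 1 from k, inv_one])
      · exact Or.inr (by rw [show q * q = t from k, inv_eq_of_mul_eq_one_right h.tt])
    obtain ⟨s, ζ, hζ, e⟩ := hY.mp (hYeq.symm ▸ hmem)
    have e' : q = (c s : G) * ζ := congrArg Subtype.val e
    rcases h.mem_center_iff'.mp hζ with k | k
    · refine isConj_iff.mpr ⟨(s : G), ?_⟩
      rw [e', k, mul_one, hcval, ← mul_assoc a a, ha2, one_mul]
    · have hst : (c (s * r) : G) = (c s : G) * t := by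
        rw [hcmul]
        show (c s : G) * ((s : G) * (c r : G) * (s : G)⁻¹) = _
        rw [hr, mem_cent.mp (h.le s.2), mul_inv_cancel_right]
      refine isConj_iff.mpr ⟨((s * r : ↥Q) : G), ?_⟩
      rw [e', k, ← hst, hcval, ← mul_assoc a a, ha2, one_mul]

/-- All involutions of `C(t)` outside `Q` are conjugate. -/
theorem outside_conj {a b : G} (hat : a * t = t * a) (ha2 : a * a = 1) (haQ : a ∉ Q)
    (hbt : b * t = t * b) (hb2 : b * b = 1) (hbQ : b ∉ Q) : IsConj a b := by
  have hψ : ∀ {x : G} (hx : x * t = t * x), x * x = 1 → x ∉ Q →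
      Inv (ψ ⟨x, mem_cent.mpr hx⟩) := fun {x} hx hx2 hxQ => by
    refine ⟨?_, fun e => hxQ ((h.ker _).mp e)⟩
    rw [← map_mul]
    convert map_one ψ using 2
    exact Subtype.ext hx2
  obtain ⟨y, hy⟩ := five_inv_conj _ _ (hψ hbt hb2 hbQ) (hψ hat ha2 haQ)
  obtain ⟨⟨k, hk⟩, rfl⟩ := h.surj y
  set q := a⁻¹ * (k * b * k⁻¹) with hq
  have hqm : q ∈ Subgroup.centralizer ({t} : Set G) :=
    mul_mem (inv_mem (mem_cent.mpr hat)) (mul_mem (mul_mem hk (mem_cent.mpr hbt)) (inv_mem hk))
  have hqQ : q ∈ Q := by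
    refine (h.ker ⟨q, hqm⟩).mp ?_
    have e : ψ ⟨q, hqm⟩ = (ψ ⟨a, mem_cent.mpr hat⟩)⁻¹ *
        (ψ ⟨k, hk⟩ * ψ ⟨b, mem_cent.mpr hbt⟩ * (ψ ⟨k, hk⟩)⁻¹) := by
      rw [← map_inv, ← map_inv, ← map_mul, ← map_mul, ← map_mul]; rfl
    rw [e, hy, inv_mul_cancel]
  have e : a * q = k * b * k⁻¹ := by rw [hq, mul_inv_cancel_left]
  have hq2 : a * q * (a * q) = 1 := by
    rw [e]
    calc k * b * k⁻¹ * (k * b * k⁻¹) = k * (b * b) * k⁻¹ := by group
      _ = 1 := by rw [hb2]; group
  have hc := (h.outside_data hat ha2 haQ).2 q hqQ hq2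
  rw [e] at hc
  exact hc.trans (isConj_iff.mpr ⟨k, rfl⟩).symm

/-- If some other conjugate of `t` commutes with `t`, one lies in `Q`. -/
theorem exists_conj_mem {g : G} (hc : Commute t (g * t * g⁻¹)) (hne : g * t * g⁻¹ ≠ t) :
    ∃ u ∈ Q, u ≠ t ∧ IsConj t u := by
  set a := g * t * g⁻¹ with hag
  have hta : IsConj t a := isConj_iff.mpr ⟨g, hag.symm⟩
  by_cases haQ : a ∈ Q
  · exact ⟨a, haQ, hne, hta⟩
  have ha2 : a * a = 1 := by
    calc a * a = g * (t * t) * g⁻¹ := by rw [hag]; group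
      _ = 1 := by rw [h.tt]; group
  obtain ⟨q, hq, hq2, hq1, hqt, haq⟩ := (h.outside_data hc.eq.symm ha2 haQ).1
  have hout : ∀ x : G, x * t = t * x → x * x = 1 → x ∉ Q → IsConj t x := fun x hx hx2 hxQ =>
    hta.trans (h.outside_conj hc.eq.symm ha2 haQ hx hx2 hxQ)
  set u := g⁻¹ * q * g with hu
  have hut : u * t = t * u := by
    have e : t = g⁻¹ * a * g := by rw [hag]; group
    calc u * t = u * (g⁻¹ * a * g) := by rw [← e]
      _ = g⁻¹ * (q * a) * g := by rw [hu]; group
      _ = g⁻¹ * (a * q) * g := by rw [haq]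
      _ = (g⁻¹ * a * g) * u := by rw [hu]; group
      _ = t * u := by rw [← e]
  have hu2 : u * u = 1 := by
    calc u * u = g⁻¹ * (q * q) * g := by rw [hu]; group
      _ = 1 := by rw [hq2]; group
  by_cases huQ : u ∈ Q
  · have haqQ : a * q ∉ Q := fun k => haQ (by
      have := mul_mem k (inv_mem hq)
      rwa [mul_inv_cancel_right] at this)
    have hconj : IsConj t (t * u) := by
      have h1 : IsConj t (a * q) := hout _ (by
          rw [mul_assoc, show q * t = t * q from mem_cent.mp (h.le hq), ← mul_assoc, ← hc.eq,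
            mul_assoc]) (by
          calc a * q * (a * q) = a * (q * a) * q := by group
            _ = a * (a * q) * q := by rw [haq]
            _ = (a * a) * (q * q) := by group
            _ = 1 := by rw [ha2, hq2, one_mul]) haqQ
      exact h1.trans (isConj_iff.mpr ⟨g⁻¹, by rw [hu, hag]; group⟩)
    refine ⟨t * u, mul_mem h.t_mem huQ, fun k => hq1 ?_, hconj⟩
    have h1 : u = 1 := mul_eq_left.mp k
    calc q = g * u * g⁻¹ := by rw [hu]; group
      _ = 1 := by rw [h1]; group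
  · exact ⟨q, hq, hqt, (hout u hut hu2 huQ).trans (isConj_iff.mpr ⟨g, by rw [hu]; group⟩)⟩

end Shape

/-- The simple-group hypotheses give a setup. -/
theorem exists_setup_of_simple {G : Type u} [Group G] [Finite G] [IsSimpleGroup G] (t : G)
    (ht : orderOf t = 2) (Q : Subgroup (Subgroup.centralizer ({t} : Set G))) [Q.Normal]
    (hQ : Cfsg.IsExtraspecial 2 Q) (hcard : Nat.card Q = 32)
    (hminus : ∀ E : Subgroup Q, Cfsg.IsElementaryAbelian 2 E → Nat.card E ≤ 2 ^ 2)
    (h2c : Subgroup.centralizer (Q : Set (Subgroup.centralizer ({t} : Set G))) ≤ Q)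
    (e : (Subgroup.centralizer ({t} : Set G)) ⧸ Q ≃* A5)
    (htwo : ∃ x y : G, orderOf x = 2 ∧ orderOf y = 2 ∧ ¬ IsConj x y) :
    ∃ S : Setup G, S.z = t := by
  have hti : Inv t := inv_iff_orderOf.mpr ht
  let QG : Subgroup G := Q.map (Subgroup.centralizer ({t} : Set G)).subtype
  let eQ : ↥Q ≃* ↥QG := Q.equivMapOfInjective _ (Subgroup.centralizer ({t} : Set G)).subtype_injective
  have hmem : ∀ x : ↥(Subgroup.centralizer ({t} : Set G)), (x : G) ∈ QG ↔ x ∈ Q := fun x =>
    ⟨fun ⟨y, hy, h⟩ => (Subtype.ext h : y = x) ▸ hy, fun h => ⟨x, h, rfl⟩⟩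
  have hcard' : Nat.card ↥QG = 32 := by rw [← Nat.card_congr eQ.toEquiv]; exact hcard
  let ψ : ↥(Subgroup.centralizer ({t} : Set G)) →* A5 := e.toMonoidHom.comp (QuotientGroup.mk' Q)
  have hψker : ∀ x, ψ x = 1 ↔ (x : G) ∈ QG := fun x => by
    rw [hmem]
    show e (QuotientGroup.mk x : ↥(Subgroup.centralizer ({t} : Set G)) ⧸ Q) = 1 ↔ x ∈ Q
    rw [EmbeddingLike.map_eq_one_iff, QuotientGroup.eq_one_iff]
  have hS : Shape t QG ψ :=
    { tt := hti.1
      t_ne := hti.2
      surj := e.surjective.comp (QuotientGroup.mk'_surjective Q)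
      ker := hψker
      le := Subgroup.map_subtype_le Q
      extra := TI.isExtraspecial_congr eQ hQ
      card := hcard'
      self := fun x hx hxq => (hmem ⟨x, hx⟩).mpr (h2c (Subgroup.mem_centralizer_iff.mpr
        fun q hq => Subtype.ext (hxq q ((hmem q).mpr hq)).symm))
      minus := fun E hE => by
        have := hminus _ (PGroup.isElementaryAbelian_map hE eQ.symm.toMonoidHom)
        rwa [card_map_of_injective eQ.symm.injective] at this }
  have hnot : ¬ Cfsg.IsIsolatedInvolution t := by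
    intro hiso
    have hc := ZStar.inZStar hiso
    have hO : Cfsg.pPrimeCore 2 G = ⊥ := by
      refine (Subgroup.Normal.eq_bot_or_eq_top (inferInstance :
        (Cfsg.pPrimeCore 2 G).Normal)).resolve_right fun htop => ?_
      have hodd : Odd (Nat.card ↥(Cfsg.pPrimeCore 2 G)) := PCore.odd_card_oddCore
      rw [htop, Subgroup.card_top] at hodd
      exact (Nat.not_even_iff_odd.mpr hodd) (even_iff_two_dvd.mpr (ht ▸ orderOf_dvd_natCard t))
    have htc : t ∈ center G := ZStar.mem_center_of_oddCore_eq_bot hc hO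
    have hN : QG.Normal := ⟨fun q hq g => hS.conj_mem (mem_center_iff.mp htc g) hq⟩
    rcases hN.eq_bot_or_eq_top with k | k
    · rw [k, Subgroup.card_bot] at hcard'; omega
    · have h1 : ∀ x : ↥(Subgroup.centralizer ({t} : Set G)), ψ x = 1 := fun x => (hψker x).mpr (by rw [k]; exact mem_top _)
      obtain ⟨y, hy⟩ : ∃ y : A5, y ≠ 1 := by
        by_contra hcon
        push Not at hcon
        have : Subsingleton A5 := ⟨fun a b => (hcon a).trans (hcon b).symm⟩
        have h60 := five_card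
        rw [Nat.card_unique] at h60
        omega
      obtain ⟨x, rfl⟩ := hS.surj y
      exact hy (h1 x)
  simp only [Cfsg.IsIsolatedInvolution, not_and, not_forall] at hnot
  obtain ⟨g, hg, hg'⟩ := hnot ht
  obtain ⟨x, y, hx, hy, hxy⟩ := htwo
  exact ⟨{ z := t, hz := ht, Q := QG, ψ := ψ, ψ_surj := hS.surj, ψ_ker := hψker, Q_le := hS.le
           extra := hS.extra, card_Q := hcard', self := hS.self
           nwc := hS.exists_conj_mem hg hg'
           two_classes := ⟨x, y, hx, hy, hxy⟩ }, rfl⟩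

end Cfsg.Agent.HallJankoType
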