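import Cfsg.Agent.Lib.HallJankoType.Classes
import Cfsg.Agent.Lib.HallJankoType.AutFive
import Cfsg.Agent.Lib.BSW.FourCent
import Cfsg.Agent.Lib.Transfer.Burnside

/-!
The centralizer of a non-2-central involution of a group of Hall–Janko type is a direct product
of a four group and a group that is `A₄` or `A₅`.
-/

set_option autoImplicit false
set_option linter.style.haveILetI false
set_option linter.unusedSectionVars false

namespace Cfsg.Agent.HallJankoType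

open Cfsg.Agent.JankoOrder (Inv inv_iff_orderOf)
open Subgroup

universe u

local notation "A5" => alternatingGroup (Fin 5)

namespace Setup

variable {G : Type u} [Group G] (S : Setup G) [Finite G] {a : G}

theorem z_mem_E (ha : S.Outside a) : S.z ∈ S.E a :=
  S.mem_E.mpr ⟨S.z_mem_C, (S.z_comm ha.mem).symm⟩

theorem E_inf_Q (ha : S.Outside a) {u : G} (hu2 : u * u = 1)
    (hiff : ∀ q ∈ S.Q, (q * a = a * q ↔ S.Four u q)) {x : G} (hx : x ∈ S.E a) (hxQ : x ∈ S.Q) :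
    x = 1 ∨ x = S.z ∨ x = u ∨ x = S.z * u := by
  rcases (hiff x hxQ).mp (S.mem_E.mp hx).2 with (h | h) | (h | h)
  · exact .inl h
  · exact .inr (.inl h)
  · exact .inr (.inr (.inl (by rw [eq_inv_of_mul_eq_one_left h, inv_of_sq hu2])))
  · exact .inr (.inr (.inr (by rw [← h, mul_assoc, hu2, mul_one])))

theorem mem_E_of_fix (ha : S.Outside a) {g f : G} (hg : g * a = a * g) (hf : f ∈ S.Q)
    (hfa : f * a = a * f) (hfz : ¬ S.Zp f) (hfix : g * f * g⁻¹ = f) : g ∈ S.E a := by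
  obtain ⟨k, hk, hkf, hkE⟩ := S.exists_shift ha hf hfa hfz
  have hk' : k⁻¹ * a = a * k⁻¹ := by
    rw [inv_mul_eq_iff_eq_mul, ← mul_assoc, hk, mul_inv_cancel_right]
  have hm : k * g * k⁻¹ ∈ S.E a := by
    refine S.mem_E.mpr ⟨mem_cent.mpr (mul_inv_eq_iff_eq_mul.mp ?_), ?_⟩
    · calc k * g * k⁻¹ * S.z * (k * g * k⁻¹)⁻¹
          = k * (g * (k⁻¹ * S.z * k) * g⁻¹) * k⁻¹ := by group
        _ = k * (g * f * g⁻¹) * k⁻¹ := by rw [← hkf]; group
        _ = S.z := by rw [hfix, hkf]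
    · rw [mul_assoc, hk', ← mul_assoc, mul_assoc k, hg, ← mul_assoc, hk, mul_assoc a, mul_assoc a]
  let F : ↥(S.E a) → ↥(S.E a) := fun e => ⟨k * e * k⁻¹, hkE _ e.2⟩
  have hF : Function.Bijective F := Finite.injective_iff_bijective.mp fun e e' h =>
    Subtype.ext (mul_left_cancel (mul_right_cancel (congrArg Subtype.val h :)))
  obtain ⟨⟨p, hp⟩, hpe⟩ := hF.2 ⟨_, hm⟩
  exact mul_left_cancel (mul_right_cancel (congrArg Subtype.val hpe :)) ▸ hp

/-- An element of order three of `C(a)` permuting the `z`-conjugates of `E`. -/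
theorem exists_three (ha : S.Outside a) {u : G} (hu : u ∈ S.Q) (hu2 : u * u = 1) (huz : ¬ S.Zp u)
    (hua : u * a = a * u) (hiff : ∀ q ∈ S.Q, (q * a = a * q ↔ S.Four u q)) :
    ∃ n : G, n * a = a * n ∧ n ^ 3 = 1 ∧ n ≠ 1 ∧ (∀ x ∈ S.E a, n * x * n⁻¹ ∈ S.E a) ∧
      n * u * n⁻¹ = S.z ∧ n * S.z * n⁻¹ = S.z * u := by
  obtain ⟨g, hga, hgu, hgE⟩ := S.exists_shift ha hu hua huz
  have huE : u ∈ S.E a := S.mem_E.mpr ⟨S.Q_le hu, hua⟩
  have huc : S.z * u = u * S.z := (S.z_comm (S.Q_le hu)).symm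
  have hgnE : g ∉ S.E a := fun h => huz (.inr (by
    rw [← hgu, S.E_comm ha h huE, mul_inv_cancel_right]))
  have hgz : g * S.z * g⁻¹ = S.z * u := by
    have hm := hgE _ (S.z_mem_E ha)
    have h1 : g * S.z * g⁻¹ ≠ 1 := fun k => S.z_ne_one (conj_eq_one_iff.mp k)
    have hQ := (S.conj_z_iff_of_mem_E ha hm h1).mp (isConj_iff.mpr ⟨g, rfl⟩)
    rcases S.E_inf_Q ha hu2 hiff hm hQ with h | h | h | h
    · exact absurd h h1
    · exact absurd (S.mem_E.mpr ⟨mem_cent.mpr (mul_inv_eq_iff_eq_mul.mp h), hga⟩) hgnE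
    · refine absurd (S.mem_E_of_fix ha hga (f := S.z * u) (mul_mem S.z_mem_Q hu) ?_ ?_ ?_) hgnE
      · rw [mul_assoc, hua, ← mul_assoc, ← S.z_comm ha.mem, mul_assoc]
      · rintro (k | k)
        · exact huz (.inr (by rw [eq_inv_of_mul_eq_one_right k, inv_of_sq S.zz]))
        · exact huz (.inl (mul_eq_left.mp k))
      · calc g * (S.z * u) * g⁻¹ = (g * S.z * g⁻¹) * (g * u * g⁻¹) := by group
          _ = S.z * u := by rw [h, hgu, huc]
    · exact h
  have hg2 : g * (g * u * g⁻¹) * g⁻¹ = S.z * u := by rw [hgu, hgz]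
  have hg3z : g * (g * (g * S.z * g⁻¹) * g⁻¹) * g⁻¹ = S.z := by
    rw [hgz]
    calc g * (g * (S.z * u) * g⁻¹) * g⁻¹ = g * ((g * S.z * g⁻¹) * (g * u * g⁻¹)) * g⁻¹ := by group
      _ = g * (S.z * u * S.z) * g⁻¹ := by rw [hgz, hgu]
      _ = g * u * g⁻¹ := by rw [huc, mul_assoc u, S.zz, mul_one]
      _ = S.z := hgu
  have hg3 : g ^ 3 ∈ S.E a := by
    refine S.mem_E.mpr ⟨mem_cent.mpr (mul_inv_eq_iff_eq_mul.mp ?_), (Commute.pow_left hga 3).eq⟩
    calc g ^ 3 * S.z * (g ^ 3)⁻¹ = g * (g * (g * S.z * g⁻¹) * g⁻¹) * g⁻¹ := by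
          simp only [pow_succ, pow_zero, one_mul]; group
      _ = S.z := hg3z
  have hg6 : g ^ 3 * g ^ 3 = 1 := S.E_sq ha hg3
  have hact : ∀ x ∈ S.E a, g ^ 4 * x * (g ^ 4)⁻¹ = g * x * g⁻¹ := by
    intro x hx
    calc g ^ 4 * x * (g ^ 4)⁻¹ = g * (g ^ 3 * x * (g ^ 3)⁻¹) * g⁻¹ := by
          rw [pow_succ' g 3]; group
      _ = g * x * g⁻¹ := by rw [S.E_comm ha hg3 hx, mul_inv_cancel_right]
  refine ⟨g ^ 4, (Commute.pow_left hga 4).eq, ?_, ?_, fun x hx => ?_, ?_, ?_⟩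
  · rw [← pow_mul, show 4 * 3 = 3 * 4 by norm_num, pow_mul,
      show (g ^ 3) ^ 4 = g ^ 3 * g ^ 3 * (g ^ 3 * g ^ 3) by simp only [pow_succ, pow_zero, one_mul, mul_assoc],
      hg6, one_mul]
  · intro h
    refine hgnE ?_
    have e : g = (g ^ 3)⁻¹ := eq_inv_of_mul_eq_one_left (by rw [← pow_succ', h])
    rw [e]; exact inv_mem hg3
  · rw [hact x hx]; exact hgE x hx
  · rw [hact u huE, hgu]
  · rw [hact _ (S.z_mem_E ha), hgz]

/-- The data of the structure of `C(a)`. -/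
structure Local (S : Setup G) (a : G) where
  outside : S.Outside a
  u : G
  u_mem : u ∈ S.Q
  u_sq : u * u = 1
  u_nz : ¬ S.Zp u
  u_comm : u * a = a * u
  u_iff : ∀ q ∈ S.Q, (q * a = a * q ↔ S.Four u q)
  n : G
  n_comm : n * a = a * n
  n_cube : n ^ 3 = 1
  n_ne : n ≠ 1
  n_norm : ∀ x ∈ S.E a, n * x * n⁻¹ ∈ S.E a
  n_u : n * u * n⁻¹ = S.z
  n_z : n * S.z * n⁻¹ = S.z * u

theorem exists_local (ha : S.Outside a) : Nonempty (Local S a) := by
  obtain ⟨u, hu, hu2, huz, hua, hiff⟩ := S.exists_core ha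
  obtain ⟨n, h1, h2, h3, h4, h5, h6⟩ := S.exists_three ha hu hu2 huz hua hiff
  exact ⟨⟨ha, u, hu, hu2, huz, hua, hiff, n, h1, h2, h3, h4, h5, h6⟩⟩

namespace Local

variable {S} (L : Local S a)

theorem n_uz : L.n * (S.z * L.u) * L.n⁻¹ = L.u := by
  calc L.n * (S.z * L.u) * L.n⁻¹ = (L.n * S.z * L.n⁻¹) * (L.n * L.u * L.n⁻¹) := by group
    _ = L.u := by
      rw [L.n_z, L.n_u, ← S.z_comm (S.Q_le L.u_mem), mul_assoc, S.zz, mul_one]

/-- The centralizer of `a`. -/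
abbrev D : Subgroup G := Subgroup.centralizer ({a} : Set G)

theorem E_le_D : S.E a ≤ Subgroup.centralizer ({a} : Set G) := inf_le_right

theorem u_mem_E : L.u ∈ S.E a := S.mem_E.mpr ⟨S.Q_le L.u_mem, L.u_comm⟩

/-- `E ∩ Q`. -/
abbrev F (S : Setup G) (a : G) : Subgroup G := S.Q ⊓ Subgroup.centralizer ({a} : Set G)

theorem F_le_E : F S a ≤ S.E a := fun _ hx => ⟨S.Q_le hx.1, hx.2⟩

theorem mem_F_cases {x : G} (hx : x ∈ F S a) : x = 1 ∨ x = S.z ∨ x = L.u ∨ x = S.z * L.u :=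
  S.E_inf_Q L.outside L.u_sq L.u_iff (F_le_E hx) hx.1

theorem u_mem_F : L.u ∈ F S a := ⟨L.u_mem, mem_cent.mpr L.u_comm⟩
theorem z_mem_F (L : Local S a) : S.z ∈ F S a :=
  ⟨S.z_mem_Q, mem_cent.mpr (S.z_comm L.outside.mem).symm⟩

theorem n_not_mem_E : L.n ∉ S.E a := fun h => L.u_nz (.inr (by
  rw [← L.n_u, S.E_comm L.outside h L.u_mem_E, mul_inv_cancel_right]))

/-- The part of `E` centralised by `n`. -/
def T : Subgroup G := S.E a ⊓ Subgroup.centralizer ({L.n} : Set G)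

theorem mem_T {x : G} : x ∈ L.T ↔ x ∈ S.E a ∧ x * L.n = L.n * x :=
  ⟨fun h => ⟨h.1, mem_cent.mp h.2⟩, fun h => ⟨h.1, mem_cent.mpr h.2⟩⟩

theorem a_mem_T : a ∈ L.T := L.mem_T.mpr ⟨S.a_mem_E L.outside, L.n_comm.symm⟩

theorem T_inf_F {x : G} (hx : x ∈ L.T) (hxF : x ∈ F S a) : x = 1 := by
  have hn := (L.mem_T.mp hx).2
  have hfix : L.n * x * L.n⁻¹ = x := by rw [← hn, mul_inv_cancel_right]
  have hu1 : L.u ≠ 1 := fun k => L.u_nz (.inl k)
  rcases L.mem_F_cases hxF with h | h | h | h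
  · exact h
  · rw [h, L.n_z] at hfix; exact absurd (mul_eq_left.mp hfix) hu1
  · rw [h, L.n_u] at hfix; exact absurd (.inr hfix.symm) L.u_nz
  · rw [h, L.n_uz] at hfix; exact absurd (right_eq_mul.mp hfix) S.z_ne_one

theorem card_T : Nat.card ↥L.T = 4 := by
  haveI : Fact (Nat.Prime 3) := ⟨Nat.prime_three⟩
  let P := Subgroup.zpowers L.n
  have hP : IsPGroup 3 ↥P := IsPGroup.of_card (n := 1) (by
    rw [Nat.card_zpowers, orderOf_eq_prime L.n_cube L.n_ne, pow_one])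
  have hnorm : P ≤ Subgroup.normalizer (S.E a : Set G) := by
    refine Subgroup.zpowers_le.mpr (Subgroup.mem_normalizer_iff.mpr fun x => ⟨L.n_norm x, fun h => ?_⟩)
    have h1 := L.n_norm _ (L.n_norm _ h)
    have e : L.n * (L.n * (L.n * x * L.n⁻¹) * L.n⁻¹) * L.n⁻¹ = L.n ^ 3 * x * (L.n ^ 3)⁻¹ := by
      simp only [pow_succ, pow_zero, one_mul]; group
    rw [e, L.n_cube, one_mul, inv_one, mul_one] at h1
    exact h1
  letI : MulAction ↥P ↥(S.E a) :=
    { smul := fun c x => ⟨(c : G) * x * (c : G)⁻¹, (Subgroup.mem_normalizer_iff.mp (hnorm c.2) _).mp x.2⟩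
      one_smul := fun x => Subtype.ext (by show (1 : G) * x * (1 : G)⁻¹ = x; simp)
      mul_smul := fun c d x => Subtype.ext (by
        show ((c : G) * d) * x * ((c : G) * d)⁻¹ = (c : G) * ((d : G) * x * (d : G)⁻¹) * (c : G)⁻¹
        group) }
  have hcard := hP.card_modEq_card_fixedPoints ↥(S.E a)
  have hfc : Nat.card (MulAction.fixedPoints ↥P ↥(S.E a)) = Nat.card ↥L.T := by
    refine Nat.card_congr
      { toFun := fun x => ⟨(x.1 : G), L.mem_T.mpr ⟨x.1.2, ?_⟩⟩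
        invFun := fun x => ⟨⟨x.1, x.2.1⟩, fun c => Subtype.ext ?_⟩
        left_inv := fun _ => rfl
        right_inv := fun _ => rfl }
    · have e : L.n * (x.1 : G) * L.n⁻¹ = x.1 :=
        congrArg Subtype.val (x.2 ⟨L.n, Subgroup.mem_zpowers _⟩)
      exact (mul_inv_eq_iff_eq_mul.mp e).symm
    · show (c : G) * x * (c : G)⁻¹ = x
      obtain ⟨k, hk⟩ := mem_zpowers_iff.mp c.2
      rw [← hk, mul_inv_eq_iff_eq_mul]
      exact ((show Commute L.n (x : G) from (L.mem_T.mp x.2).2.symm).zpow_left k).eq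
  rw [hfc, S.card_cent_C_outside L.outside] at hcard
  obtain ⟨i, hi, hTi⟩ := (Nat.dvd_prime_pow Nat.prime_two).mp
    (show Nat.card ↥L.T ∣ 2 ^ 4 by
      rw [show (2 : ℕ) ^ 4 = Nat.card ↥(S.E a) by rw [S.card_cent_C_outside L.outside]; norm_num]
      exact Subgroup.card_dvd_of_le inf_le_left)
  have h2 : 2 ∣ Nat.card ↥L.T := by
    rw [← inv_iff_orderOf.mp L.outside.isInv]
    exact Subgroup.orderOf_dvd_natCard _ L.a_mem_T
  have hF : Nat.card ↥(F S a) = 4 := S.card_cent_Q_outside L.outside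
  have hle : Nat.card ↥L.T * 4 ≤ 16 := by
    rw [← hF, ← S.card_cent_C_outside L.outside, ← Nat.card_prod]
    refine Nat.card_le_card_of_injective
      (fun p => ⟨(p.1 : G) * p.2, mul_mem p.1.2.1 (F_le_E p.2.2)⟩) fun p q e => ?_
    have e' : (p.1 : G) * p.2 = q.1 * q.2 := congrArg Subtype.val e
    have h1 : (q.1 : G)⁻¹ * p.1 = (q.2 : G) * (p.2 : G)⁻¹ := by
      calc (q.1 : G)⁻¹ * p.1 = (q.1 : G)⁻¹ * (p.1 * p.2) * (p.2 : G)⁻¹ := by group
        _ = _ := by rw [e']; group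
    have h := L.T_inf_F (mul_mem (inv_mem q.1.2) p.1.2) (h1 ▸ mul_mem q.2.2 (inv_mem p.2.2))
    have e1 : (q.1 : G) = p.1 := inv_mul_eq_one.mp h
    rw [h, eq_comm, mul_inv_eq_one] at h1
    exact Prod.ext (Subtype.ext e1.symm) (Subtype.ext h1.symm)
  have hcard' : 16 % 3 = Nat.card ↥L.T % 3 := hcard
  rw [hTi] at h2 hle hcard' ⊢
  interval_cases i <;> omega

theorem E_decomp {x : G} (hx : x ∈ S.E a) : ∃ t ∈ L.T, ∃ f ∈ F S a, t * f = x := by
  let φ : ↥L.T × ↥(F S a) → ↥(S.E a) := fun p => ⟨(p.1 : G) * p.2, mul_mem p.1.2.1 (F_le_E p.2.2)⟩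
  have hφ : Function.Bijective φ := by
    refine (Nat.bijective_iff_injective_and_card φ).mpr ⟨fun p q e => ?_, ?_⟩
    · have e' : (p.1 : G) * p.2 = q.1 * q.2 := congrArg Subtype.val e
      have h1 : (q.1 : G)⁻¹ * p.1 = (q.2 : G) * (p.2 : G)⁻¹ := by
        calc (q.1 : G)⁻¹ * p.1 = (q.1 : G)⁻¹ * (p.1 * p.2) * (p.2 : G)⁻¹ := by group
          _ = _ := by rw [e']; group
      have h := L.T_inf_F (mul_mem (inv_mem q.1.2) p.1.2) (h1 ▸ mul_mem q.2.2 (inv_mem p.2.2))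
      have e1 : (q.1 : G) = p.1 := inv_mul_eq_one.mp h
      rw [h, eq_comm, mul_inv_eq_one] at h1
      exact Prod.ext (Subtype.ext e1.symm) (Subtype.ext h1.symm)
    · rw [Nat.card_prod, L.card_T, S.card_cent_Q_outside L.outside, S.card_cent_C_outside L.outside]
  obtain ⟨p, hp⟩ := hφ.2 ⟨x, hx⟩
  exact ⟨p.1, p.1.2, p.2, p.2.2, congrArg Subtype.val hp⟩

/-- The factor `A₄` or `A₅` of `C(a)`. -/
structure Factor (L : Local S a) where
  B : Subgroup G
  le : B ≤ Subgroup.centralizer ({a} : Set G)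
  F_le : F S a ≤ B
  n_mem : L.n ∈ B
  normal : ∀ g ∈ Subgroup.centralizer ({a} : Set G), ∀ b ∈ B, g * b * g⁻¹ ∈ B
  inf_E : ∀ x ∈ S.E a, x ∈ B → x ∈ F S a
  index : Nat.card ↥(Subgroup.centralizer ({a} : Set G)) = 4 * Nat.card ↥B
  not32 : ¬ 2 ^ 5 ∣ Nat.card ↥(Subgroup.centralizer ({a} : Set G))
  sylow : ∀ x ∈ Subgroup.centralizer ({a} : Set G), Inv x →
    ∃ g ∈ Subgroup.centralizer ({a} : Set G), g * x * g⁻¹ ∈ S.E a

theorem exists_factor : Nonempty (Factor L) := by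
  haveI : Fact (Nat.Prime 2) := ⟨Nat.prime_two⟩
  set D : Subgroup G := Subgroup.centralizer ({a} : Set G) with hD
  set Ed := (S.E a).subgroupOf D with hEd
  have hEp : IsPGroup 2 ↥Ed := by
    refine IsPGroup.of_card (n := 4) ?_
    rw [hEd, Nat.card_congr (Subgroup.subgroupOfEquivOfLe (E_le_D (S := S))).toEquiv,
      S.card_cent_C_outside L.outside]
    norm_num
  obtain ⟨P, hP⟩ := hEp.exists_le_sylow
  have hPmap : (P : Subgroup ↥D).map D.subtype = S.E a := by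
    refine S.E_maximal L.outside (P.2.map _) (Subgroup.map_subtype_le _) ?_
    intro e he
    exact ⟨⟨e, E_le_D he⟩, hP (Subgroup.mem_subgroupOf.mpr he), rfl⟩
  have hPmem : ∀ x : ↥D, x ∈ (P : Subgroup ↥D) ↔ (x : G) ∈ S.E a := fun x =>
    ⟨fun h => hPmap ▸ ⟨x, h, rfl⟩, fun h => hP (Subgroup.mem_subgroupOf.mpr h)⟩
  have hPc : IsMulCommutative (P : Subgroup ↥D) := ⟨⟨fun x y => Subtype.ext (Subtype.ext
    (S.E_comm L.outside ((hPmem x.1).mp x.2) ((hPmem y.1).mp y.2)))⟩⟩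
  set nD : ↥D := ⟨L.n, mem_cent.mpr L.n_comm⟩ with hnD
  have hnN : nD ∈ Subgroup.normalizer ((P : Subgroup ↥D) : Set ↥D) := by
    have key : ∀ y : ↥D, y ∈ (P : Subgroup ↥D) → nD * y * nD⁻¹ ∈ (P : Subgroup ↥D) := fun y hy =>
      (hPmem _).mpr (L.n_norm _ ((hPmem y).mp hy))
    refine Subgroup.mem_normalizer_iff.mpr fun y => ⟨key y, fun h => ?_⟩
    have h1 := key _ (key _ h)
    have e : nD * (nD * (nD * y * nD⁻¹) * nD⁻¹) * nD⁻¹ = y := Subtype.ext (by
      show L.n * (L.n * (L.n * y * L.n⁻¹) * L.n⁻¹) * L.n⁻¹ = (y : G)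
      calc _ = L.n ^ 3 * y * (L.n ^ 3)⁻¹ := by simp only [pow_succ, pow_zero, one_mul]; group
        _ = y := by rw [L.n_cube, one_mul, inv_one, mul_one])
    rwa [e] at h1
  obtain ⟨φ, hφ⟩ := Transfer.exists_surjective_inf_centralizer_normalizer P hPc
  set K := ((P : Subgroup ↥D) ⊓ Subgroup.centralizer
    (Subgroup.normalizer ((P : Subgroup ↥D) : Set ↥D) : Set ↥D) : Subgroup ↥D) with hK
  have hKT : ∀ x : ↥D, x ∈ K ↔ (x : G) ∈ L.T := by
    intro x
    constructor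
    · intro h
      exact L.mem_T.mpr ⟨(hPmem x).mp h.1,
        (congrArg Subtype.val (Subgroup.mem_centralizer_iff.mp h.2 nD hnN)).symm⟩
    · intro h
      obtain ⟨hxE, hxn⟩ := L.mem_T.mp h
      refine Subgroup.mem_inf.mpr ⟨(hPmem x).mpr hxE, Subgroup.mem_centralizer_iff.mpr fun m hm => ?_⟩
      -- `m` acts on the conjugates of `z` like a power of `n`
      have hmE : ∀ y ∈ S.E a, (m : G) * y * (m : G)⁻¹ ∈ S.E a := fun y hy =>
        (hPmem _).mp ((Subgroup.mem_normalizer_iff.mp hm ⟨y, E_le_D hy⟩).mp ((hPmem _).mpr hy))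
      have hz := hmE _ (S.z_mem_E L.outside)
      have h1 : (m : G) * S.z * (m : G)⁻¹ ≠ 1 := fun k => S.z_ne_one (conj_eq_one_iff.mp k)
      have hQ := (S.conj_z_iff_of_mem_E L.outside hz h1).mp (isConj_iff.mpr ⟨m, rfl⟩)
      have hmc : ∀ w : G, w * a = a * w → w * S.z * w⁻¹ = S.z → w * x = x * w := fun w hwa hwz =>
        S.E_comm L.outside (S.mem_E.mpr ⟨mem_cent.mpr (mul_inv_eq_iff_eq_mul.mp hwz), hwa⟩) hxE
      have hma : (m : G) * a = a * m := mem_cent.mp m.2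
      have hinv : L.n⁻¹ * a = a * L.n⁻¹ := (Commute.inv_left (show Commute L.n a from L.n_comm)).eq
      apply Subtype.ext
      show (m : G) * x = x * m
      rcases S.E_inf_Q L.outside L.u_sq L.u_iff hz hQ with k | k | k | k
      · exact absurd k h1
      · exact hmc _ hma k
      · -- `n⁻² m` fixes `z`
        have h2 := hmc (L.n * m) (by rw [mul_assoc, hma, ← mul_assoc, L.n_comm, mul_assoc]) (by
          calc L.n * m * S.z * (L.n * m)⁻¹ = L.n * ((m : G) * S.z * (m : G)⁻¹) * L.n⁻¹ := by group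
            _ = S.z := by rw [k, L.n_u])
        calc (m : G) * x = L.n⁻¹ * (L.n * m * x) := by group
          _ = L.n⁻¹ * (x * (L.n * m)) := by rw [h2]
          _ = L.n⁻¹ * (x * L.n) * m := by group
          _ = x * m := by rw [hxn]; group
      · have h2 := hmc (L.n⁻¹ * m) (by rw [mul_assoc, hma, ← mul_assoc, hinv, mul_assoc]) (by
          calc L.n⁻¹ * m * S.z * (L.n⁻¹ * m)⁻¹ = L.n⁻¹ * ((m : G) * S.z * (m : G)⁻¹) * L.n := by group
            _ = L.n⁻¹ * (L.n * S.z * L.n⁻¹) * L.n := by rw [k, L.n_z]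
            _ = S.z := by group)
        calc (m : G) * x = L.n * (L.n⁻¹ * m * x) := by group
          _ = L.n * (x * (L.n⁻¹ * m)) := by rw [h2]
          _ = (L.n * x) * (L.n⁻¹ * m) := by group
          _ = x * m := by rw [← hxn]; group
  have hKcard : Nat.card ↥K = 4 := by
    rw [← L.card_T]
    exact Nat.card_congr
      { toFun := fun x => ⟨((x : ↥D) : G), (hKT x).mp x.2⟩
        invFun := fun x => ⟨⟨x.1, E_le_D x.2.1⟩, (hKT _).mpr x.2⟩
        left_inv := fun _ => rfl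
        right_inv := fun _ => rfl }
  have hKc : ∀ p q : ↥K, p * q = q * p := fun p q => Subtype.ext (Subtype.ext
    (S.E_comm L.outside ((hKT _).mp p.2).1 ((hKT _).mp q.2).1))
  have hKsq : ∀ p : ↥K, p * p = 1 := fun p => Subtype.ext (Subtype.ext
    (S.E_sq L.outside ((hKT _).mp p.2).1))
  have hnker : φ nD = 1 := by
    have h3 : φ nD * φ nD * φ nD = 1 := by
      rw [← map_mul, ← map_mul]
      convert map_one φ using 2
      exact Subtype.ext (by
        show L.n * L.n * L.n = 1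
        rw [← L.n_cube]; simp [pow_succ])
    rwa [hKsq, one_mul] at h3
  have hconjker : ∀ x : ↥D, φ (nD * x * nD⁻¹ * x⁻¹) = 1 := fun x => by
    simp [map_mul, hnker]
  set B : Subgroup G := φ.ker.map D.subtype with hB
  have hmemB : ∀ x : ↥D, (x : G) ∈ B ↔ φ x = 1 := fun x => by
    refine ⟨?_, fun h => ⟨x, h, rfl⟩⟩
    rintro ⟨y, hy, e⟩
    rw [← Subtype.ext e (a2 := x)]
    exact hy
  have hzB : S.z ∈ B := by
    -- `z = (n u n⁻¹ u⁻¹) u = ...`
    have e : (nD * ⟨S.z * L.u, E_le_D (mul_mem (S.z_mem_E L.outside) L.u_mem_E)⟩ * nD⁻¹ *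
        (⟨S.z * L.u, E_le_D (mul_mem (S.z_mem_E L.outside) L.u_mem_E)⟩)⁻¹ : ↥D) =
        ⟨S.z, E_le_D (S.z_mem_E L.outside)⟩ := Subtype.ext (by
      show L.n * (S.z * L.u) * L.n⁻¹ * (S.z * L.u)⁻¹ = S.z
      rw [L.n_uz, mul_inv_rev, ← mul_assoc, mul_inv_cancel, one_mul, inv_of_sq S.zz])
    exact (hmemB ⟨S.z, E_le_D (S.z_mem_E L.outside)⟩).mpr (e ▸ hconjker _)
  have huB : L.u ∈ B := by
    have e : (nD * ⟨S.z, E_le_D (S.z_mem_E L.outside)⟩ * nD⁻¹ *
        (⟨S.z, E_le_D (S.z_mem_E L.outside)⟩)⁻¹ : ↥D) = ⟨L.u, E_le_D L.u_mem_E⟩ := Subtype.ext (by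
      show L.n * S.z * L.n⁻¹ * S.z⁻¹ = L.u
      rw [L.n_z, inv_of_sq S.zz, ← S.z_comm (S.Q_le L.u_mem), mul_assoc, S.zz, mul_one])
    exact (hmemB ⟨L.u, E_le_D L.u_mem_E⟩).mpr (e ▸ hconjker _)
  have hFB : F S a ≤ B := fun x hx => by
    rcases L.mem_F_cases hx with h | h | h | h <;> rw [h]
    · exact one_mem _
    · exact hzB
    · exact huB
    · exact mul_mem hzB huB
  have hsylow : ∀ x ∈ D, Inv x → ∃ g ∈ D, g * x * g⁻¹ ∈ S.E a := by
    intro x hx hx2
    obtain ⟨T', hT'⟩ := (IsPGroup.of_card (n := 1) (by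
      rw [Nat.card_zpowers, ← Subgroup.orderOf_coe, pow_one]
      exact inv_iff_orderOf.mp hx2) : IsPGroup 2 ↥(zpowers (⟨x, hx⟩ : ↥D))).exists_le_sylow
    obtain ⟨g, hg⟩ := MulAction.exists_smul_eq ↥D T' P
    refine ⟨g, g.2, (hPmem (g * ⟨x, hx⟩ * g⁻¹)).mp ?_⟩
    rw [← hg, Sylow.coe_subgroup_smul]
    exact ⟨_, hT' (mem_zpowers _), rfl⟩
  have hidx : Nat.card ↥D = 4 * Nat.card ↥B := by
    have h := φ.ker.index_mul_card
    rw [Subgroup.index_ker, MonoidHom.range_eq_top.mpr hφ, Subgroup.card_top] at h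
    rw [hB, Subgroup.card_map_of_injective D.subtype_injective]
    refine h.symm.trans ?_
    exact congrArg (· * Nat.card ↥φ.ker) hKcard
  have h16 : ¬ 2 ^ 5 ∣ Nat.card ↥D := fun h => by
    obtain ⟨K', hK'⟩ := Sylow.exists_subgroup_card_pow_prime 2 h
    obtain ⟨P', hP'⟩ := (IsPGroup.of_card hK').exists_le_sylow
    have := Subgroup.card_le_of_le hP'
    rw [hK', Sylow.card_eq_multiplicity P', ← Sylow.card_eq_multiplicity P,
      ← Subgroup.card_map_of_injective (K := (P : Subgroup ↥D)) D.subtype_injective, hPmap,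
      S.card_cent_C_outside L.outside] at this
    norm_num at this
  refine ⟨⟨B, Subgroup.map_subtype_le _, hFB, (hmemB nD).mpr hnker, fun g hg b hb => ?_,
    fun x hx hxB => ?_, hidx, h16, hsylow⟩⟩
  · obtain ⟨y, hy, rfl⟩ := hb
    refine ⟨⟨g, hg⟩ * y * ⟨g, hg⟩⁻¹, ?_, rfl⟩
    exact (inferInstance : φ.ker.Normal).conj_mem _ hy _
  · -- a 2-subgroup of the kernel has order at most four
    set EB : Subgroup G := S.E a ⊓ B with hEB
    have hFEB : F S a ≤ EB := le_inf F_le_E hFB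
    obtain ⟨i, hi, hEBi⟩ := (Nat.dvd_prime_pow Nat.prime_two).mp
      (show Nat.card ↥EB ∣ 2 ^ 4 by
        rw [show (2 : ℕ) ^ 4 = Nat.card ↥(S.E a) by rw [S.card_cent_C_outside L.outside]; norm_num]
        exact Subgroup.card_dvd_of_le inf_le_left)
    have hdvd : 4 * Nat.card ↥EB ∣ Nat.card ↥D := by
      rw [hidx]; exact Nat.mul_dvd_mul_left 4 (Subgroup.card_dvd_of_le inf_le_right)
    have hle : Nat.card ↥EB ≤ Nat.card ↥(F S a) := by
      rw [S.card_cent_Q_outside L.outside, hEBi]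
      by_contra hlt
      have h3 : 3 ≤ i := by
        by_contra k
        exact hlt (by interval_cases i <;> norm_num)
      refine h16 (Dvd.dvd.trans ?_ hdvd)
      rw [hEBi, show 4 * 2 ^ i = 2 ^ (2 + i) by rw [pow_add]; norm_num]
      exact pow_dvd_pow 2 (by omega)
    rw [Subgroup.eq_of_le_of_card_ge hFEB hle]
    exact ⟨hx, hxB⟩

namespace Factor

variable {L} (K : Factor L)

theorem isConj_z_iff {x : G} (hx : x ∈ Subgroup.centralizer ({a} : Set G)) (hx2 : Inv x) :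
    IsConj S.z x ↔ x ∈ K.B := by
  obtain ⟨g, hg, hgx⟩ := K.sylow x hx hx2
  have hconj : IsConj x (g * x * g⁻¹) := isConj_iff.mpr ⟨g, rfl⟩
  have h1 : g * x * g⁻¹ ≠ 1 := (conj_inv_iff hconj hx2).2
  have hiff := S.conj_z_iff_of_mem_E L.outside hgx h1
  constructor
  · intro h
    have hB : g * x * g⁻¹ ∈ K.B := K.F_le ⟨hiff.mp (h.trans hconj), hgx.2⟩
    have := K.normal _ (inv_mem hg) _ hB
    rwa [show g⁻¹ * (g * x * g⁻¹) * g⁻¹⁻¹ = x by group] at this
  · intro h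
    exact (hiff.mpr (K.inf_E _ hgx (K.normal g hg x h)).1).trans hconj.symm

theorem cent_z {x : G} (hx : x ∈ K.B) (hxz : x * S.z = S.z * x) : x ∈ F S a :=
  K.inf_E x (S.mem_E.mpr ⟨mem_cent.mpr hxz, mem_cent.mp (K.le hx)⟩) hx

theorem z_mem : S.z ∈ K.B := K.F_le L.z_mem_F
theorem u_mem : L.u ∈ K.B := K.F_le L.u_mem_F

theorem card_twelve_or_iso : (∀ g ∈ K.B, g * S.z * g⁻¹ ∈ F S a) ∧ Nat.card ↥K.B = 12 ∨
    Nonempty (↥K.B ≃* A5) := by
  by_cases hnorm : ∀ g ∈ K.B, g * S.z * g⁻¹ ∈ F S a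
  · left
    refine ⟨hnorm, ?_⟩
    -- `B = F ⟨n⟩`
    have h := card_orbit_mul K.B S.z
    have hset : Nat.card {v : G // ∃ g ∈ K.B, g * S.z * g⁻¹ = v} = 3 := by
      classical
      have e : {v : G | ∃ g ∈ K.B, g * S.z * g⁻¹ = v} =
          (({S.z, L.u, S.z * L.u} : Finset G) : Set G) := by
        ext v
        simp only [Set.mem_ofPred_eq, Finset.coe_insert, Finset.coe_singleton, Set.mem_insert_iff,
          Set.mem_singleton_iff]
        refine ⟨?_, ?_⟩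
        · rintro ⟨g, hg, rfl⟩
          rcases L.mem_F_cases (hnorm g hg) with k | k | k | k
          · exact absurd (conj_eq_one_iff.mp k) S.z_ne_one
          · exact .inl k
          · exact .inr (.inl k)
          · exact .inr (.inr k)
        · rintro (rfl | rfl | rfl)
          · exact ⟨1, one_mem _, by simp⟩
          · refine ⟨L.n * L.n, mul_mem K.n_mem K.n_mem, ?_⟩
            calc L.n * L.n * S.z * (L.n * L.n)⁻¹ = L.n * (L.n * S.z * L.n⁻¹) * L.n⁻¹ := by group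
              _ = L.u := by rw [L.n_z, L.n_uz]
          · exact ⟨L.n, K.n_mem, L.n_z⟩
      show Nat.card ↥{v : G | ∃ g ∈ K.B, g * S.z * g⁻¹ = v} = 3
      rw [Nat.card_coe_set_eq, e, Set.ncard_coe_finset,
        Finset.card_insert_of_notMem (by
          simp only [Finset.mem_insert, Finset.mem_singleton, not_or]
          exact ⟨fun h => L.u_nz (.inr h.symm), fun h => L.u_nz (.inl (by simpa using h))⟩),
        Finset.card_pair (fun h => S.z_ne_one (right_eq_mul.mp h))]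
    have hc : (K.B ⊓ Subgroup.centralizer ({S.z} : Set G) : Subgroup G) = F S a :=
      le_antisymm (fun x hx => K.cent_z hx.1 (mem_cent.mp hx.2))
        (fun x hx => ⟨K.F_le hx, S.Q_le hx.1⟩)
    rw [hset, hc, S.card_cent_Q_outside L.outside] at h
    omega
  right
  haveI : Fact (Nat.Prime 2) := ⟨Nat.prime_two⟩
  set zb : ↥K.B := ⟨S.z, K.z_mem⟩ with hzb
  set ub : ↥K.B := ⟨L.u, K.u_mem⟩ with hub
  set nb : ↥K.B := ⟨L.n, K.n_mem⟩ with hnb
  set Fb : Subgroup ↥K.B := (F S a).subgroupOf K.B with hFb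
  have hcentz : Subgroup.centralizer ({zb} : Set ↥K.B) = Fb := by
    ext x
    rw [mem_cent, hFb, Subgroup.mem_subgroupOf]
    exact ⟨fun h => K.cent_z x.2 (congrArg Subtype.val h),
      fun h => Subtype.ext (mem_cent.mp (S.Q_le h.1))⟩
  have hFb4 : Nat.card ↥Fb = 4 := by
    rw [hFb, Nat.card_congr (Subgroup.subgroupOfEquivOfLe K.F_le).toEquiv,
      S.card_cent_Q_outside L.outside]
  let FC : BSW.FourCent ↥K.B :=
    { x := zb
      hx := by rw [← Subgroup.orderOf_coe]; exact S.hz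
      card_four := by rw [hcentz, hFb4]
      sq := fun q hq => Subtype.ext (S.E_sq L.outside (F_le_E (hcentz ▸ hq : q ∈ Fb))) }
  have huF : ub ∈ Fb := L.u_mem_F
  -- a 2-subgroup has order at most four
  have hsmall : ∀ M : Subgroup ↥K.B, IsPGroup 2 ↥M → Nat.card ↥M ≤ 4 := by
    intro M hM
    obtain ⟨i, hi⟩ := hM.exists_card_eq
    rw [hi]
    by_contra hlt
    have h3 : 3 ≤ i := by
      by_contra k
      exact hlt (by interval_cases i <;> norm_num)
    refine K.not32 (Dvd.dvd.trans ?_ (K.index.symm ▸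
      Nat.mul_dvd_mul_left 4 (hi ▸ Subgroup.card_subgroup_dvd_card M)))
    rw [show 4 * 2 ^ i = 2 ^ (2 + i) by rw [pow_add]; norm_num]
    exact pow_dvd_pow 2 (by omega)
  have hFbp : IsPGroup 2 ↥Fb := IsPGroup.of_card (n := 2) (by rw [hFb4]; norm_num)
  refine FC.iso_alternating ?_ ?_
  · rintro ⟨P, N, hN, hc⟩
    haveI := hN
    -- the quotient by `N` has order four, so `N` contains the commutator `[n, z] = u`
    have hP4 : Nat.card ↥(P : Subgroup ↥K.B) = 2 ^ 2 := by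
      refine le_antisymm (hsmall _ P.2) ?_
      rw [show (2 : ℕ) ^ 2 = Nat.card ↥Fb by rw [hFb4]; norm_num]
      obtain ⟨T', hT'⟩ := hFbp.exists_le_sylow
      rw [Sylow.card_eq_multiplicity P, ← Sylow.card_eq_multiplicity T']
      exact Subgroup.card_le_of_le hT'
    have hidx : Nat.card (↥K.B ⧸ N) = 2 ^ 2 := by
      rw [← hP4, ← hc.symm.index_eq_card]; rfl
    have hab := IsPGroup.isMulCommutative_of_card_eq_prime_sq hidx
    have hmem : nb * zb * nb⁻¹ * zb⁻¹ ∈ N := by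
      rw [← QuotientGroup.eq_one_iff, QuotientGroup.mk_mul, QuotientGroup.mk_mul, QuotientGroup.mk_mul,
        hab.is_comm.comm (nb : ↥K.B ⧸ N), QuotientGroup.mk_inv, mul_inv_cancel_right,
        QuotientGroup.mk_inv, mul_inv_cancel]
    have hu : nb * zb * nb⁻¹ * zb⁻¹ = ub := Subtype.ext (by
      show L.n * S.z * L.n⁻¹ * S.z⁻¹ = L.u
      rw [L.n_z, inv_of_sq S.zz, ← S.z_comm (S.Q_le L.u_mem), mul_assoc, S.zz, mul_one])
    rw [hu] at hmem
    have h2 : orderOf ub = 2 := by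
      rw [← Subgroup.orderOf_coe]
      exact inv_iff_orderOf.mp ⟨L.u_sq, fun k => L.u_nz (.inl k)⟩
    exact P.not_dvd_index (hc.symm.symm.index_eq_card ▸ h2 ▸ Subgroup.orderOf_dvd_natCard _ hmem)
  · intro M hM hMel
    refine ⟨fun h2 => ?_, fun h4 => ?_⟩
    · obtain ⟨m, hm⟩ := exists_prime_orderOf_dvd_card' 2 (h2 ▸ dvd_rfl : 2 ∣ Nat.card ↥M)
      have hcentral : ∀ g : ↥K.B, g * (m : ↥K.B) * g⁻¹ = m := by
        intro g
        have hmem := hM.conj_mem _ m.2 g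
        obtain ⟨p, q, -, hpq⟩ := Nat.card_eq_two_iff.mp h2
        have h1 : ∀ y : ↥M, y = p ∨ y = q := fun y => by
          have : y ∈ ({p, q} : Set ↥M) := hpq ▸ Set.mem_univ y
          simpa using this
        have hm1 : m ≠ 1 := fun e => by rw [e, orderOf_one] at hm; norm_num at hm
        have hne : (⟨_, hmem⟩ : ↥M) ≠ 1 := fun e => hm1 (Subtype.ext (conj_eq_one_iff.mp
          (congrArg Subtype.val e : g * (m : ↥K.B) * g⁻¹ = 1)))
        rcases h1 ⟨_, hmem⟩ with e1 | e1 <;> rcases h1 m with e2 | e2 <;> rcases h1 1 with e3 | e3 <;>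
          first
            | exact congrArg Subtype.val (e1.trans e2.symm)
            | exact absurd (e1.trans e3.symm) hne
            | exact absurd (e2.trans e3.symm) hm1
      have hmz : (m : ↥K.B) ∈ Fb := by
        rw [← hcentz, mem_cent]
        exact (mul_inv_eq_iff_eq_mul.mp (hcentral zb)).symm
      have hmT : ((m : ↥K.B) : G) ∈ L.T := L.mem_T.mpr ⟨F_le_E hmz,
        (congrArg Subtype.val (mul_inv_eq_iff_eq_mul.mp (hcentral nb))).symm⟩
      have := L.T_inf_F hmT hmz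
      rw [← Subgroup.orderOf_coe, ← Subgroup.orderOf_coe, this, orderOf_one] at hm
      norm_num at hm
    · refine hnorm fun g hg => ?_
      have hMp : IsPGroup 2 ↥M := IsPGroup.of_card (n := 2) (by rw [h4]; norm_num)
      haveI := hM
      have hsup := hsmall _ (hMp.to_sup_of_normal_left hFbp)
      have e1 : M = M ⊔ Fb := Subgroup.eq_of_le_of_card_ge le_sup_left (by rw [h4]; exact hsup)
      have e2 : Fb = M ⊔ Fb := Subgroup.eq_of_le_of_card_ge le_sup_right (by rw [hFb4]; exact hsup)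
      have hzM : zb ∈ M := by rw [e1, ← e2]; exact L.z_mem_F
      have h := hM.conj_mem zb hzM ⟨g, hg⟩
      rw [e1, ← e2] at h
      exact h

end Factor

end Local

end Setup

end Cfsg.Agent.HallJankoType
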