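import Cfsg.Agent.Lib.HallJankoType.FiveLocal

/-!
The Sylow 5-subgroups of a group of Hall–Janko type.
-/

set_option autoImplicit false
set_option linter.style.haveILetI false
set_option linter.unusedSectionVars false
set_option linter.unusedSimpArgs false

namespace Cfsg.Agent.HallJankoType

open Cfsg.Agent.JankoOrder (Inv inv_iff_orderOf)
open Subgroup

universe u

local notation "A5" => alternatingGroup (Fin 5)

theorem five_norm_zpowers {G : Type u} [Group G] [Finite G] {x g : G} (h5 : orderOf x = 5)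
    (hg : g ∈ Subgroup.normalizer (Subgroup.zpowers x : Set G)) :
    g * x * g⁻¹ = x ∨ g * x * g⁻¹ = x ^ 2 ∨ g * x * g⁻¹ = x ^ 3 ∨ g * x * g⁻¹ = x ^ 4 :=
  mem_zpowers_five h5 ((Subgroup.mem_normalizer_iff.mp hg x).mp (Subgroup.mem_zpowers x))
    (fun k => by rw [conj_eq_one_iff] at k; rw [k, orderOf_one] at h5; norm_num at h5)

theorem eq_zpowers_of_card_five {G : Type u} [Group G] [Finite G] {W : Subgroup G}
    (hW : Nat.card ↥W = 5) {w : G} (hw : w ∈ W) (hw1 : w ≠ 1) :
    Subgroup.zpowers w = W ∧ orderOf w = 5 := by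
  have ho : orderOf w = 5 := ((Nat.dvd_prime (by decide)).mp
    (hW ▸ Subgroup.orderOf_dvd_natCard W hw)).resolve_left fun k => hw1 (orderOf_eq_one_iff.mp k)
  exact ⟨Subgroup.eq_of_le_of_card_ge (Subgroup.zpowers_le.mpr hw)
    (by rw [hW, Nat.card_zpowers, ho]), ho⟩

theorem map_conj_comp {G : Type u} [Group G] (W : Subgroup G) (g h : G) :
    (W.map (MulAut.conj h).toMonoidHom).map (MulAut.conj g).toMonoidHom =
      W.map (MulAut.conj (g * h)).toMonoidHom := by
  rw [Subgroup.map_map]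
  congr 1
  ext y
  show g * (h * y * h⁻¹) * g⁻¹ = g * h * y * (g * h)⁻¹
  group

theorem map_conj_one {G : Type u} [Group G] (W : Subgroup G) :
    W.map (MulAut.conj (1 : G)).toMonoidHom = W := by
  ext y
  simp

/-- A group of order `p²` that is not cyclic has six subgroups of order five. -/
theorem card_lines {G : Type u} [Group G] [Finite G] {P : Subgroup G} (hP : Nat.card ↥P = 25)
    (hexp : ∀ p ∈ P, p ^ 5 = 1) :
    Nat.card {W : Subgroup G // W ≤ P ∧ Nat.card ↥W = 5} = 6 := by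
  classical
  haveI : Fact (Nat.Prime 5) := ⟨by decide⟩
  let T := {W : Subgroup G // W ≤ P ∧ Nat.card ↥W = 5}
  have hline : ∀ p : {p : ↥P // ¬ (p : G) = 1},
      Subgroup.zpowers ((p : ↥P) : G) ≤ P ∧ Nat.card ↥(Subgroup.zpowers ((p : ↥P) : G)) = 5 :=
    fun p => ⟨Subgroup.zpowers_le.mpr p.1.2, by
      rw [Nat.card_zpowers]; exact orderOf_eq_prime (hexp _ p.1.2) p.2⟩
  let f : {p : ↥P // ¬ (p : G) = 1} → T := fun p => ⟨_, hline p⟩
  haveI : Fintype T := Fintype.ofFinite T
  have hfib : ∀ W : T, Nat.card {p : {p : ↥P // ¬ (p : G) = 1} // f p = W} = 4 := by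
    intro W
    have h := Nat.card_congr (Equiv.sumCompl fun w : ↥(W.1) => (w : G) = 1)
    rw [Nat.card_sum, W.2.2] at h
    have h1 : Nat.card {w : ↥(W.1) // (w : G) = 1} = 1 :=
      Nat.card_eq_one_iff_unique.mpr ⟨⟨fun p q => Subtype.ext (Subtype.ext (p.2.trans q.2.symm))⟩,
        ⟨⟨1, rfl⟩⟩⟩
    have h2 : Nat.card {w : ↥(W.1) // ¬ (w : G) = 1} =
        Nat.card {p : {p : ↥P // ¬ (p : G) = 1} // f p = W} :=
      Nat.card_congr
        { toFun := fun w => ⟨⟨⟨w.1, W.2.1 w.1.2⟩, w.2⟩,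
            Subtype.ext (eq_zpowers_of_card_five W.2.2 w.1.2 w.2).1⟩
          invFun := fun p => ⟨⟨((p.1 : ↥P) : G), by
            have h := congrArg Subtype.val p.2
            exact h ▸ Subgroup.mem_zpowers _⟩, p.1.2⟩
          left_inv := fun _ => rfl
          right_inv := fun _ => rfl }
    omega
  have h24 : Nat.card {p : ↥P // ¬ (p : G) = 1} = 24 := by
    have h := Nat.card_congr (Equiv.sumCompl fun w : ↥P => (w : G) = 1)
    rw [Nat.card_sum, hP] at h
    have h1 : Nat.card {w : ↥P // (w : G) = 1} = 1 :=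
      Nat.card_eq_one_iff_unique.mpr ⟨⟨fun p q => Subtype.ext (Subtype.ext (p.2.trans q.2.symm))⟩,
        ⟨⟨1, rfl⟩⟩⟩
    omega
  have h := Nat.card_congr (Equiv.sigmaFiberEquiv f)
  rw [Nat.card_sigma, h24, Finset.sum_congr rfl (fun W _ => hfib W), Finset.sum_const, Finset.card_univ,
    ← Nat.card_eq_fintype_card, smul_eq_mul] at h
  change Nat.card T = 6
  omega

namespace Setup.Local.Factor

variable {G : Type u} [Group G] {S : Setup G} [Finite G] {a : G} {L : Setup.Local S a}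
  (K : Setup.Local.Factor L) {x : G}

/-- An element normalising `⟨x⟩` centralises or inverts `x`. -/
theorem norm_five (hx : x ∈ K.B) (h5 : orderOf x = 5) {g : G}
    (hg : g ∈ Subgroup.normalizer (Subgroup.zpowers x : Set G)) :
    g * x * g⁻¹ = x ∨ g * x * g⁻¹ = x⁻¹ := by
  haveI : Fact (Nat.Prime 2) := ⟨Nat.prime_two⟩
  obtain ⟨e⟩ := K.nonempty_iso
  set M : Subgroup G := Subgroup.centralizer ({x} : Set G) with hM
  have hM300 := (K.cent_five_data hx h5).1
  have hTM : L.T ≤ M := fun t ht => mem_cent.mpr (K.T_comm ht hx)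
  have hTs : Nat.card ↥(L.T.subgroupOf M) = 2 ^ ((Nat.card ↥M).factorization 2) := by
    rw [Nat.card_congr (Subgroup.subgroupOfEquivOfLe hTM).toEquiv, L.card_T, hM300,
      Nat.factorization_def _ Nat.prime_two, show (300 : ℕ) = 2 ^ 2 * 75 by norm_num,
      padicValNat.mul (by norm_num) (by norm_num), padicValNat.prime_pow,
      padicValNat.eq_zero_of_not_dvd (by norm_num : ¬ 2 ∣ 75)]
    norm_num
  -- `g T g⁻¹` is another Sylow 2-subgroup of `C(x)`
  have hgM : ∀ y : G, y ∈ M → g * y * g⁻¹ ∈ M := by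
    intro y hy
    obtain ⟨k, hk⟩ := Subgroup.mem_zpowers_iff.mp
      ((Subgroup.mem_normalizer_iff.mp (inv_mem hg) x).mp (Subgroup.mem_zpowers x))
    have hyk : Commute y (g⁻¹ * x * g) := by
      rw [show g⁻¹ * x * g = g⁻¹ * x * g⁻¹⁻¹ by group, ← hk]
      exact (show Commute y x from mem_cent.mp hy).zpow_right k
    refine mem_cent.mpr ?_
    calc g * y * g⁻¹ * x = g * (y * (g⁻¹ * x * g)) * g⁻¹ := by group
      _ = g * ((g⁻¹ * x * g) * y) * g⁻¹ := by rw [hyk.eq]
      _ = x * (g * y * g⁻¹) := by group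
  have hle : L.T.map (MulAut.conj g).toMonoidHom ≤ M := by
    rintro _ ⟨t, ht, rfl⟩; exact hgM t (hTM ht)
  have hTs' : Nat.card ↥((L.T.map (MulAut.conj g).toMonoidHom).subgroupOf M) =
      2 ^ ((Nat.card ↥M).factorization 2) := by
    rw [← hTs, Nat.card_congr (Subgroup.subgroupOfEquivOfLe hle).toEquiv,
      Nat.card_congr (Subgroup.subgroupOfEquivOfLe hTM).toEquiv,
      Subgroup.card_map_of_injective (MulAut.conj g).injective]
  obtain ⟨c, hc⟩ := MulAction.exists_smul_eq ↥M (Sylow.ofCard _ hTs') (Sylow.ofCard _ hTs)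
  have hkey : ∀ t ∈ L.T, (c : G) * g * t * ((c : G) * g)⁻¹ ∈ L.T := by
    intro t ht
    have h : c * (⟨g * t * g⁻¹, hgM t (hTM ht)⟩ : ↥M) * c⁻¹ ∈
        ((c • Sylow.ofCard _ hTs' : Sylow 2 ↥M) : Subgroup ↥M) := by
      rw [Sylow.coe_subgroup_smul]
      exact ⟨_, ⟨t, ht, rfl⟩, rfl⟩
    rw [hc] at h
    have h' : (c : G) * (g * t * g⁻¹) * (c : G)⁻¹ ∈ L.T := h
    rwa [show (c : G) * g * t * ((c : G) * g)⁻¹ = c * (g * t * g⁻¹) * (c : G)⁻¹ by group]
  have hcN : (c : G) * g ∈ Subgroup.normalizer (L.T : Set G) := by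
    have hle' : L.T.map (MulAut.conj ((c : G) * g)).toMonoidHom ≤ L.T := by
      rintro _ ⟨t, ht, rfl⟩; exact hkey t ht
    have heq := Subgroup.eq_of_le_of_card_ge hle'
      (le_of_eq (Subgroup.card_map_of_injective (MulAut.conj ((c : G) * g)).injective).symm)
    refine Subgroup.mem_normalizer_iff.mpr fun t => ⟨hkey t, fun h => ?_⟩
    rw [← heq] at h
    obtain ⟨t', ht', e'⟩ := h
    have e'' : (c : G) * g * t' * ((c : G) * g)⁻¹ = c * g * t * ((c : G) * g)⁻¹ := e'
    rwa [← mul_left_cancel (mul_right_cancel e'')]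
  -- inside `N(T) = A × B`
  obtain ⟨b, hb, hbact⟩ := K.normalizer_data.2 _ hcN
  have hgx : (c : G) * g * x * ((c : G) * g)⁻¹ = g * x * g⁻¹ := by
    have hcc : (c : G) * x = x * c := mem_cent.mp c.2
    obtain ⟨k, hk⟩ := Subgroup.mem_zpowers_iff.mp
      ((Subgroup.mem_normalizer_iff.mp hg x).mp (Subgroup.mem_zpowers x))
    calc (c : G) * g * x * ((c : G) * g)⁻¹ = c * (g * x * g⁻¹) * (c : G)⁻¹ := by group
      _ = g * x * g⁻¹ := by
        rw [← hk, ((show Commute (c : G) x from hcc).zpow_right k).eq, mul_inv_cancel_right]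
  have hh : e ⟨x, hx⟩ ^ 5 = 1 ∧ e ⟨x, hx⟩ ≠ 1 := by
    refine ⟨?_, fun k => ?_⟩
    · rw [← map_pow]
      convert map_one e using 2
      exact Subtype.ext (by show x ^ 5 = 1; rw [← h5, pow_orderOf_eq_one])
    · rw [EmbeddingLike.map_eq_one_iff] at k
      have : x = 1 := congrArg Subtype.val k
      rw [this, orderOf_one] at h5
      norm_num at h5
  have hpow : ∀ n : ℕ, g * x * g⁻¹ = x ^ n →
      e ⟨b, hb⟩ * e ⟨x, hx⟩ * (e ⟨b, hb⟩)⁻¹ = e ⟨x, hx⟩ ^ n := by
    intro n hn
    rw [← map_inv, ← map_mul, ← map_mul, ← map_pow]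
    exact congrArg e (Subtype.ext (((hbact x hx).symm.trans (hgx.trans hn))))
  rcases five_norm_zpowers h5 hg with h | h | h | h
  · exact .inl h
  · exact (five_conj_pm _ hh _ (.inl (hpow 2 h))).elim
  · exact (five_conj_pm _ hh _ (.inr (hpow 3 h))).elim
  · right
    rw [h]
    exact eq_inv_of_mul_eq_one_left ((pow_succ x 4).symm.trans (h5 ▸ pow_orderOf_eq_one x :))

/-- An element of `B` inverting `x`. -/
theorem exists_inverter (hx : x ∈ K.B) (h5 : orderOf x = 5) : ∃ w ∈ K.B, w * x * w⁻¹ = x⁻¹ := by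
  obtain ⟨e⟩ := K.nonempty_iso
  have hh : e ⟨x, hx⟩ ^ 5 = 1 ∧ e ⟨x, hx⟩ ≠ 1 := by
    refine ⟨?_, fun k => ?_⟩
    · rw [← map_pow]
      convert map_one e using 2
      exact Subtype.ext (by show x ^ 5 = 1; rw [← h5, pow_orderOf_eq_one])
    · rw [EmbeddingLike.map_eq_one_iff] at k
      have : x = 1 := congrArg Subtype.val k
      rw [this, orderOf_one] at h5
      norm_num at h5
  obtain ⟨w, hw⟩ := five_inverter _ hh
  obtain ⟨b, rfl⟩ := e.surjective w
  rw [← map_inv, ← map_inv, ← map_mul, ← map_mul] at hw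
  exact ⟨b, b.2, congrArg Subtype.val (e.injective hw)⟩

set_option maxHeartbeats 1600000 in
/-- The Sylow 5-subgroups through `x`. -/
theorem sylow_five_data (hx : x ∈ K.B) (h5 : orderOf x = 5) (P : Sylow 5 G)
    (hxP : x ∈ (P : Subgroup G)) :
    (∀ g : G, (∀ p ∈ (P : Subgroup G), g * p = p * g) → g ∈ (P : Subgroup G)) ∧
      Nat.card ↥(P : Subgroup G) = 25 ∧
      Nat.card ↥(Subgroup.normalizer ((P : Subgroup G) : Set G)) = 300 ∧
      ∃ Y : Subgroup G, Nat.card ↥Y = 5 ∧
        (∀ g : G, (Subgroup.zpowers x).map (MulAut.conj g).toMonoidHom ≠ Y) ∧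
        ∀ W : Subgroup G, Nat.card ↥W = 5 → ∃ g : G,
          W.map (MulAut.conj g).toMonoidHom = Subgroup.zpowers x ∨
            W.map (MulAut.conj g).toMonoidHom = Y := by
  classical
  haveI : Fact (Nat.Prime 2) := ⟨Nat.prime_two⟩
  haveI : Fact (Nat.Prime 3) := ⟨Nat.prime_three⟩
  haveI : Fact (Nat.Prime 5) := ⟨by decide⟩
  obtain ⟨hM300, hMinv, hMnorm⟩ := K.cent_five_data hx h5
  set M : Subgroup G := Subgroup.centralizer ({x} : Set G) with hM
  set Pg : Subgroup G := (P : Subgroup G) with hPg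
  set X : Subgroup G := Subgroup.zpowers x with hX
  have hX5 : Nat.card ↥X = 5 := by rw [hX, Nat.card_zpowers, h5]
  have hP25 : Nat.card ↥Pg = 5 ^ 2 := by
    rw [hPg, Sylow.card_eq_multiplicity, S.card_group, Nat.factorization_def _ (by norm_num : Nat.Prime 5),
      show (604800 : ℕ) = 5 ^ 2 * 24192 by norm_num, padicValNat.mul (by norm_num) (by norm_num),
      padicValNat.prime_pow, padicValNat.eq_zero_of_not_dvd (by norm_num : ¬ 5 ∣ 24192)]
  have hPc := IsPGroup.isMulCommutative_of_card_eq_prime_sq hP25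
  have hcomm : ∀ p ∈ Pg, ∀ q ∈ Pg, p * q = q * p := fun p hp q hq =>
    congrArg Subtype.val (hPc.is_comm.comm (⟨p, hp⟩ : ↥Pg) ⟨q, hq⟩)
  have hPM : Pg ≤ M := fun p hp => mem_cent.mpr (hcomm p hp x hxP)
  have hM50 := hMnorm Pg hPM (by rw [hP25]; norm_num)
  -- `C(P) = P`
  have hself : ∀ g : G, (∀ p ∈ Pg, g * p = p * g) → g ∈ Pg := by
    set Cp : Subgroup G := Subgroup.centralizer (Pg : Set G) with hCp
    have hCM : Cp ≤ M ⊓ Subgroup.normalizer (Pg : Set G) := fun g hg =>
      ⟨mem_cent.mpr (Subgroup.mem_centralizer_iff.mp hg x hxP).symm,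
        Subgroup.centralizer_le_normalizer _ hg⟩
    have hPC : Pg ≤ Cp := fun p hp => Subgroup.mem_centralizer_iff.mpr fun q hq => hcomm q hq p hp
    have h2 : ¬ 2 ∣ Nat.card ↥Cp := by
      intro h
      obtain ⟨j, hj⟩ := exists_prime_orderOf_dvd_card' (G := ↥Cp) 2 h
      rw [← Subgroup.orderOf_coe] at hj
      obtain ⟨g, hg⟩ := isConj_iff.mp
        (hMinv j (inv_iff_orderOf.mpr hj) (mem_cent.mp (hCM j.2).1))
      -- `C(a)` would contain a subgroup of order 25
      have hle : Nat.card ↥Pg ∣ Nat.card ↥(Subgroup.centralizer ({a} : Set G)) := by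
        refine Subgroup.card_dvd_of_injective
          (MonoidHom.mk' (fun p : ↥Pg => (⟨g⁻¹ * p * g, mem_cent.mpr ?_⟩ :
            ↥(Subgroup.centralizer ({a} : Set G)))) fun p q => Subtype.ext (by
              show g⁻¹ * ((p : G) * q) * g = g⁻¹ * p * g * (g⁻¹ * q * g); group))
          fun p q k => Subtype.ext (mul_left_cancel (mul_right_cancel (congrArg Subtype.val k :)))
        have hjp : (j : G) * p = p * j := (Subgroup.mem_centralizer_iff.mp j.2 p p.2).symm
        calc g⁻¹ * (p : G) * g * a = g⁻¹ * ((p : G) * (g * a * g⁻¹)) * g := by group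
          _ = g⁻¹ * ((j : G) * p) * g := by rw [hjp]; exact congrArg (fun w => g⁻¹ * ((p : G) * w) * g) hg
          _ = g⁻¹ * (g * a * g⁻¹ * p) * g :=
              congrArg (fun w => g⁻¹ * (w * (p : G)) * g) hg.symm
          _ = a * (g⁻¹ * p * g) := by group
      rw [hP25, K.card_D] at hle
      norm_num at hle
    have hdvd : Nat.card ↥Cp ∣ 50 := hM50 ▸ Subgroup.card_dvd_of_le hCM
    have h25 : 25 ∣ Nat.card ↥Cp := by
      have := Subgroup.card_dvd_of_le hPC
      rwa [hP25] at this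
    have heq : Pg = Cp := Subgroup.eq_of_le_of_card_ge hPC (by
      rw [hP25]
      have := Nat.le_of_dvd (by norm_num) hdvd
      have hpos : 0 < Nat.card ↥Cp := Nat.card_pos
      omega)
    intro g hg
    rw [heq]
    exact Subgroup.mem_centralizer_iff.mpr fun p hp => (hg p hp).symm
  -- the subgroup `N(P) ∩ N(X)` has order 100
  set N : Subgroup G := Subgroup.normalizer (Pg : Set G) with hN
  set NX : Subgroup G := N ⊓ Subgroup.normalizer (X : Set G) with hNX
  obtain ⟨i, hiN, hix⟩ : ∃ i ∈ N, i * x * i⁻¹ = x⁻¹ := by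
    obtain ⟨w, -, hwx⟩ := K.exists_inverter hx h5
    have hwM : ∀ y ∈ M, w * y * w⁻¹ ∈ M := by
      intro y hy
      have h1 : w * x⁻¹ * w⁻¹ = x := by
        rw [show w * x⁻¹ * w⁻¹ = (w * x * w⁻¹)⁻¹ by group, hwx, inv_inv]
      refine mem_cent.mpr ?_
      have hy' : y * x⁻¹ = x⁻¹ * y := (show Commute y x from mem_cent.mp hy).inv_right.eq
      calc w * y * w⁻¹ * x = w * y * w⁻¹ * (w * x⁻¹ * w⁻¹) := by rw [h1]
        _ = w * (y * x⁻¹) * w⁻¹ := by group
        _ = w * (x⁻¹ * y) * w⁻¹ := by rw [hy']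
        _ = (w * x⁻¹ * w⁻¹) * (w * y * w⁻¹) := by group
        _ = x * (w * y * w⁻¹) := by rw [h1]
    have hfac : (Nat.card ↥M).factorization 5 = 2 := by
      rw [hM300, Nat.factorization_def _ (by norm_num : Nat.Prime 5),
        show (300 : ℕ) = 5 ^ 2 * 12 by norm_num, padicValNat.mul (by norm_num) (by norm_num),
        padicValNat.prime_pow, padicValNat.eq_zero_of_not_dvd (by norm_num : ¬ 5 ∣ 12)]
    have hle : Pg.map (MulAut.conj w).toMonoidHom ≤ M := by
      rintro _ ⟨p, hp, rfl⟩; exact hwM p (hPM hp)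
    let P₁ : Sylow 5 ↥M := Sylow.ofCard ((Pg.map (MulAut.conj w).toMonoidHom).subgroupOf M) (by
      rw [Nat.card_congr (Subgroup.subgroupOfEquivOfLe hle).toEquiv,
        Subgroup.card_map_of_injective (MulAut.conj w).injective, hP25, hfac])
    let P₂ : Sylow 5 ↥M := Sylow.ofCard (Pg.subgroupOf M) (by
      rw [Nat.card_congr (Subgroup.subgroupOfEquivOfLe hPM).toEquiv, hP25, hfac])
    obtain ⟨c, hc⟩ := MulAction.exists_smul_eq ↥M P₁ P₂
    have hkey : ∀ p ∈ Pg, (c : G) * w * p * ((c : G) * w)⁻¹ ∈ Pg := by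
      intro p hp
      have h : c * (⟨w * p * w⁻¹, hwM p (hPM hp)⟩ : ↥M) * c⁻¹ ∈
          ((c • P₁ : Sylow 5 ↥M) : Subgroup ↥M) := by
        rw [Sylow.coe_subgroup_smul]
        exact ⟨_, ⟨p, hp, rfl⟩, rfl⟩
      rw [hc] at h
      have h' : (c : G) * (w * p * w⁻¹) * (c : G)⁻¹ ∈ Pg := h
      rwa [show (c : G) * w * p * ((c : G) * w)⁻¹ = c * (w * p * w⁻¹) * (c : G)⁻¹ by group]
    refine ⟨(c : G) * w, ?_, ?_⟩
    · have hle' : Pg.map (MulAut.conj ((c : G) * w)).toMonoidHom ≤ Pg := by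
        rintro _ ⟨p, hp, rfl⟩; exact hkey p hp
      have heq := Subgroup.eq_of_le_of_card_ge hle'
        (le_of_eq (Subgroup.card_map_of_injective (MulAut.conj ((c : G) * w)).injective).symm)
      refine Subgroup.mem_normalizer_iff.mpr fun p => ⟨hkey p, fun h => ?_⟩
      rw [← heq] at h
      obtain ⟨p', hp', e'⟩ := h
      have e'' : (c : G) * w * p' * ((c : G) * w)⁻¹ = c * w * p * ((c : G) * w)⁻¹ := e'
      rwa [← mul_left_cancel (mul_right_cancel e'')]
    · have hcx : (c : G) * x⁻¹ = x⁻¹ * c := (show Commute (c : G) x from mem_cent.mp c.2).inv_right.eq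
      calc (c : G) * w * x * ((c : G) * w)⁻¹ = (c : G) * (w * x * w⁻¹) * (c : G)⁻¹ := by group
        _ = x⁻¹ := by rw [hwx, hcx, mul_inv_cancel_right]
  have hMNX : M ⊓ Subgroup.normalizer (Pg : Set G) ≤ NX := fun y hy => by
    refine Subgroup.mem_inf.mpr ⟨hy.2, Subgroup.centralizer_le_normalizer _ ?_⟩
    rw [hX, Subgroup.zpowers_eq_closure, Subgroup.centralizer_closure]
    exact hy.1
  have hNX100 : Nat.card ↥NX = 100 := by
    have ho := card_orbit_mul NX x
    have hset : Nat.card {v : G // ∃ h ∈ NX, h * x * h⁻¹ = v} = 2 := by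
      have hiX : i ∈ NX := by
        have key : ∀ y ∈ X, i * y * i⁻¹ ∈ X := fun y hy => by
          obtain ⟨k, rfl⟩ := Subgroup.mem_zpowers_iff.mp hy
          rw [← conj_zpow, hix]
          exact zpow_mem (inv_mem (Subgroup.mem_zpowers x)) k
        refine Subgroup.mem_inf.mpr ⟨hiN, ?_⟩
        have heq : X.map (MulAut.conj i).toMonoidHom = X := by
          refine Subgroup.eq_of_le_of_card_ge ?_
            (le_of_eq (Subgroup.card_map_of_injective (MulAut.conj i).injective).symm)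
          rintro _ ⟨y, hy, rfl⟩; exact key y hy
        refine Subgroup.mem_normalizer_iff.mpr fun y => ⟨key y, fun h => ?_⟩
        rw [← heq] at h
        obtain ⟨y', hy', e'⟩ := h
        have e'' : i * y' * i⁻¹ = i * y * i⁻¹ := e'
        rwa [← mul_left_cancel (mul_right_cancel e'')]
      refine Nat.card_eq_two_iff.mpr ⟨⟨x, 1, one_mem _, by simp⟩, ⟨x⁻¹, i, hiX, hix⟩, ?_, ?_⟩
      · intro k
        have e : x = x⁻¹ := congrArg Subtype.val k
        have h2 : x ^ 2 = 1 := by rw [pow_two]; exact mul_eq_one_iff_eq_inv.mpr e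
        have := orderOf_dvd_of_pow_eq_one h2
        rw [h5] at this
        norm_num at this
      · refine Set.eq_univ_iff_forall.mpr fun v => ?_
        obtain ⟨g, hg, e⟩ := v.2
        rcases K.norm_five hx h5 hg.2 with k | k
        · exact .inl (Subtype.ext (e.symm.trans k))
        · exact .inr (Set.mem_singleton_iff.mpr (Subtype.ext (e.symm.trans k)))
    have heq : (NX ⊓ M : Subgroup G) = M ⊓ Subgroup.normalizer (Pg : Set G) :=
      le_antisymm (fun y hy => ⟨hy.2, hy.1.1⟩) fun y hy => ⟨hMNX hy, hy.1⟩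
    rw [hset, heq, hM50] at ho
    omega
  -- the `N(P)`-orbit of `X`
  have horb := card_orbit_subgroup_mul N X
  rw [show Nat.card ↥(N ⊓ Subgroup.normalizer (X : Set G) : Subgroup G) = 100 from hNX100] at horb
  obtain ⟨Y₀, hY₀⟩ : ∃ y : G, y ∈ S.C ∧ orderOf y = 5 := S.exists_five
  obtain ⟨gY, hgY⟩ : ∃ g : G, g * Y₀ * g⁻¹ ∈ Pg := by
    obtain ⟨R, hR⟩ := (IsPGroup.of_card (n := 1) (by rw [Nat.card_zpowers, hY₀.2, pow_one]) :
      IsPGroup 5 ↥(Subgroup.zpowers Y₀)).exists_le_sylow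
    obtain ⟨g, hg⟩ := MulAction.exists_smul_eq G R P
    refine ⟨g, ?_⟩
    rw [hPg, ← hg, Sylow.coe_subgroup_smul]
    exact ⟨Y₀, hR (Subgroup.mem_zpowers _), rfl⟩
  set Y : Subgroup G := Subgroup.zpowers (gY * Y₀ * gY⁻¹) with hY
  have hY5 : orderOf (gY * Y₀ * gY⁻¹) = 5 := by
    rw [← MulAut.conj_apply, MulEquiv.orderOf_eq]; exact hY₀.2
  -- `X` and `Y` are not conjugate
  have hXY : ∀ g : G, X.map (MulAut.conj g).toMonoidHom ≠ Y := by
    intro g hg
    obtain ⟨y, hy, e⟩ : gY * Y₀ * gY⁻¹ ∈ X.map (MulAut.conj g).toMonoidHom := hg ▸ Subgroup.mem_zpowers _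
    have e' : g * y * g⁻¹ = gY * Y₀ * gY⁻¹ := e
    have hXy : X = Subgroup.zpowers y := by
      refine (eq_zpowers_of_card_five hX5 hy fun k => ?_).1.symm
      rw [k, mul_one, mul_inv_cancel] at e'
      rw [← e', orderOf_one] at hY5
      norm_num at hY5
    set j := (gY⁻¹ * g)⁻¹ * S.z * (gY⁻¹ * g) with hj
    have hjy : Commute j y := by
      have hz : S.z * Y₀ = Y₀ * S.z := (S.z_comm hY₀.1).symm
      have ey : y = (gY⁻¹ * g)⁻¹ * Y₀ * (gY⁻¹ * g) := by
        calc y = g⁻¹ * (g * y * g⁻¹) * g := by group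
          _ = _ := by rw [e']; group
      show j * y = y * j
      rw [hj, ey]
      calc _ = (gY⁻¹ * g)⁻¹ * (S.z * Y₀) * (gY⁻¹ * g) := by group
        _ = (gY⁻¹ * g)⁻¹ * (Y₀ * S.z) * (gY⁻¹ * g) := by rw [hz]
        _ = _ := by group
    obtain ⟨k, hk⟩ := Subgroup.mem_zpowers_iff.mp (hXy ▸ Subgroup.mem_zpowers x : x ∈ Subgroup.zpowers y)
    have hjx : j * x = x * j := hk ▸ (hjy.zpow_right k).eq
    have hji : IsConj S.z j := isConj_iff.mpr ⟨(gY⁻¹ * g)⁻¹, by rw [hj, inv_inv]⟩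
    exact S.not_conj_outside L.outside (hji.trans (hMinv j (conj_inv_iff hji S.inv_z) hjx).symm)
  have hexp : ∀ p ∈ Pg, p ^ 5 = 1 := by
    by_contra hex
    push Not at hex
    obtain ⟨p, hp, hp5⟩ := hex
    have ho : orderOf p = 25 := by
      have h := Subgroup.orderOf_dvd_natCard Pg hp
      rw [hP25] at h
      obtain ⟨k, hk, e⟩ := (Nat.dvd_prime_pow (by decide)).mp h
      interval_cases k
      · rw [pow_zero] at e; exact absurd (by rw [orderOf_eq_one_iff.mp e, one_pow]) hp5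
      · rw [pow_one] at e; exact absurd (e ▸ pow_orderOf_eq_one p) hp5
      · rw [e]; norm_num
    have hPz : Subgroup.zpowers p = Pg := Subgroup.eq_of_le_of_card_ge (Subgroup.zpowers_le.mpr hp)
      (by rw [hP25, Nat.card_zpowers, ho]; norm_num)
    -- a cyclic group has one subgroup of order five
    have key : ∀ q ∈ Pg, q ^ 5 = 1 → q ∈ Subgroup.zpowers (p ^ 5) := by
      intro q hq hq5
      obtain ⟨k, hk⟩ := mem_powers_iff_mem_zpowers.mpr (hPz.symm ▸ hq : q ∈ Subgroup.zpowers p)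
      have hk' : p ^ k = q := hk
      have h25 : 25 ∣ k * 5 := ho ▸ orderOf_dvd_of_pow_eq_one (by rw [pow_mul, hk', hq5])
      obtain ⟨j, rfl⟩ : 5 ∣ k := by omega
      rw [← hk', pow_mul]
      exact Subgroup.npow_mem_zpowers _ _
    have hx' := key x hxP (h5 ▸ pow_orderOf_eq_one x)
    have hy' := key _ hgY (hY5 ▸ pow_orderOf_eq_one _)
    have ho5 : Nat.card ↥(Subgroup.zpowers (p ^ 5)) = 5 := by
      rw [Nat.card_zpowers, orderOf_pow' _ (by norm_num), ho]; norm_num
    refine hXY 1 ?_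
    rw [map_conj_one, hX, hY, (eq_zpowers_of_card_five ho5 hx' (fun k => by rw [k, orderOf_one] at h5; norm_num at h5)).1,
      (eq_zpowers_of_card_five ho5 hy' (fun k => by rw [k, orderOf_one] at hY5; norm_num at hY5)).1]
  set T := {W : Subgroup G // W ≤ Pg ∧ Nat.card ↥W = 5} with hT
  have hT6 : Nat.card T = 6 := card_lines (by rw [hP25]; norm_num) hexp
  have hconjT : ∀ h ∈ N, ∀ W : T, (W : Subgroup G).map (MulAut.conj h).toMonoidHom ≤ Pg ∧
      Nat.card ↥((W : Subgroup G).map (MulAut.conj h).toMonoidHom) = 5 := fun h hh W => by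
    refine ⟨?_, by rw [Subgroup.card_map_of_injective (MulAut.conj h).injective, W.2.2]⟩
    rintro _ ⟨w, hw, rfl⟩
    exact (Subgroup.mem_normalizer_iff.mp hh w).mp (W.2.1 hw)
  have hk6 : Nat.card {V : Subgroup G // ∃ h ∈ N, X.map (MulAut.conj h).toMonoidHom = V} ≤ 6 := by
    rw [← hT6]
    refine Nat.card_le_card_of_injective (fun V => (⟨V.1, ?_⟩ : T)) fun V V' k =>
      Subtype.ext (congrArg Subtype.val k :)
    obtain ⟨h, hh, e⟩ := V.2
    exact e ▸ hconjT h hh ⟨X, Subgroup.zpowers_le.mpr hxP, hX5⟩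
  have hidx : Nat.card (Sylow 5 G) = N.index := Sylow.card_eq_index_normalizer P
  have hlag := Subgroup.index_mul_card N
  rw [← hidx, S.card_group] at hlag
  have hmod : Nat.card (Sylow 5 G) % 5 = 1 := card_sylow_modEq_one 5 G
  have h300 : Nat.card ↥N = 300 := by
    set k := Nat.card {V : Subgroup G // ∃ h ∈ N, X.map (MulAut.conj h).toMonoidHom = V} with hk
    have hkpos : 0 < k := by
      haveI : Nonempty {V : Subgroup G // ∃ h ∈ N, X.map (MulAut.conj h).toMonoidHom = V} :=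
        ⟨⟨X, 1, one_mem _, map_conj_one X⟩⟩
      exact Nat.card_pos
    rw [← horb] at hlag ⊢
    interval_cases k <;> omega
  refine ⟨hself, by rw [hP25]; norm_num, h300, Y, by rw [hY, Nat.card_zpowers, hY5], hXY, ?_⟩
  -- an element of order three of `N(P)` fixes no subgroup of order five
  obtain ⟨r', hr'⟩ := exists_prime_orderOf_dvd_card' (G := ↥N) 3 (by rw [h300]; norm_num)
  rw [← Subgroup.orderOf_coe] at hr'
  set r : G := (r' : G) with hrdef
  have hrN : r ∈ N := r'.2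
  have hr3 : r ^ 3 = 1 := hr' ▸ pow_orderOf_eq_one r
  let σ : Equiv.Perm T := Equiv.ofBijective
    (fun W => (⟨(W : Subgroup G).map (MulAut.conj r).toMonoidHom, hconjT r hrN W⟩ : T))
    (Finite.injective_iff_bijective.mp fun W W' k => Subtype.ext
      (Subgroup.map_injective (f := (MulAut.conj r).toMonoidHom) (MulAut.conj r).injective
        (congrArg Subtype.val k :)))
  have hσ : ∀ W : T, ((σ W : T) : Subgroup G) = (W : Subgroup G).map (MulAut.conj r).toMonoidHom :=
    fun W => rfl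
  -- a fixed line is centralised by `r`
  have hfixcomm : ∀ W : T, σ W = W → ∀ w ∈ (W : Subgroup G), r * w * r⁻¹ = w := by
    intro W hW w hw
    by_cases hw1 : w = 1
    · rw [hw1, mul_one, mul_inv_cancel]
    obtain ⟨hwW, ho⟩ := eq_zpowers_of_card_five W.2.2 hw hw1
    have hmem : r * w * r⁻¹ ∈ Subgroup.zpowers w := by
      rw [hwW, ← congrArg Subtype.val hW]; exact ⟨w, hw, rfl⟩
    obtain ⟨n, hn⟩ := mem_powers_iff_mem_zpowers.mpr hmem
    have hn' : w ^ n = r * w * r⁻¹ := hn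
    have h3 : w ^ (n * n * n) = w := by
      calc w ^ (n * n * n) = ((w ^ n) ^ n) ^ n := by rw [← pow_mul, ← pow_mul, mul_assoc]
        _ = r * (r * (r * w * r⁻¹) * r⁻¹) * r⁻¹ := by
            rw [hn', conj_pow, hn', conj_pow, conj_pow, hn']
        _ = r ^ 3 * w * (r ^ 3)⁻¹ := by simp only [pow_succ, pow_zero, one_mul]; group
        _ = w := by rw [hr3, one_mul, inv_one, mul_one]
    have h3' : (n * n * n) % 5 = 1 := by
      have h := pow_mod_orderOf w (n * n * n)
      rw [h3, ho] at h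
      have h1 : w ^ (n * n * n % 5) = w ^ 1 := by rw [pow_one, h]
      exact pow_injOn_Iio_orderOf (by rw [Set.mem_Iio, ho]; exact Nat.mod_lt _ (by norm_num))
        (by rw [Set.mem_Iio, ho]; norm_num) h1
    have hn5 : n % 5 = 1 := by
      rw [Nat.mul_mod, Nat.mul_mod n n] at h3'
      have hlt : n % 5 < 5 := Nat.mod_lt _ (by norm_num)
      generalize n % 5 = m at h3' hlt ⊢
      interval_cases m <;> omega
    rw [← hn', ← pow_mod_orderOf, ho, hn5, pow_one]
  -- so it fixes at most one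
  have hfix1 : ∀ W W' : T, σ W = W → σ W' = W' → W = W' := by
    intro W W' hW hW'
    by_contra hne
    have hdisj : (W : Subgroup G) ⊓ (W' : Subgroup G) = ⊥ := (Subgroup.eq_bot_iff_forall _).mpr fun w hw => by
      by_contra hw1
      exact hne (Subtype.ext ((eq_zpowers_of_card_five W.2.2 hw.1 hw1).1.symm.trans
        (eq_zpowers_of_card_five W'.2.2 hw.2 hw1).1))
    let f : ↥(W : Subgroup G) × ↥(W' : Subgroup G) → ↥Pg :=
      fun p => ⟨(p.1 : G) * p.2, mul_mem (W.2.1 p.1.2) (W'.2.1 p.2.2)⟩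
    have hf : Function.Bijective f := by
      refine (Nat.bijective_iff_injective_and_card f).mpr ⟨fun p q k => ?_, ?_⟩
      · have k' : (p.1 : G) * p.2 = q.1 * q.2 := congrArg Subtype.val k
        have h1 : (q.1 : G)⁻¹ * p.1 = (q.2 : G) * (p.2 : G)⁻¹ := by
          calc (q.1 : G)⁻¹ * p.1 = (q.1 : G)⁻¹ * (p.1 * p.2) * (p.2 : G)⁻¹ := by group
            _ = _ := by rw [k']; group
        have h2 : (q.1 : G)⁻¹ * p.1 = 1 := Subgroup.mem_bot.mp (hdisj ▸ Subgroup.mem_inf.mpr
          ⟨mul_mem (inv_mem q.1.2) p.1.2, h1 ▸ mul_mem q.2.2 (inv_mem p.2.2)⟩)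
        rw [h2, eq_comm, mul_inv_eq_one] at h1
        exact Prod.ext (Subtype.ext (inv_mul_eq_one.mp h2).symm) (Subtype.ext h1.symm)
      · rw [Nat.card_prod, W.2.2, W'.2.2, hP25]; norm_num
    have hrP : ∀ p ∈ Pg, r * p = p * r := by
      intro p hp
      obtain ⟨⟨w, w'⟩, e⟩ := hf.2 ⟨p, hp⟩
      have e' : (w : G) * w' = p := congrArg Subtype.val e
      rw [← e']
      refine mul_inv_eq_iff_eq_mul.mp ?_
      calc r * ((w : G) * w') * r⁻¹ = (r * w * r⁻¹) * (r * w' * r⁻¹) := by group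
        _ = w * w' := by rw [hfixcomm W hW w w.2, hfixcomm W' hW' w' w'.2]
    have h := Subgroup.orderOf_dvd_natCard _ (hself r hrP)
    rw [hr', hP25] at h
    norm_num at h
  have hσ3 : σ ^ 3 = 1 := Equiv.ext fun W => Subtype.ext (by
    show (((σ ^ 3) W : T) : Subgroup G) = (W : Subgroup G)
    simp only [pow_succ, pow_zero, one_mul, Equiv.Perm.mul_apply, hσ, map_conj_comp]
    rw [show r * (r * r) = r ^ 3 by simp [pow_succ, mul_assoc], hr3, map_conj_one])
  haveI : Fintype T := Fintype.ofFinite T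
  -- fixed points are congruent to six modulo three
  have hnofix : ∀ W : T, σ W ≠ W := by
    intro W hW
    have hsup : σ.support = Finset.univ.erase W := by
      ext V
      rw [Equiv.Perm.mem_support, Finset.mem_erase]
      exact ⟨fun h => ⟨fun k => h (k ▸ hW), Finset.mem_univ _⟩, fun h k => h.1 (hfix1 V W k hW)⟩
    have h := Equiv.Perm.card_compl_support_modEq (p := 3) (n := 1) (by rw [pow_one]; exact hσ3)
    rw [hsup, Finset.card_compl, Finset.card_erase_of_mem (Finset.mem_univ _), Finset.card_univ,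
      ← Nat.card_eq_fintype_card, hT6] at h
    exact absurd h (by decide)
  -- the lines outside the orbit of `X` form one orbit of `r`
  set O := {V : Subgroup G // ∃ h ∈ N, X.map (MulAut.conj h).toMonoidHom = V} with hO
  have hO3 : Nat.card O = 3 := by omega
  have hrO : ∀ W : T, (∃ h ∈ N, X.map (MulAut.conj h).toMonoidHom = ((σ W : T) : Subgroup G)) →
      ∃ h ∈ N, X.map (MulAut.conj h).toMonoidHom = (W : Subgroup G) := by
    rintro W ⟨h, hh, e⟩
    refine ⟨r⁻¹ * h, mul_mem (inv_mem hrN) hh, ?_⟩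
    rw [← map_conj_comp, e, hσ, map_conj_comp, inv_mul_cancel, map_conj_one]
  have hYT : Y ≤ Pg ∧ Nat.card ↥Y = 5 :=
    ⟨Subgroup.zpowers_le.mpr hgY, by rw [hY, Nat.card_zpowers, hY5]⟩
  intro W hW5
  obtain ⟨w, hw⟩ := exists_prime_orderOf_dvd_card' (G := ↥W) 5 (by rw [hW5])
  rw [← Subgroup.orderOf_coe] at hw
  obtain ⟨R, hR⟩ := (IsPGroup.of_card (n := 1) (by rw [Nat.card_zpowers, hw, pow_one]) :
    IsPGroup 5 ↥(Subgroup.zpowers (w : G))).exists_le_sylow
  obtain ⟨g₁, hg₁⟩ := MulAction.exists_smul_eq G R P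
  have hWP : W.map (MulAut.conj g₁).toMonoidHom ≤ Pg := by
    rintro _ ⟨v, hv, rfl⟩
    have hwW : Subgroup.zpowers (w : G) = W :=
      (eq_zpowers_of_card_five hW5 w.2 fun k => by rw [k, orderOf_one] at hw; norm_num at hw).1
    rw [hPg, ← hg₁, Sylow.coe_subgroup_smul]
    exact ⟨v, hR (hwW.symm ▸ hv), rfl⟩
  let W₁ : T := ⟨W.map (MulAut.conj g₁).toMonoidHom, hWP, by
    rw [Subgroup.card_map_of_injective (MulAut.conj g₁).injective, hW5]⟩
  let Y₁ : T := ⟨Y, hYT⟩
  by_cases hWX : ∃ h ∈ N, X.map (MulAut.conj h).toMonoidHom = (W₁ : Subgroup G)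
  · obtain ⟨h, -, e⟩ := hWX
    refine ⟨h⁻¹ * g₁, .inl ?_⟩
    rw [← map_conj_comp, show W.map (MulAut.conj g₁).toMonoidHom = (W₁ : Subgroup G) from rfl, ← e,
      map_conj_comp, inv_mul_cancel, map_conj_one]
  · have hYX : ¬ ∃ h ∈ N, X.map (MulAut.conj h).toMonoidHom = (Y₁ : Subgroup G) :=
      fun ⟨h, _, e⟩ => hXY h e
    have hcard3 : Nat.card {V : T // ¬ ∃ h ∈ N, X.map (MulAut.conj h).toMonoidHom = (V : Subgroup G)} = 3 := by
      have h := Nat.card_congr (Equiv.sumCompl fun V : T =>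
        ∃ h ∈ N, X.map (MulAut.conj h).toMonoidHom = (V : Subgroup G))
      rw [Nat.card_sum, hT6] at h
      have h1 : Nat.card {V : T // ∃ h ∈ N, X.map (MulAut.conj h).toMonoidHom = (V : Subgroup G)} =
          Nat.card O :=
        Nat.card_congr
          { toFun := fun V => ⟨V.1.1, V.2⟩
            invFun := fun V => ⟨⟨V.1, by
              obtain ⟨h, hh, e⟩ := V.2
              exact e ▸ hconjT h hh ⟨X, Subgroup.zpowers_le.mpr hxP, hX5⟩⟩, V.2⟩
            left_inv := fun _ => rfl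
            right_inv := fun _ => rfl }
      omega
    have hσσ : ∀ V : T, σ (σ (σ V)) = V := fun V => by
      have := Equiv.ext_iff.mp hσ3 V
      simpa [pow_succ] using this
    let g3 : Fin 3 → {V : T // ¬ ∃ h ∈ N, X.map (MulAut.conj h).toMonoidHom = (V : Subgroup G)} :=
      ![⟨Y₁, hYX⟩, ⟨σ Y₁, fun k => hYX (hrO _ k)⟩, ⟨σ (σ Y₁), fun k => hYX (hrO _ (hrO _ k))⟩]
    have hg3 : Function.Bijective g3 := by
      refine (Nat.bijective_iff_injective_and_card g3).mpr ⟨?_, by rw [Nat.card_fin, hcard3]⟩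
      have e01 : σ Y₁ ≠ Y₁ := hnofix _
      have e12 : σ (σ Y₁) ≠ σ Y₁ := hnofix _
      have e02 : σ (σ Y₁) ≠ Y₁ := fun k => e01 (by
        have := hσσ Y₁
        rw [k] at this
        exact this)
      intro i j k
      have k' := congrArg Subtype.val k
      fin_cases i <;> fin_cases j <;>
        simp only [g3, Matrix.cons_val_zero, Matrix.cons_val_one, Matrix.cons_val] at k' <;>
        first
          | rfl
          | exact absurd k'.symm e01
          | exact absurd k' e01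
          | exact absurd k'.symm e12
          | exact absurd k' e12
          | exact absurd k'.symm e02
          | exact absurd k' e02
    obtain ⟨i, hi⟩ := hg3.2 ⟨W₁, hWX⟩
    have hi' := congrArg Subtype.val hi
    fin_cases i <;> simp only [g3, Matrix.cons_val_zero, Matrix.cons_val_one, Matrix.cons_val] at hi'
    · exact ⟨g₁, .inr (congrArg Subtype.val hi').symm⟩
    · refine ⟨r⁻¹ * g₁, .inr ?_⟩
      have hWe : W.map (MulAut.conj g₁).toMonoidHom = Y.map (MulAut.conj r).toMonoidHom :=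
        (congrArg Subtype.val hi').symm
      rw [← map_conj_comp, hWe, map_conj_comp, inv_mul_cancel, map_conj_one]
    · refine ⟨(r * r)⁻¹ * g₁, .inr ?_⟩
      have hWe : W.map (MulAut.conj g₁).toMonoidHom =
          (Y.map (MulAut.conj r).toMonoidHom).map (MulAut.conj r).toMonoidHom :=
        (congrArg Subtype.val hi').symm
      rw [← map_conj_comp, hWe, map_conj_comp, map_conj_comp, show (r * r)⁻¹ * r * r = 1 by group,
        map_conj_one]

end Setup.Local.Factor

/-- Sylow 5-subgroups in a group of Hall–Janko type. -/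
theorem Setup.sylow_five {G : Type u} [Group G] [Finite G] (S : Setup G) (P : Sylow 5 G) :
    Subgroup.centralizer ((P : Subgroup G) : Set G) = P ∧ Nat.card P = 25 ∧
      Nat.card (Subgroup.normalizer ((P : Subgroup G) : Set G)) = 300 ∧
      ∃ X Y : Subgroup G, Nat.card X = 5 ∧ Nat.card Y = 5 ∧
        (∀ g : G, X.map (MulAut.conj g).toMonoidHom ≠ Y) ∧
        ∀ W : Subgroup G, Nat.card W = 5 → ∃ g : G,
          W.map (MulAut.conj g).toMonoidHom = X ∨ W.map (MulAut.conj g).toMonoidHom = Y := by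
  haveI : Fact (Nat.Prime 5) := ⟨by decide⟩
  obtain ⟨a, ha⟩ := S.exists_outside
  obtain ⟨L⟩ := S.exists_local ha
  obtain ⟨K⟩ := L.exists_factor
  obtain ⟨x, hx, h5⟩ := K.exists_five_mem
  obtain ⟨P₀, hP₀⟩ := (IsPGroup.of_card (n := 1) (by rw [Nat.card_zpowers, h5, pow_one]) :
    IsPGroup 5 ↥(Subgroup.zpowers x)).exists_le_sylow
  obtain ⟨hself, h25, h300, Y, hY, hne, hall⟩ := K.sylow_five_data hx h5 P₀ (hP₀ (Subgroup.mem_zpowers x))
  obtain ⟨g, rfl⟩ := MulAction.exists_smul_eq G P₀ P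
  have hP : ∀ p : G, p ∈ ((g • P₀ : Sylow 5 G) : Subgroup G) ↔ g⁻¹ * p * g ∈ (P₀ : Subgroup G) := by
    intro p
    rw [Sylow.coe_subgroup_smul]
    constructor
    · rintro ⟨q, hq, rfl⟩
      show g⁻¹ * (g * q * g⁻¹) * g ∈ _
      rw [show g⁻¹ * (g * q * g⁻¹) * g = q by group]
      exact hq
    · intro h
      exact ⟨_, h, show g * (g⁻¹ * p * g) * g⁻¹ = p by group⟩
  have hcard : Nat.card ↥((g • P₀ : Sylow 5 G) : Subgroup G) = 25 := by
    rw [Sylow.card_eq_multiplicity, ← Sylow.card_eq_multiplicity P₀, h25]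
  refine ⟨?_, hcard, ?_, Subgroup.zpowers x, Y, by rw [Nat.card_zpowers, h5], hY, hne, hall⟩
  · refine le_antisymm (fun h hh => ?_) fun p hp => ?_
    · refine (hP h).mpr (hself _ fun q hq => ?_)
      have h1 := Subgroup.mem_centralizer_iff.mp hh (g * q * g⁻¹) ((hP _).mpr (by rw [show g⁻¹ * (g * q * g⁻¹) * g = q by group]; exact hq))
      calc g⁻¹ * h * g * q = g⁻¹ * (h * (g * q * g⁻¹)) * g := by group
        _ = g⁻¹ * (g * q * g⁻¹ * h) * g := by rw [h1]
        _ = q * (g⁻¹ * h * g) := by group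
    · have hc := IsPGroup.isMulCommutative_of_card_eq_prime_sq (p := 5)
        (show Nat.card ↥((g • P₀ : Sylow 5 G) : Subgroup G) = 5 ^ 2 by rw [hcard]; norm_num)
      exact Subgroup.mem_centralizer_iff.mpr fun q hq => congrArg Subtype.val
        (hc.is_comm.comm (⟨q, hq⟩ : ↥((g • P₀ : Sylow 5 G) : Subgroup G)) ⟨p, hp⟩)
  · have h1 := Sylow.card_eq_index_normalizer P₀
    have h2 := Sylow.card_eq_index_normalizer (g • P₀)
    have e := (Subgroup.index_mul_card (Subgroup.normalizer ((P₀ : Subgroup G) : Set G))).trans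
      (Subgroup.index_mul_card (Subgroup.normalizer (((g • P₀ : Sylow 5 G) : Subgroup G) : Set G))).symm
    have h3 : (Subgroup.normalizer (((g • P₀ : Sylow 5 G) : Subgroup G) : Set G)).index =
        (Subgroup.normalizer ((P₀ : Subgroup G) : Set G)).index := h2.symm.trans h1
    rw [h3] at e
    exact ((Nat.eq_of_mul_eq_mul_left (Nat.pos_of_ne_zero Subgroup.index_ne_zero_of_finite) e).symm).trans h300

end Cfsg.Agent.HallJankoType
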