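import Cfsg.Agent.Lib.HallJankoType.ThreeLocal
import Cfsg.Agent.Lib.PGroup.SymplecticType
import Cfsg.Agent.Lib.TI.Extraspecial

/-!
The Sylow 3-subgroups of a group of Hall–Janko type and the two classes of elements of order three.
-/

set_option autoImplicit false
set_option linter.style.haveILetI false
set_option linter.unusedSectionVars false

namespace Cfsg.Agent.HallJankoType

open Cfsg.Agent.JankoOrder (Inv inv_iff_orderOf)
open Subgroup
open scoped commutatorElement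

universe u

local notation "A5" => alternatingGroup (Fin 5)

theorem three_cases {G : Type u} [Group G] {y : G} (h3 : orderOf y = 3) (i : ℤ) :
    y ^ i = 1 ∧ i % 3 = 0 ∨ y ^ i = y ∧ i % 3 = 1 ∨ y ^ i = y⁻¹ ∧ i % 3 = 2 := by
  have hy3 : y ^ 3 = 1 := h3 ▸ pow_orderOf_eq_one y
  have e : y ^ i = y ^ (i % 3) := by
    rw [show (3 : ℤ) = ((3 : ℕ) : ℤ) from rfl, ← h3, zpow_mod_orderOf]
  have h := Int.emod_nonneg i (show (3 : ℤ) ≠ 0 by norm_num)
  have h' := Int.emod_lt_of_pos i (show (0 : ℤ) < 3 by norm_num)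
  rcases (show i % 3 = 0 ∨ i % 3 = 1 ∨ i % 3 = 2 by omega) with k | k | k <;> rw [e, k]
  · exact .inl ⟨zpow_zero y, rfl⟩
  · exact .inr (.inl ⟨zpow_one y, rfl⟩)
  · refine .inr (.inr ⟨?_, rfl⟩)
    rw [show (2 : ℤ) = ((2 : ℕ) : ℤ) from rfl, zpow_natCast]
    exact eq_inv_of_mul_eq_one_left ((pow_succ y 2).symm.trans hy3)

theorem pairGroup_map_le {G : Type u} [Group G] {y x g : G} {h : Commute y x}
    (hy : g * y * g⁻¹ ∈ pairGroup y x h) (hx : g * x * g⁻¹ ∈ pairGroup y x h) {w : G}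
    (hw : w ∈ pairGroup y x h) : g * w * g⁻¹ ∈ pairGroup y x h := by
  obtain ⟨i, j, rfl⟩ := hw
  rw [show g * (y ^ i * x ^ j) * g⁻¹ = g * y ^ i * g⁻¹ * (g * x ^ j * g⁻¹) by group, ← conj_zpow, ← conj_zpow]
  exact mul_mem (zpow_mem hy i) (zpow_mem hx j)

theorem mem_normalizer_pairGroup {G : Type u} [Group G] [Finite G] {y x g : G} {h : Commute y x}
    (hy : g * y * g⁻¹ ∈ pairGroup y x h) (hx : g * x * g⁻¹ ∈ pairGroup y x h) :
    g ∈ Subgroup.normalizer (pairGroup y x h : Set G) := by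
  have hle : (pairGroup y x h).map (MulAut.conj g).toMonoidHom ≤ pairGroup y x h := by
    rintro _ ⟨w, hw, rfl⟩; exact pairGroup_map_le hy hx hw
  have heq := Subgroup.eq_of_le_of_card_ge hle
    (le_of_eq (Subgroup.card_map_of_injective (MulAut.conj g).injective).symm)
  refine Subgroup.mem_normalizer_iff.mpr fun w => ⟨fun hw => pairGroup_map_le hy hx hw, fun hw => ?_⟩
  rw [← heq] at hw
  obtain ⟨w', hw', e⟩ := hw
  have e' : g * w' * g⁻¹ = g * w * g⁻¹ := e
  rwa [← mul_left_cancel (mul_right_cancel e')]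

namespace Setup.Local.Factor

variable {G : Type u} [Group G] {S : Setup G} [Finite G] {a : G} {L : Setup.Local S a}
  {K : Setup.Local.Factor L} {y : G}

/-- No conjugate of `n` commutes with `z`. -/
theorem IsThree.not_comm_z (hy : K.IsThree y) {w : G} (h : IsConj L.n w)
    (hw : S.z * w = w * S.z) : False := by
  obtain ⟨g, rfl⟩ := isConj_iff.mp h
  have hzj : IsConj S.z (g⁻¹ * S.z * g⁻¹⁻¹) := isConj_iff.mpr ⟨g⁻¹, rfl⟩
  refine S.not_conj_outside L.outside
    (hzj.trans ((K.cent_three_data hy).2.2 _ (conj_inv_iff hzj S.inv_z) ?_).symm)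
  calc g⁻¹ * S.z * g⁻¹⁻¹ * L.n = g⁻¹ * (S.z * (g * L.n * g⁻¹)) * g := by group
    _ = g⁻¹ * (g * L.n * g⁻¹ * S.z) * g := by rw [hw]
    _ = L.n * (g⁻¹ * S.z * g⁻¹⁻¹) := by group

/-- A conjugate of `n` in `⟨y, n⟩` is outside `⟨y⟩`. -/
theorem IsThree.not_conj_pow (hy : K.IsThree y) {w : G} (h : IsConj L.n w) (i : ℤ) : w ≠ y ^ i :=
  fun e => hy.not_comm_z h (e ▸ ((hy.comm_z.zpow_left i).symm).eq)

theorem IsThree.card_pair (hy : K.IsThree y) : Nat.card ↥(pairGroup y L.n hy.comm_n) = 9 := by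
  let f : ↥(zpowers y) × ↥(zpowers L.n) → ↥(pairGroup y L.n hy.comm_n) := fun p =>
    ⟨(p.1 : G) * p.2, by
      obtain ⟨i, hi⟩ := mem_zpowers_iff.mp p.1.2
      obtain ⟨j, hj⟩ := mem_zpowers_iff.mp p.2.2
      exact ⟨i, j, by rw [hi, hj]⟩⟩
  have hf : Function.Bijective f := by
    refine ⟨?_, fun w => ?_⟩
    · rintro ⟨⟨_, i, rfl⟩, ⟨_, j, rfl⟩⟩ ⟨⟨_, i', rfl⟩, ⟨_, j', rfl⟩⟩ k
      have k' : y ^ i * L.n ^ j = y ^ i' * L.n ^ j' := congrArg Subtype.val k
      obtain ⟨h1, h2⟩ := hy.indep (i := i - i') (j := j - j') (by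
        have hc : Commute (y ^ (-i')) (L.n ^ j) := (hy.comm_n.zpow_left _).zpow_right _
        have e : y ^ (i - i') * L.n ^ (j - j') = 1 := by
          calc y ^ (i - i') * L.n ^ (j - j') = y ^ i * (y ^ (-i') * L.n ^ j) * L.n ^ (-j') := by
                rw [sub_eq_add_neg, sub_eq_add_neg, zpow_add, zpow_add]; group
            _ = (y ^ i * L.n ^ j) * (y ^ (-i') * L.n ^ (-j')) := by rw [hc.eq]; group
            _ = 1 := by rw [k', ((hy.comm_n.zpow_left (-i')).zpow_right (-j')).eq]; group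
        rw [e]; exact one_mem _)
      rw [zpow_sub, mul_inv_eq_one] at h1 h2
      exact Prod.ext (Subtype.ext h1) (Subtype.ext h2)
    · obtain ⟨i, j, e⟩ := w.2
      exact ⟨(⟨y ^ i, i, rfl⟩, ⟨L.n ^ j, j, rfl⟩), Subtype.ext e⟩
  rw [← Nat.card_eq_of_bijective f hf, Nat.card_prod, Nat.card_zpowers, Nat.card_zpowers, hy.order, n_order]

/-- An element inverting `y`. -/
theorem IsThree.exists_inverter (hy : K.IsThree y) : ∃ v : G, v * y * v⁻¹ = y⁻¹ := by
  classical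
  haveI : Fact (Nat.Prime 3) := ⟨Nat.prime_three⟩
  have hyC : y ∈ S.C := mem_cent.mpr hy.comm_z.eq
  set g : A5 := S.ψ ⟨y, hyC⟩ with hg
  have hg1 : g ≠ 1 := fun k => by
    have hd := Subgroup.orderOf_dvd_natCard _ ((S.mem_Q_iff hyC).mpr k)
    rw [hy.order, S.card_Q] at hd
    norm_num at hd
  have hg3 : g ^ 3 = 1 := by
    rw [hg, ← map_pow]
    convert map_one S.ψ using 2
    exact Subtype.ext (by show y ^ 3 = 1; rw [← hy.order, pow_orderOf_eq_one])
  obtain ⟨w, -, -, hw⟩ := five_three_inverter g ⟨hg3, hg1⟩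
  obtain ⟨c, rfl⟩ := S.ψ_surj w
  set H : Subgroup ↥S.C := (zpowers g).comap S.ψ with hH
  have hg3' : orderOf g = 3 := orderOf_eq_prime hg3 hg1
  have hH96 : Nat.card ↥H = 96 := by
    have h1 := H.index_mul_card
    have h2 := (zpowers g).index_mul_card
    rw [hH, Subgroup.index_comap_of_surjective _ S.ψ_surj, S.card_C, ← hH] at h1
    rw [Nat.card_zpowers, hg3', five_card] at h2
    rw [show (zpowers g).index = 20 by omega] at h1
    omega
  have hf : (Nat.card ↥H).factorization 3 = 1 := by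
    rw [hH96, Nat.factorization_def _ Nat.prime_three, show (96 : ℕ) = 3 ^ 1 * 32 by norm_num,
      padicValNat.mul (by norm_num) (by norm_num), padicValNat.prime_pow,
      padicValNat.eq_zero_of_not_dvd (by norm_num : ¬ 3 ∣ 32)]
  have hyH : (⟨y, hyC⟩ : ↥S.C) ∈ H := mem_zpowers g
  have hyH' : c * ⟨y, hyC⟩ * c⁻¹ ∈ H := by
    rw [hH, Subgroup.mem_comap, map_mul, map_mul, map_inv, hw]
    exact inv_mem (mem_zpowers g)
  let Y : Sylow 3 ↥H := Sylow.ofCard (zpowers ⟨_, hyH⟩) (by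
    rw [Nat.card_zpowers, ← Subgroup.orderOf_coe, ← Subgroup.orderOf_coe, hf, pow_one]
    exact hy.order)
  let R : Sylow 3 ↥H := Sylow.ofCard (zpowers ⟨_, hyH'⟩) (by
    rw [Nat.card_zpowers, ← Subgroup.orderOf_coe]
    show orderOf (c * ⟨y, hyC⟩ * c⁻¹) = _
    rw [← MulAut.conj_apply, MulEquiv.orderOf_eq, ← Subgroup.orderOf_coe, hf, pow_one]
    exact hy.order)
  obtain ⟨d, hd⟩ := MulAction.exists_smul_eq ↥H R Y
  have h : d * ⟨_, hyH'⟩ * d⁻¹ ∈ ((d • R : Sylow 3 ↥H) : Subgroup ↥H) := by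
    rw [Sylow.coe_subgroup_smul]
    exact ⟨_, mem_zpowers _, rfl⟩
  rw [hd] at h
  obtain ⟨i, hi⟩ := mem_zpowers_iff.mp (h : _ ∈ zpowers (⟨⟨y, hyC⟩, hyH⟩ : ↥H))
  have hiC : (⟨y, hyC⟩ : ↥S.C) ^ i = (d : ↥S.C) * (c * ⟨y, hyC⟩ * c⁻¹) * (d : ↥S.C)⁻¹ :=
    congrArg Subtype.val hi
  have hiA : g ^ i = g⁻¹ := by
    have e := congrArg S.ψ hiC
    obtain ⟨k, hk⟩ := mem_zpowers_iff.mp (Subgroup.mem_comap.mp d.2)
    rw [map_zpow, map_mul, map_mul, map_mul, map_mul, map_inv, map_inv, hw, ← hk] at e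
    refine e.trans ?_
    group
  refine ⟨((d : ↥S.C) : G) * c, ?_⟩
  have hiG : y ^ i = ((d : ↥S.C) : G) * ((c : G) * y * (c : G)⁻¹) * ((d : ↥S.C) : G)⁻¹ :=
    congrArg Subtype.val hiC
  rcases three_cases hy.order i with ⟨e, he⟩ | ⟨e, he⟩ | ⟨e, -⟩
  · exfalso
    rcases three_cases hg3' i with ⟨e', -⟩ | ⟨-, he'⟩ | ⟨-, he'⟩
    · rw [e', eq_comm, inv_eq_one] at hiA; exact hg1 hiA
    · omega
    · omega
  · exfalso
    rcases three_cases hg3' i with ⟨-, he'⟩ | ⟨e', -⟩ | ⟨-, he'⟩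
    · omega
    · rw [e'] at hiA
      exact hg1 (eq_one_of_coprime_orders (m := 2) (n := 3) (by norm_num)
        (by rw [pow_two]; nth_rw 2 [hiA]; exact mul_inv_cancel g) hg3)
    · omega
  · rw [← e, hiG]; group

set_option maxHeartbeats 1600000 in
/-- The Sylow 3-subgroup through `y` and `n`. -/
theorem IsThree.sylow_three_data (hy : K.IsThree y) :
    ∃ P : Sylow 3 G, y ∈ (P : Subgroup G) ∧ L.n ∈ (P : Subgroup G) ∧
      Cfsg.IsExtraspecial 3 ↥(P : Subgroup G) ∧ Nat.card ↥(P : Subgroup G) = 27 ∧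
      Nat.card ↥(Subgroup.normalizer ((P : Subgroup G) : Set G)) = 216 ∧
      (∀ p ∈ (P : Subgroup G), p ≠ 1 → IsConj L.n p ∨ IsConj y p) ∧
      (∀ p ∈ (P : Subgroup G), p ∉ zpowers y → IsConj L.n p) ∧
      (∀ p ∈ (P : Subgroup G), p * y = y * p) ∧
      Nat.card ↥(Subgroup.normalizer ((P : Subgroup G) : Set G) ⊓
        Subgroup.centralizer ({y} : Set G) : Subgroup G) = 108 := by
  classical
  haveI : Fact (Nat.Prime 2) := ⟨Nat.prime_two⟩
  haveI : Fact (Nat.Prime 3) := ⟨Nat.prime_three⟩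
  obtain ⟨hM36, hMdec, hMinv⟩ := K.cent_three_data hy
  set M : Subgroup G := Subgroup.centralizer ({L.n} : Set G) with hM
  set E := pairGroup y L.n hy.comm_n with hE
  have hE9 : Nat.card ↥E = 9 := hy.card_pair
  have hyE : y ∈ E := left_mem_pairGroup
  have hnE : L.n ∈ E := right_mem_pairGroup
  obtain ⟨P, hEP⟩ := (IsPGroup.of_card (n := 2) (by rw [hE9]; norm_num) : IsPGroup 3 ↥E).exists_le_sylow
  set Pg : Subgroup G := (P : Subgroup G) with hPg
  have hyP : y ∈ Pg := hEP hyE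
  have hnP : L.n ∈ Pg := hEP hnE
  have hP27 : Nat.card ↥Pg = 27 := by
    rw [hPg, Sylow.card_eq_multiplicity, S.card_group, Nat.factorization_def _ Nat.prime_three,
      show (604800 : ℕ) = 3 ^ 3 * 22400 by norm_num, padicValNat.mul (by norm_num) (by norm_num),
      padicValNat.prime_pow, padicValNat.eq_zero_of_not_dvd (by norm_num : ¬ 3 ∣ 22400)]
    norm_num
  have hEM : E ≤ M := by
    rintro _ ⟨i, j, rfl⟩
    exact mul_mem (zpow_mem (mem_cent.mpr hy.comm_n.eq) i) (zpow_mem (mem_cent.mpr rfl) j)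
  have hPM : (Pg ⊓ M : Subgroup G) = E := by
    refine (Subgroup.eq_of_le_of_card_ge (le_inf hEP hEM) ?_).symm
    have h1 := Subgroup.card_dvd_of_le (inf_le_left : Pg ⊓ M ≤ Pg)
    have h2 := Subgroup.card_dvd_of_le (inf_le_right : Pg ⊓ M ≤ M)
    rw [hP27] at h1
    rw [hM36] at h2
    have h9 := Nat.dvd_gcd h1 h2
    rw [show Nat.gcd 27 36 = 9 by norm_num] at h9
    rw [hE9]
    exact Nat.le_of_dvd (by norm_num) h9
  have hPnM : ¬ Pg ≤ M := fun h => by
    have := Subgroup.card_dvd_of_le h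
    rw [hP27, hM36] at this
    norm_num at this
  -- the centre
  haveI : Nontrivial ↥Pg := Finite.one_lt_card_iff_nontrivial.mp (by rw [hP27]; norm_num)
  have hPp : IsPGroup 3 ↥Pg := P.2
  haveI := hPp.center_nontrivial
  set Zg : Subgroup G := (Subgroup.center ↥Pg).map Pg.subtype with hZg
  have hZgc : ∀ w ∈ Zg, ∀ p ∈ Pg, p * w = w * p := by
    rintro _ ⟨w, hw, rfl⟩ p hp
    exact congrArg Subtype.val (Subgroup.mem_center_iff.mp hw ⟨p, hp⟩)
  have hZgE : Zg ≤ E := fun w hw => hPM ▸ (show w ∈ Pg ⊓ M from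
    ⟨Subgroup.map_subtype_le _ hw, mem_cent.mpr (hZgc w hw _ hnP).symm⟩)
  have hZ3 : Nat.card ↥(Subgroup.center ↥Pg) = 3 := by
    have hle := Subgroup.card_dvd_of_le hZgE
    rw [Subgroup.card_map_of_injective Pg.subtype_injective, hE9] at hle
    obtain ⟨i, hi, he⟩ := (Nat.dvd_prime_pow Nat.prime_three).mp (show _ ∣ 3 ^ 2 by simpa using hle)
    have hlt : 1 < Nat.card ↥(Subgroup.center ↥Pg) := Finite.one_lt_card
    interval_cases i
    · rw [he] at hlt; norm_num at hlt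
    · simpa using he
    · exfalso
      apply hPnM
      have heq : Zg = E := Subgroup.eq_of_le_of_card_ge hZgE (by
        rw [Subgroup.card_map_of_injective Pg.subtype_injective, he, hE9]; norm_num)
      intro p hp
      exact mem_cent.mpr (hZgc L.n (heq ▸ hnE) p hp)
  have hcommZ : ∀ p q : ↥Pg, ⁅p, q⁆ ∈ Subgroup.center ↥Pg := by
    intro p q
    have h9 : Nat.card (↥Pg ⧸ Subgroup.center ↥Pg) = 3 ^ 2 := by
      have := Subgroup.card_eq_card_quotient_mul_card_subgroup (Subgroup.center ↥Pg)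
      rw [hP27, hZ3] at this
      omega
    have hab := (IsPGroup.isMulCommutative_of_card_eq_prime_sq h9).is_comm.comm
      (QuotientGroup.mk p) (QuotientGroup.mk q)
    rw [← QuotientGroup.eq_one_iff, ← QuotientGroup.mk'_apply, map_commutatorElement,
      commutatorElement_eq_one_iff_mul_comm]
    exact hab
  -- `y` is central
  have hyc : ∀ p ∈ Pg, p * y = y * p := by
    obtain ⟨p, hp, hpM⟩ := SetLike.not_le_iff_exists.mp hPnM
    set c : G := p * L.n * p⁻¹ * L.n⁻¹ with hc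
    have hcZ : c ∈ Zg := ⟨⁅(⟨p, hp⟩ : ↥Pg), ⟨L.n, hnP⟩⁆, hcommZ _ _, rfl⟩
    have hc1 : c ≠ 1 := fun k => hpM (mem_cent.mpr (mul_inv_eq_iff_eq_mul.mp (mul_inv_eq_one.mp k)))
    have hp1 : p * L.n * p⁻¹ = c * L.n := by rw [hc, inv_mul_cancel_right]
    obtain ⟨i, j, hij⟩ := hZgE hcZ
    have hn3 : L.n ^ 3 = 1 := L.n_cube
    rcases three_cases hy.order i with ⟨e, -⟩ | hi
    · exfalso
      rw [e, one_mul] at hij
      rcases three_cases (n_order (L := L)) j with ⟨e', -⟩ | ⟨e', -⟩ | ⟨e', -⟩ <;> rw [e'] at hij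
      · exact hc1 hij.symm
      · exact hpM (mem_cent.mpr (hZgc L.n (hij ▸ hcZ) p hp))
      · exact hpM (mem_cent.mpr (hZgc L.n (by simpa using inv_mem (hij ▸ hcZ : L.n⁻¹ ∈ Zg)) p hp))
    rcases three_cases (n_order (L := L)) j with ⟨e', -⟩ | ⟨e', -⟩ | ⟨e', -⟩ <;> rw [e'] at hij
    · rw [mul_one] at hij
      intro q hq
      rcases hi with ⟨e, -⟩ | ⟨e, -⟩ <;> rw [e] at hij
      · exact hZgc y (hij ▸ hcZ) q hq
      · exact hZgc y (by simpa using inv_mem (hij ▸ hcZ : y⁻¹ ∈ Zg)) q hq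
    · exfalso
      refine hy.not_conj_pow (w := p * (p * L.n * p⁻¹) * p⁻¹)
        (isConj_iff.mpr ⟨p * p, by group⟩) (i + i) ?_
      rw [hp1, show p * (c * L.n) * p⁻¹ = p * c * p⁻¹ * (p * L.n * p⁻¹) by group, hp1,
        show p * c * p⁻¹ = c by rw [hZgc c hcZ p hp, mul_inv_cancel_right], ← hij, zpow_add]
      have hc' : Commute (y ^ i) L.n := hy.comm_n.zpow_left i
      calc y ^ i * L.n * (y ^ i * L.n * L.n) = y ^ i * (L.n * y ^ i) * L.n * L.n := by group
        _ = y ^ i * (y ^ i * L.n) * L.n * L.n := by rw [hc'.eq]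
        _ = y ^ i * y ^ i * L.n ^ 3 := by rw [pow_succ, pow_succ, pow_one]; group
        _ = y ^ i * y ^ i := by rw [hn3, mul_one]
    · exfalso
      refine hy.not_conj_pow (w := p * L.n * p⁻¹) (isConj_iff.mpr ⟨p, rfl⟩) i ?_
      rw [hp1, ← hij, inv_mul_cancel_right]
  have hZy : Zg = zpowers y := by
    refine (Subgroup.eq_of_le_of_card_ge (zpowers_le.mpr (show y ∈ Zg from ⟨⟨y, hyP⟩,
      Subgroup.mem_center_iff.mpr fun q => Subtype.ext (hyc q q.2), rfl⟩)) ?_).symm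
    rw [Subgroup.card_map_of_injective Pg.subtype_injective, hZ3, Nat.card_zpowers, hy.order]
  have hPNE : Pg ≤ Subgroup.normalizer (E : Set G) := fun p hp => by
    refine mem_normalizer_pairGroup ?_ ?_
    · rw [hyc p hp, mul_inv_cancel_right]; exact hyE
    · have h : p * L.n * p⁻¹ * L.n⁻¹ ∈ E := hZgE ⟨⁅(⟨p, hp⟩ : ↥Pg), ⟨L.n, hnP⟩⁆, hcommZ _ _, rfl⟩
      have := mul_mem h hnE
      rwa [inv_mul_cancel_right] at this
  have hself : ∀ d ∈ M, d * y * d⁻¹ ∈ E → d ∈ E := by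
    intro d hd hdy
    obtain ⟨t, ht, w, hw, rfl⟩ := hMdec d (mem_cent.mp hd)
    have hwy : w * y = y * w := by
      obtain ⟨i, j, rfl⟩ := hw
      exact (((Commute.refl y).zpow_left i).mul_left (hy.comm_n.symm.zpow_left j)).eq
    have h1 : t * y * t⁻¹ * y⁻¹ ∈ E := by
      refine mul_mem ?_ (inv_mem hyE)
      rwa [show t * y * t⁻¹ = t * w * y * (t * w)⁻¹ by
        rw [mul_assoc t w y, hwy]; group]
    have h2 : t * y * t⁻¹ * y⁻¹ ∈ L.T := by
      rw [show t * y * t⁻¹ * y⁻¹ = t * (y * t⁻¹ * y⁻¹) by group]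
      exact mul_mem ht ((Subgroup.mem_normalizer_iff.mp hy.norm _).mp (inv_mem ht))
    obtain ⟨i, j, hij⟩ := h1
    obtain ⟨e1, e2⟩ := hy.indep (hij ▸ h2)
    rw [e1, e2, one_mul, eq_comm, mul_inv_eq_one, mul_inv_eq_iff_eq_mul] at hij
    rwa [hy.free t ht hij, one_mul]
  -- an involution of `B` inverting `n` normalises `P`
  obtain ⟨e⟩ := K.nonempty_iso
  obtain ⟨w, hwB, hw2, hw1, hwn⟩ : ∃ w ∈ K.B, w * w = 1 ∧ w ≠ 1 ∧ w * L.n * w⁻¹ = L.n⁻¹ := by
    obtain ⟨b, hb1, hb2, hb3⟩ := five_three_inverter (e ⟨L.n, K.n_mem⟩) ⟨by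
      rw [← map_pow]
      convert map_one e using 2
      exact Subtype.ext L.n_cube, fun k => by
      rw [EmbeddingLike.map_eq_one_iff] at k
      exact L.n_ne (congrArg Subtype.val k)⟩
    obtain ⟨b, rfl⟩ := e.surjective b
    rw [← map_inv, ← map_inv, ← map_mul, ← map_mul] at hb3
    rw [← map_mul] at hb1
    refine ⟨b, b.2, ?_, fun k => hb2 ?_, congrArg Subtype.val (e.injective hb3)⟩
    · exact congrArg Subtype.val (e.injective (hb1.trans (map_one e).symm))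
    · rw [show b = 1 from Subtype.ext k, map_one]
  have hwy : w * y = y * w := (hy.comm w hwB).symm
  have hwo : orderOf w = 2 := inv_iff_orderOf.mp ⟨hw2, hw1⟩
  set My : Subgroup G := Subgroup.centralizer ({y} : Set G) with hMy
  have hPMy : Pg ≤ My := fun p hp => mem_cent.mpr (hyc p hp)
  have hwN : w ∈ Subgroup.normalizer (Pg : Set G) := by
    set J : Subgroup G := My ⊓ Subgroup.normalizer (E : Set G) with hJ
    have hwJ : w ∈ J := ⟨mem_cent.mpr hwy, mem_normalizer_pairGroup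
      (by rw [hwy, mul_inv_cancel_right]; exact hyE) (by rw [hwn]; exact inv_mem hnE)⟩
    have hPJ : Pg ≤ J := le_inf hPMy hPNE
    have ho := card_orbit_mul J L.n
    have hstab : Nat.card ↥(J ⊓ M : Subgroup G) ≤ 9 := by
      rw [← hE9]
      exact Subgroup.card_le_of_le fun d hd =>
        hself d hd.2 ((Subgroup.mem_normalizer_iff.mp hd.1.2 y).mp hyE)
    have horb : Nat.card {v : G // ∃ g ∈ J, g * L.n * g⁻¹ = v} ≤ 6 := by
      have e1 := Nat.card_congr (Equiv.sumCompl fun v : ↥E => (v : G) ∈ zpowers y)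
      rw [Nat.card_sum, hE9] at e1
      have e2 : Nat.card {v : ↥E // (v : G) ∈ zpowers y} = 3 := by
        rw [← hy.order, ← Nat.card_zpowers]
        exact Nat.card_congr
          { toFun := fun v => ⟨v.1, v.2⟩
            invFun := fun v => ⟨⟨v.1, zpowers_le.mpr hyE v.2⟩, v.2⟩
            left_inv := fun _ => rfl
            right_inv := fun _ => rfl }
      have e3 : Nat.card {v : G // ∃ g ∈ J, g * L.n * g⁻¹ = v} ≤
          Nat.card {v : ↥E // ¬ (v : G) ∈ zpowers y} := by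
        refine Nat.card_le_card_of_injective (fun v => ⟨⟨v.1, ?_⟩, ?_⟩)
          fun p q k => Subtype.ext (congrArg (fun u => ((u.1 : ↥E) : G)) k :)
        · obtain ⟨g, hg, e⟩ := v.2
          exact e ▸ (Subgroup.mem_normalizer_iff.mp hg.2 L.n).mp hnE
        · intro hv
          obtain ⟨g, -, e⟩ := v.2
          obtain ⟨i, hi⟩ := mem_zpowers_iff.mp hv
          exact hy.not_conj_pow (isConj_iff.mpr ⟨g, e⟩) i hi.symm
      omega
    have hJ54 : Nat.card ↥J = 54 := by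
      have hle : Nat.card ↥J ≤ 54 := by
        rw [← ho]
        exact le_trans (Nat.mul_le_mul horb hstab) (by norm_num)
      have h27 : 27 ∣ Nat.card ↥J := hP27 ▸ Subgroup.card_dvd_of_le hPJ
      have h2 : 2 ∣ Nat.card ↥J := hwo ▸ Subgroup.orderOf_dvd_natCard _ hwJ
      have hpos : 0 < Nat.card ↥J := Nat.card_pos
      omega
    haveI : (Pg.subgroupOf J).Normal := Subgroup.normal_of_index_eq_two (by
      have h := (Pg.subgroupOf J).index_mul_card
      rw [Nat.card_congr (Subgroup.subgroupOfEquivOfLe hPJ).toEquiv, hP27, hJ54] at h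
      omega)
    have hconj : ∀ g ∈ J, ∀ p ∈ Pg, g * p * g⁻¹ ∈ Pg := fun g hg p hp =>
      Subgroup.Normal.conj_mem (inferInstance : (Pg.subgroupOf J).Normal) ⟨p, hPJ hp⟩ hp ⟨g, hg⟩
    refine Subgroup.mem_normalizer_iff.mpr fun p => ⟨hconj w hwJ p, fun h => ?_⟩
    have := hconj _ (inv_mem hwJ) _ h
    rwa [show w⁻¹ * (w * p * w⁻¹) * w⁻¹⁻¹ = p by group] at this
  -- an element of `N(P)` inverting `y`
  obtain ⟨v, hvN, hvy⟩ : ∃ v ∈ Subgroup.normalizer (Pg : Set G), v * y * v⁻¹ = y⁻¹ := by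
    obtain ⟨v, hv⟩ := hy.exists_inverter
    have hvP : ((v • P : Sylow 3 G) : Subgroup G) ≤ My := by
      rw [Sylow.coe_subgroup_smul]
      rintro _ ⟨p, hp, rfl⟩
      show v * p * v⁻¹ ∈ My
      have h1 : v⁻¹ * y * v = y⁻¹ := by
        have h := congrArg (fun w => (v⁻¹ * w * v)⁻¹) hv
        simpa [mul_assoc] using h.symm
      refine mem_cent.mpr ?_
      have hpy : p * y⁻¹ = y⁻¹ * p := (show Commute p y from hyc p hp).inv_right.eq
      calc v * p * v⁻¹ * y = v * (p * (v⁻¹ * y * v)) * v⁻¹ := by group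
        _ = v * (p * y⁻¹) * v⁻¹ := by rw [h1]
        _ = v * (y⁻¹ * p) * v⁻¹ := by rw [hpy]
        _ = v * ((v⁻¹ * y * v) * p) * v⁻¹ := by rw [h1]
        _ = y * (v * p * v⁻¹) := by group
    obtain ⟨c, hc⟩ := MulAction.exists_smul_eq ↥My ((v • P).subtype hvP) (P.subtype hPMy)
    rw [Sylow.smul_subtype] at hc
    have hc' := Sylow.subtype_injective hc
    rw [Subgroup.smul_def, smul_smul] at hc'
    refine ⟨(c : G) * v, Sylow.smul_eq_iff_mem_normalizer.mp hc', ?_⟩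
    rw [show (c : G) * v * y * ((c : G) * v)⁻¹ = (c : G) * (v * y * v⁻¹) * (c : G)⁻¹ by group, hv,
      ((show Commute (c : G) y from mem_cent.mp c.2).inv_right).eq, mul_inv_cancel_right]
  -- the normalizer
  set N : Subgroup G := Subgroup.normalizer (Pg : Set G) with hN
  have hNP : ∀ g ∈ N, ∀ p, p ∈ Pg → g * p * g⁻¹ ∈ Pg := fun g hg p hp =>
    (Subgroup.mem_normalizer_iff.mp hg p).mp hp
  have hNy : ∀ g ∈ N, g * y * g⁻¹ ∈ zpowers y := by
    intro g hg
    rw [← hZy]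
    refine ⟨⟨g * y * g⁻¹, hNP g hg y hyP⟩, Subgroup.mem_center_iff.mpr fun q => Subtype.ext ?_, rfl⟩
    have hq := hyc _ (hNP _ (inv_mem hg) q q.2)
    show (q : G) * (g * y * g⁻¹) = g * y * g⁻¹ * q
    calc (q : G) * (g * y * g⁻¹) = g * (g⁻¹ * q * g⁻¹⁻¹ * y) * g⁻¹ := by group
      _ = g * (y * (g⁻¹ * q * g⁻¹⁻¹)) * g⁻¹ := by rw [hq]
      _ = g * y * g⁻¹ * q := by group
  have hstab : (N ⊓ M : Subgroup G) = E := by
    refine le_antisymm (fun d hd => hself d hd.2 ?_) (le_inf (hEP.trans Subgroup.le_normalizer) hEM)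
    rw [← hPM]
    refine ⟨hNP d hd.1 y hyP, mem_cent.mpr ?_⟩
    have hdn : d * L.n = L.n * d := mem_cent.mp hd.2
    have hdn' : d⁻¹ * L.n = L.n * d⁻¹ := (show Commute d L.n from hdn).inv_left.eq
    calc d * y * d⁻¹ * L.n = d * (y * L.n) * d⁻¹ := by
          rw [mul_assoc (d * y), hdn']; group
      _ = d * L.n * y * d⁻¹ := by rw [hy.comm_n.eq]; group
      _ = L.n * (d * y * d⁻¹) := by rw [hdn]; group
  have ho := card_orbit_mul N L.n
  rw [← hM, hstab, hE9] at ho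
  have horb_mem : ∀ g ∈ N, g * L.n * g⁻¹ ∈ Pg ∧ g * L.n * g⁻¹ ∉ zpowers y := fun g hg =>
    ⟨hNP g hg _ hnP, fun h => by
      obtain ⟨i, hi⟩ := mem_zpowers_iff.mp h
      exact hy.not_conj_pow (isConj_iff.mpr ⟨g, rfl⟩) i hi.symm⟩
  have h24 : Nat.card {p : ↥Pg // ¬ (p : G) ∈ zpowers y} = 24 := by
    have e1 := Nat.card_congr (Equiv.sumCompl fun v : ↥Pg => (v : G) ∈ zpowers y)
    rw [Nat.card_sum, hP27] at e1
    have e2 : Nat.card {v : ↥Pg // (v : G) ∈ zpowers y} = 3 := by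
      rw [← hy.order, ← Nat.card_zpowers]
      exact Nat.card_congr
        { toFun := fun v => ⟨v.1, v.2⟩
          invFun := fun v => ⟨⟨v.1, zpowers_le.mpr hyP v.2⟩, v.2⟩
          left_inv := fun _ => rfl
          right_inv := fun _ => rfl }
    omega
  let ι : {v : G // ∃ g ∈ N, g * L.n * g⁻¹ = v} → {p : ↥Pg // ¬ (p : G) ∈ zpowers y} := fun v =>
    ⟨⟨v.1, by obtain ⟨g, hg, e⟩ := v.2; exact e ▸ (horb_mem g hg).1⟩, by
      obtain ⟨g, hg, e⟩ := v.2; exact e ▸ (horb_mem g hg).2⟩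
  have hι : Function.Injective ι := fun p q k =>
    Subtype.ext (congrArg (fun u => ((u.1 : ↥Pg) : G)) k :)
  have hle : Nat.card {v : G // ∃ g ∈ N, g * L.n * g⁻¹ = v} ≤ 24 :=
    h24 ▸ Nat.card_le_card_of_injective ι hι
  have h54 : 54 ∣ Nat.card ↥(N ⊓ My : Subgroup G) := by
    have h27 : 27 ∣ Nat.card ↥(N ⊓ My : Subgroup G) :=
      hP27 ▸ Subgroup.card_dvd_of_le (le_inf Subgroup.le_normalizer hPMy)
    have h2 : 2 ∣ Nat.card ↥(N ⊓ My : Subgroup G) :=
      hwo ▸ Subgroup.orderOf_dvd_natCard _ (show w ∈ N ⊓ My from ⟨hwN, mem_cent.mpr hwy⟩)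
    exact Nat.Coprime.mul_dvd_of_dvd_of_dvd (by norm_num : Nat.Coprime 2 27) h2 h27
  have hyinv : y ≠ y⁻¹ := fun k => by
    have h1 := orderOf_dvd_of_pow_eq_one (show y ^ 2 = 1 by rw [pow_two]; nth_rw 2 [k]; exact mul_inv_cancel y)
    rw [hy.order] at h1
    norm_num at h1
  have ho2 : 2 * Nat.card ↥(N ⊓ My : Subgroup G) = Nat.card ↥N := by
    rw [← card_orbit_mul N y, ← hMy]
    congr 1
    refine (Nat.card_eq_two_iff.mpr ⟨⟨y, 1, one_mem _, by simp⟩, ⟨y⁻¹, v, hvN, hvy⟩,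
      fun k => hyinv (congrArg Subtype.val k), ?_⟩).symm
    refine Set.eq_univ_of_forall fun u => ?_
    obtain ⟨g, hg, e⟩ := u.2
    obtain ⟨i, hi⟩ := mem_zpowers_iff.mp (hNy g hg)
    rcases three_cases hy.order i with ⟨e', -⟩ | ⟨e', -⟩ | ⟨e', -⟩ <;> rw [e', e] at hi
    · exfalso
      have h1 : y = 1 := conj_eq_one_iff.mp (e.trans hi.symm)
      have := hy.order
      rw [h1, orderOf_one] at this
      norm_num at this
    · exact .inl (Subtype.ext hi.symm)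
    · exact .inr (Subtype.ext hi.symm)
  have hidx : Nat.card (Sylow 3 G) = N.index := Sylow.card_eq_index_normalizer P
  have hlag := Subgroup.index_mul_card N
  rw [← hidx, S.card_group] at hlag
  have hmod : Nat.card (Sylow 3 G) % 3 = 1 := card_sylow_modEq_one 3 G
  have h216 : Nat.card ↥N = 216 := by
    obtain ⟨k, hk⟩ := h54
    have hpos : 0 < Nat.card ↥N := Nat.card_pos
    have hk2 : k = 1 ∨ k = 2 := by omega
    rcases hk2 with rfl | rfl
    · rw [← ho2, hk] at hlag; omega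
    · omega
  have hiota : Function.Bijective ι :=
    (Nat.bijective_iff_injective_and_card ι).mpr ⟨hι, by rw [h24]; omega⟩
  have hout : ∀ p ∈ Pg, p ∉ zpowers y → IsConj L.n p := by
    intro p hp hpy
    obtain ⟨⟨_, g, hg, rfl⟩, hu⟩ := hiota.2 ⟨⟨p, hp⟩, hpy⟩
    exact isConj_iff.mpr ⟨g, congrArg (fun u => ((u.1 : ↥Pg) : G)) hu⟩
  have hall : ∀ p ∈ Pg, p ≠ 1 → IsConj L.n p ∨ IsConj y p := by
    intro p hp hp1
    by_cases hpy : p ∈ zpowers y
    · obtain ⟨i, hi⟩ := mem_zpowers_iff.mp hpy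
      rcases three_cases hy.order i with ⟨e', -⟩ | ⟨e', -⟩ | ⟨e', -⟩ <;> rw [e'] at hi
      · exact absurd hi.symm hp1
      · exact .inr (hi ▸ IsConj.refl _)
      · exact .inr (hi ▸ isConj_iff.mpr ⟨v, hvy⟩)
    · exact .inl (hout p hp hpy)
  have hexp : ∀ p ∈ Pg, p ^ 3 = 1 := by
    intro p hp
    by_cases hp1 : p = 1
    · rw [hp1, one_pow]
    rcases hall p hp hp1 with h | h <;> obtain ⟨g, rfl⟩ := isConj_iff.mp h <;> rw [conj_pow]
    · rw [L.n_cube, mul_one, mul_inv_cancel]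
    · rw [← hy.order, pow_orderOf_eq_one, mul_one, mul_inv_cancel]
  refine ⟨P, hyP, hnP, PGroup.isExtraspecial_of hPp hZ3 (fun k => ?_) hcommZ (fun p => ?_), hP27, h216,
    hall, hout, hyc, show Nat.card ↥(N ⊓ My : Subgroup G) = 108 by omega⟩
  · rw [k, Subgroup.card_top, hP27] at hZ3
    norm_num at hZ3
  · rw [show p ^ 3 = 1 from Subtype.ext (hexp p p.2)]
    exact one_mem _

end Setup.Local.Factor

/-- Sylow 3-subgroups in a group of Hall–Janko type. -/
theorem Setup.sylow_three {G : Type u} [Group G] [Finite G] (S : Setup G) (P : Sylow 3 G) :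
    Cfsg.IsExtraspecial 3 (P : Subgroup G) ∧ Nat.card P = 27 ∧
      Nat.card (Subgroup.normalizer ((P : Subgroup G) : Set G)) = 216 ∧
      ∃ a b : G, orderOf a = 3 ∧ orderOf b = 3 ∧ ¬ IsConj a b ∧
        ∀ c : G, orderOf c = 3 → IsConj c a ∨ IsConj c b := by
  haveI : Fact (Nat.Prime 3) := ⟨Nat.prime_three⟩
  obtain ⟨a, ha⟩ := S.exists_outside
  obtain ⟨L⟩ := S.exists_local ha
  obtain ⟨K⟩ := L.exists_factor
  obtain ⟨y, hy⟩ := K.exists_isThree
  obtain ⟨P₀, -, -, hex, h27, h216, hall, -, -, -⟩ := hy.sylow_three_data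
  obtain ⟨g, rfl⟩ := MulAction.exists_smul_eq G P₀ P
  have hcoe : ((g • P₀ : Sylow 3 G) : Subgroup G) = (P₀ : Subgroup G).map (MulAut.conj g).toMonoidHom := by
    rw [Sylow.coe_subgroup_smul]; rfl
  refine ⟨?_, ?_, ?_, L.n, y, Setup.Local.Factor.n_order, hy.order,
    fun h => hy.not_conj_pow h 1 (zpow_one y).symm, fun c hc => ?_⟩
  · exact TI.isExtraspecial_congr ((Subgroup.equivMapOfInjective _ (MulAut.conj g).toMonoidHom
      (MulAut.conj g).injective).trans (MulEquiv.subgroupCongr hcoe.symm)) hex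
  · rw [Sylow.card_eq_multiplicity, ← Sylow.card_eq_multiplicity P₀, h27]
  · have h1 := Sylow.card_eq_index_normalizer P₀
    have h2 := Sylow.card_eq_index_normalizer (g • P₀)
    have e := (Subgroup.index_mul_card (Subgroup.normalizer ((P₀ : Subgroup G) : Set G))).trans
      (Subgroup.index_mul_card (Subgroup.normalizer (((g • P₀ : Sylow 3 G) : Subgroup G) : Set G))).symm
    have h3 : (Subgroup.normalizer (((g • P₀ : Sylow 3 G) : Subgroup G) : Set G)).index =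
        (Subgroup.normalizer ((P₀ : Subgroup G) : Set G)).index := h2.symm.trans h1
    rw [h3] at e
    exact ((Nat.eq_of_mul_eq_mul_left (Nat.pos_of_ne_zero Subgroup.index_ne_zero_of_finite) e).symm).trans h216
  · obtain ⟨R, hR⟩ := (IsPGroup.of_card (n := 1) (by rw [Nat.card_zpowers, hc, pow_one]) :
      IsPGroup 3 ↥(Subgroup.zpowers c)).exists_le_sylow
    obtain ⟨d, hd⟩ := MulAction.exists_smul_eq G R P₀
    have hmem : d * c * d⁻¹ ∈ (P₀ : Subgroup G) := by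
      rw [← hd, Sylow.coe_subgroup_smul]
      exact ⟨c, hR (mem_zpowers c), rfl⟩
    have hconj : IsConj c (d * c * d⁻¹) := isConj_iff.mpr ⟨d, rfl⟩
    rcases hall _ hmem (fun k => by
      rw [conj_eq_one_iff.mp k, orderOf_one] at hc
      norm_num at hc) with h | h
    · exact .inl (hconj.trans h.symm)
    · exact .inr (hconj.trans h.symm)

end Cfsg.Agent.HallJankoType
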