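import Cfsg.Agent.Lib.HallJankoType.ThreeCentralizer

/-!
An involution inverting `y` and centralising a dihedral subgroup of order ten of `B` acts on the ten
Sylow 3-subgroups of `C(y)` by exchanging two orbits; this yields the relation between `y` and a
commutator used to identify a group of Hall–Janko type.
-/

set_option autoImplicit false
set_option linter.style.haveILetI false
set_option linter.unusedSectionVars false

namespace Cfsg.Agent.HallJankoType

open Cfsg.Agent.JankoOrder (Inv inv_iff_orderOf)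
open Subgroup

universe u

local notation "A5" => alternatingGroup (Fin 5)

/-- A three-cycle of `A₅` (the identity if the points are not distinct). -/
def cyc (a b c : Fin 5) : A5 :=
  if h : a ≠ b ∧ b ≠ c then
    ⟨Equiv.swap a b * Equiv.swap b c, Equiv.Perm.mem_alternatingGroup.mpr (by
      rw [Equiv.Perm.sign_mul, Equiv.Perm.sign_swap h.1, Equiv.Perm.sign_swap h.2]; rfl)⟩
  else 1

/-- `(01)(23)`. -/
def pT : A5 :=
  ⟨Equiv.swap 0 1 * Equiv.swap 2 3, Equiv.Perm.mem_alternatingGroup.mpr (by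
    rw [Equiv.Perm.sign_mul, Equiv.Perm.sign_swap (by decide), Equiv.Perm.sign_swap (by decide)]; rfl)⟩

/-- `(024)`. -/
def qT : A5 := cyc 0 2 4

/-- An element of order five. -/
def xT : A5 := pT * qT

/-- An involution inverting `xT`. -/
def wT : A5 := qT * pT * qT * pT * qT * qT * pT * qT * pT

/-- The element whose `j`-conjugate commutes with `qT` modulo `⟨y⟩`. -/
def q1T : A5 := qT * pT * qT * pT * qT⁻¹

/-- One element in each subgroup of order three of `A₅`. -/
def gT : Fin 10 → A5 :=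
  ![cyc 2 3 4, cyc 1 3 4, cyc 1 2 4, cyc 1 2 3, cyc 0 3 4, cyc 0 2 4, cyc 0 2 3, cyc 0 1 4, cyc 0 1 3,
    cyc 0 1 2]

/-- The action of `A₅` on its ten subgroups of order three. -/
def act (b : A5) (i : Fin 10) : Fin 10 :=
  ((List.finRange 10).find? fun l =>
    decide (b * gT i * b⁻¹ = gT l ∨ b * gT i * b⁻¹ = (gT l)⁻¹)).getD 0

/-- The permutation induced by `j`. -/
def piTab : Fin 10 → Fin 10 := ![9, 6, 4, 7, 2, 8, 1, 3, 5, 0]

set_option maxRecDepth 8000 in
theorem five_xw : xT ^ 5 = 1 ∧ xT ≠ 1 ∧ wT * wT = 1 ∧ wT ≠ 1 ∧ wT * xT * wT⁻¹ = xT⁻¹ ∧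
    pT * pT = 1 ∧ pT ≠ 1 ∧ qT ^ 3 = 1 ∧ qT ≠ 1 ∧ q1T ^ 3 = 1 ∧ q1T ≠ 1 := by decide +kernel

set_option maxRecDepth 8000 in
theorem act_spec : ∀ (b : A5) (i : Fin 10),
    b * gT i * b⁻¹ = gT (act b i) ∨ b * gT i * b⁻¹ = (gT (act b i))⁻¹ := by decide +kernel

set_option maxRecDepth 8000 in
theorem gT_spec : (∀ i, gT i ^ 3 = 1 ∧ gT i ≠ 1) ∧
    ∀ i k, gT i = gT k ∨ gT i = (gT k)⁻¹ → i = k := by decide +kernel

set_option maxRecDepth 8000 in
theorem gT_cover : ∀ u : A5, u ^ 3 = 1 → u ≠ 1 → ∃ i, u = gT i ∨ u = (gT i)⁻¹ := by decide +kernel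

set_option maxRecDepth 8000 in
theorem ten_reps : (∀ i : Fin 10, ∃ k : Fin 5, i = act (xT ^ (k : ℕ)) 0 ∨ i = act (xT ^ (k : ℕ)) 9) ∧
    (∀ i : Fin 10, act wT i = i → i = 0 ∨ i = 9) ∧ act wT 0 = 0 ∧ act wT 9 = 9 ∧
    (∀ k : Fin 5, piTab (act (xT ^ (k : ℕ)) 0) = act (xT ^ (k : ℕ)) 9 ∧
      piTab (act (xT ^ (k : ℕ)) 9) = act (xT ^ (k : ℕ)) 0) := by decide +kernel

set_option maxRecDepth 8000 in
theorem ten_key : gT 5 = qT ∧ (gT 8 = q1T ∨ gT 8 = q1T⁻¹) ∧ piTab 8 = 5 ∧
    ∀ m : Fin 3, ∃ i, piTab (act q1T (piTab i)) ≠ act (qT ^ (m : ℕ)) i := by decide +kernel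

set_option maxRecDepth 8000 in
theorem five_three_products : ∀ b : A5, ∃ i k : Fin 10,
    b = gT i * gT k ∨ b = (gT i)⁻¹ * gT k ∨ b = gT i * (gT k)⁻¹ ∨ b = (gT i)⁻¹ * (gT k)⁻¹ := by
  decide +kernel

set_option maxRecDepth 8000 in
theorem five_inv_products : ∀ b : A5, ∃ u v : A5, u * u = 1 ∧ v * v = 1 ∧ u * v = b := by
  decide +kernel

theorem mem_of_mem_normalizer_sylow {M : Type u} [Group M] {p : ℕ} (Q : Sylow p M) {k : M}
    (hk : IsPGroup p ↥(zpowers k)) (hn : k ∈ Subgroup.normalizer (Q : Set M)) :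
    k ∈ (Q : Subgroup M) := by
  have h : k ∈ zpowers k ⊓ Subgroup.normalizer (Q : Set M) := ⟨mem_zpowers k, hn⟩
  rw [hk.inf_normalizer_sylow Q] at h
  exact h.2

namespace Setup.Local.Factor

variable {G : Type u} [Group G] {S : Setup G} [Finite G] {a : G} {L : Setup.Local S a}
  {K : Setup.Local.Factor L} {y : G} {P₀ : Sylow 3 G}

/-- A Sylow 3-subgroup of `C(y)`, as a subgroup of `G`. -/
def IsThreeSylow (y : G) (U : Subgroup G) : Prop :=
  U ≤ Subgroup.centralizer ({y} : Set G) ∧ Nat.card ↥U = 27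

theorem Frame.card27_iff (F : Frame K y P₀) :
    (Nat.card ↥(Subgroup.centralizer ({y} : Set G))).factorization 3 = 3 := by
  haveI : Fact (Nat.Prime 3) := ⟨Nat.prime_three⟩
  rw [F.card_sylow_and_cent.1, Nat.factorization_def _ Nat.prime_three,
    show (1080 : ℕ) = 3 ^ 3 * 40 by norm_num, padicValNat.mul (by norm_num) (by norm_num),
    padicValNat.prime_pow, padicValNat.eq_zero_of_not_dvd (by norm_num : ¬ 3 ∣ 40)]

theorem Frame.card_threeSylows (F : Frame K y P₀) :
    Nat.card {U : Subgroup G // IsThreeSylow y U} = 10 := by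
  haveI : Fact (Nat.Prime 3) := ⟨Nat.prime_three⟩
  set M : Subgroup G := Subgroup.centralizer ({y} : Set G) with hM
  rw [← F.card_sylow_and_cent.2]
  refine (Nat.card_eq_of_bijective (fun R : Sylow 3 ↥M => (⟨(R : Subgroup ↥M).map M.subtype,
    Subgroup.map_subtype_le _, by
      rw [Subgroup.card_map_of_injective M.subtype_injective, Sylow.card_eq_multiplicity, F.card27_iff]
      norm_num⟩ : {U : Subgroup G // IsThreeSylow y U})) ⟨fun R R' h => ?_, fun U => ?_⟩).symm
  · exact Sylow.ext (Subgroup.map_injective M.subtype_injective (congrArg Subtype.val h :))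
  · refine ⟨Sylow.ofCard (U.1.subgroupOf M) ?_, Subtype.ext ?_⟩
    · rw [Nat.card_congr (Subgroup.subgroupOfEquivOfLe U.2.1).toEquiv, U.2.2, F.card27_iff]
      norm_num
    · show (U.1.subgroupOf M).map M.subtype = U.1
      rw [Subgroup.subgroupOf_map_subtype, inf_eq_left.mpr U.2.1]

theorem Frame.mem_of_normalizing (F : Frame K y P₀) {U : Subgroup G} (hU : IsThreeSylow y U) {k : G}
    (hk : k ∈ Subgroup.centralizer ({y} : Set G)) {i : ℕ} (hord : k ^ 3 ^ i = 1)
    (hn : ∀ u ∈ U, k * u * k⁻¹ ∈ U) : k ∈ U := by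
  haveI : Fact (Nat.Prime 3) := ⟨Nat.prime_three⟩
  set M : Subgroup G := Subgroup.centralizer ({y} : Set G) with hM
  let R : Sylow 3 ↥M := Sylow.ofCard (U.subgroupOf M) (by
    rw [Nat.card_congr (Subgroup.subgroupOfEquivOfLe hU.1).toEquiv, hU.2, F.card27_iff]
    norm_num)
  have h := mem_of_mem_normalizer_sylow R (k := ⟨k, hk⟩) (by
    obtain ⟨l, -, hl⟩ := (Nat.dvd_prime_pow Nat.prime_three).mp
      (orderOf_dvd_of_pow_eq_one (show (⟨k, hk⟩ : ↥M) ^ 3 ^ i = 1 from Subtype.ext hord))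
    exact IsPGroup.of_card (n := l) (by rw [Nat.card_zpowers, hl])) ?_
  · exact h
  have hmap : U.map (MulAut.conj k).toMonoidHom = U := by
    refine Subgroup.eq_of_le_of_card_ge ?_
      (le_of_eq (Subgroup.card_map_of_injective (MulAut.conj k).injective).symm)
    rintro _ ⟨u, hu, rfl⟩
    exact hn u hu
  refine Subgroup.mem_normalizer_iff.mpr fun u => ⟨fun hu => hn _ hu, fun hu => ?_⟩
  have hu' : k * (u : G) * k⁻¹ ∈ U.map (MulAut.conj k).toMonoidHom := hmap.symm ▸ hu
  obtain ⟨v, hv, e⟩ := hu'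
  have e' : k * v * k⁻¹ = k * (u : G) * k⁻¹ := e
  rwa [mul_left_cancel (mul_right_cancel e')] at hv

theorem Frame.y_mem_all (F : Frame K y P₀) {U : Subgroup G} (hU : IsThreeSylow y U) : y ∈ U := by
  refine F.mem_of_normalizing hU (mem_cent.mpr rfl) (i := 1)
    (by rw [pow_one, ← F.three.order, pow_orderOf_eq_one]) fun u hu => ?_
  rwa [show y * u * y⁻¹ = u from mul_inv_eq_iff_eq_mul.mpr (mem_cent.mp (hU.1 hu)).symm]

theorem Frame.pow_mem_order (F : Frame K y P₀) {U : Subgroup G} (hU : IsThreeSylow y U) {u : G}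
    (hu : u ∈ U) : u ^ 3 ^ 3 = 1 := by
  have h := Subgroup.orderOf_dvd_natCard _ hu
  rw [hU.2] at h
  exact orderOf_dvd_iff_pow_eq_one.mp (by simpa using h)

theorem Frame.isConj_n_of_mem (F : Frame K y P₀) {U : Subgroup G} (hU : IsThreeSylow y U) {u : G}
    (hu : u ∈ U) (huy : u ∉ zpowers y) : IsConj L.n u := by
  haveI : Fact (Nat.Prime 3) := ⟨Nat.prime_three⟩
  set M : Subgroup G := Subgroup.centralizer ({y} : Set G) with hM
  let R : Sylow 3 ↥M := Sylow.ofCard (U.subgroupOf M) (by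
    rw [Nat.card_congr (Subgroup.subgroupOfEquivOfLe hU.1).toEquiv, hU.2, F.card27_iff]
    norm_num)
  obtain ⟨c, hc⟩ := MulAction.exists_smul_eq ↥M R (P₀.subtype F.le)
  have h : c * ⟨u, hU.1 hu⟩ * c⁻¹ ∈ ((c • R : Sylow 3 ↥M) : Subgroup ↥M) := by
    rw [Sylow.coe_subgroup_smul]
    exact ⟨_, hu, rfl⟩
  rw [hc] at h
  have h' : (c : G) * u * (c : G)⁻¹ ∈ (P₀ : Subgroup G) := h
  refine (F.out _ h' fun k => huy ?_).trans
    (isConj_iff.mpr ⟨(c : G), rfl⟩ : IsConj u ((c : G) * u * (c : G)⁻¹)).symm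
  obtain ⟨i, hi⟩ := mem_zpowers_iff.mp k
  refine mem_zpowers_iff.mpr ⟨i, ?_⟩
  calc y ^ i = (c : G)⁻¹ * ((c : G) * y ^ i) := by group
    _ = (c : G)⁻¹ * (y ^ i * (c : G)) := by
        rw [((show Commute (c : G) y from mem_cent.mp c.2).zpow_right i).eq]
    _ = u := by rw [hi]; group

/-- Elements attached to an identification of `B` with `A₅`. -/
def bOf (e : ↥K.B ≃* A5) (b : A5) : G := ((e.symm b : ↥K.B) : G)

theorem bOf_mem (e : ↥K.B ≃* A5) (b : A5) : bOf e b ∈ K.B := (e.symm b).2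

theorem bOf_mul (e : ↥K.B ≃* A5) (b c : A5) : bOf e (b * c) = bOf e b * bOf e c := by
  simp [bOf]

theorem bOf_inv (e : ↥K.B ≃* A5) (b : A5) : bOf e b⁻¹ = (bOf e b)⁻¹ := by simp [bOf]

theorem bOf_one (e : ↥K.B ≃* A5) : bOf e 1 = 1 := by simp [bOf]

theorem bOf_pow (e : ↥K.B ≃* A5) (b : A5) (m : ℕ) : bOf e (b ^ m) = bOf e b ^ m := by
  simp [bOf, map_pow]

theorem bOf_injective (e : ↥K.B ≃* A5) : Function.Injective (bOf e) :=
  fun _ _ h => e.symm.injective (Subtype.ext h)

theorem bOf_cent (hy : K.IsThree y) (e : ↥K.B ≃* A5) (b : A5) :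
    bOf e b ∈ Subgroup.centralizer ({y} : Set G) :=
  mem_cent.mpr (hy.comm _ (bOf_mem e b)).symm

theorem IsThreeSylow.conj {U : Subgroup G} (hU : IsThreeSylow y U) {g : G} {i : ℤ}
    (hg : g * y * g⁻¹ = y ^ i) (hi : y ^ i ^ 2 = y) :
    IsThreeSylow y (U.map (MulAut.conj g).toMonoidHom) := by
  refine ⟨?_, (Subgroup.card_map_of_injective (MulAut.conj g).injective).trans hU.2⟩
  rintro _ ⟨u, hu, rfl⟩
  have hyy : g * y ^ i * g⁻¹ = y := by rw [← conj_zpow, hg, ← zpow_mul, ← pow_two, hi]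
  have hc : Commute u (y ^ i) := (show Commute u y from mem_cent.mp (hU.1 hu)).zpow_right i
  refine mem_cent.mpr ?_
  show g * u * g⁻¹ * y = y * (g * u * g⁻¹)
  calc g * u * g⁻¹ * y = g * u * g⁻¹ * (g * y ^ i * g⁻¹) := by rw [hyy]
    _ = g * (u * y ^ i) * g⁻¹ := by group
    _ = g * (y ^ i * u) * g⁻¹ := by rw [hc.eq]
    _ = g * y ^ i * g⁻¹ * (g * u * g⁻¹) := by group
    _ = y * (g * u * g⁻¹) := by rw [hyy]

/-- The ten Sylow 3-subgroups of `C(y)` correspond to the subgroups of order three of `B`. -/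
theorem Frame.exists_ten (F : Frame K y P₀) (e : ↥K.B ≃* A5) :
    ∃ U : Fin 10 → Subgroup G, (∀ i, IsThreeSylow y (U i) ∧ bOf e (gT i) ∈ U i) ∧
      Function.Injective U ∧ (∀ V, IsThreeSylow y V → ∃ i, U i = V) ∧
      ∀ V i, IsThreeSylow y V → bOf e (gT i) ∈ V → V = U i := by
  classical
  haveI : Fact (Nat.Prime 3) := ⟨Nat.prime_three⟩
  set M : Subgroup G := Subgroup.centralizer ({y} : Set G) with hM
  have hex : ∀ i : Fin 10, ∃ V : Subgroup G, IsThreeSylow y V ∧ bOf e (gT i) ∈ V := by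
    intro i
    have h3 : (⟨bOf e (gT i), bOf_cent F.three e _⟩ : ↥M) ^ 3 = 1 := Subtype.ext (by
      show bOf e (gT i) ^ 3 = 1
      rw [← bOf_pow, (gT_spec.1 i).1, bOf_one])
    obtain ⟨l, -, hl⟩ := (Nat.dvd_prime_pow Nat.prime_three).mp (by
      simpa using orderOf_dvd_of_pow_eq_one h3 : orderOf (⟨bOf e (gT i), bOf_cent F.three e _⟩ : ↥M) ∣ 3 ^ 1)
    obtain ⟨R, hR⟩ := (IsPGroup.of_card (n := l) (by rw [Nat.card_zpowers, hl]) :
      IsPGroup 3 ↥(zpowers (⟨bOf e (gT i), bOf_cent F.three e _⟩ : ↥M))).exists_le_sylow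
    exact ⟨(R : Subgroup ↥M).map M.subtype, ⟨Subgroup.map_subtype_le _, by
      rw [Subgroup.card_map_of_injective M.subtype_injective, Sylow.card_eq_multiplicity, F.card27_iff]
      norm_num⟩, ⟨_, hR (mem_zpowers _), rfl⟩⟩
  choose U hU using hex
  have hmeet : ∀ V, IsThreeSylow y V → ∀ i k, bOf e (gT i) ∈ V → bOf e (gT k) ∈ V → i = k := by
    intro V hV i k hi hk
    set W := (V.subgroupOf K.B).map e.toMonoidHom with hW
    have hmem : ∀ b, bOf e b ∈ V → b ∈ W := fun b hb => ⟨e.symm b, hb, e.apply_symm_apply b⟩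
    have hc : Nat.card ↥W ∣ 3 := by
      rw [hW, Subgroup.card_map_of_injective e.injective]
      have h1 : Nat.card ↥(V.subgroupOf K.B) ∣ 60 := K.card_B ▸ Subgroup.card_subgroup_dvd_card _
      have h2 : Nat.card ↥(V.subgroupOf K.B) ∣ 27 := by
        rw [← hV.2]
        exact Subgroup.card_dvd_of_injective
          ((K.B.subtype.comp (V.subgroupOf K.B).subtype).codRestrict V fun w => w.2)
          fun p q h => Subtype.ext (Subtype.ext (congrArg Subtype.val h :))
      simpa using Nat.dvd_gcd h1 h2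
    have ho : orderOf (gT k) = 3 := orderOf_eq_prime (gT_spec.1 k).1 (gT_spec.1 k).2
    have heq : zpowers (gT k) = W := Subgroup.eq_of_le_of_card_ge (zpowers_le.mpr (hmem _ hk))
      (by rw [Nat.card_zpowers, ho]; exact Nat.le_of_dvd (by norm_num) hc)
    obtain ⟨m, hm⟩ := mem_zpowers_iff.mp (heq.symm ▸ hmem _ hi : gT i ∈ zpowers (gT k))
    rcases three_cases ho m with ⟨h', -⟩ | ⟨h', -⟩ | ⟨h', -⟩ <;> rw [h'] at hm
    · exact absurd hm.symm (gT_spec.1 i).2
    · exact gT_spec.2 i k (.inl hm.symm)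
    · exact gT_spec.2 i k (.inr hm.symm)
  have hinj : Function.Injective U := fun i k h => hmeet _ (hU k).1 i k (h ▸ (hU i).2) (hU k).2
  have hbij : Function.Bijective (fun i => (⟨U i, (hU i).1⟩ : {V : Subgroup G // IsThreeSylow y V})) :=
    (Nat.bijective_iff_injective_and_card _).mpr ⟨fun i k h => hinj (congrArg Subtype.val h :),
      by rw [F.card_threeSylows, Nat.card_fin]⟩
  refine ⟨U, hU, hinj, fun V hV => ?_, fun V i hV hi => ?_⟩
  · obtain ⟨i, hi⟩ := hbij.2 ⟨V, hV⟩
    exact ⟨i, congrArg Subtype.val hi⟩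
  · obtain ⟨k, hk⟩ := hbij.2 ⟨V, hV⟩
    have e' : U k = V := congrArg Subtype.val hk
    rw [← e', hmeet V hV i k hi (e' ▸ (hU k).2)]

set_option maxHeartbeats 1600000 in
/-- The key relation. -/
theorem Frame.commutator_eq (F : Frame K y P₀) (e : ↥K.B ≃* A5) {j : G} (hj2 : j * j = 1)
    (hjy : j * y * j⁻¹ = y⁻¹) (hjx : j * bOf e xT = bOf e xT * j) (hjw : j * bOf e wT = bOf e wT * j) :
    bOf e qT * (j * bOf e q1T * j⁻¹) * (bOf e qT)⁻¹ * (j * bOf e q1T * j⁻¹)⁻¹ = y ∨
      bOf e qT * (j * bOf e q1T * j⁻¹) * (bOf e qT)⁻¹ * (j * bOf e q1T * j⁻¹)⁻¹ = y⁻¹ := by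
  classical
  haveI : Fact (Nat.Prime 3) := ⟨Nat.prime_three⟩
  haveI : Fact (Nat.Prime 5) := ⟨by decide⟩
  obtain ⟨U, hU, hinj, hsurj, huniq⟩ := F.exists_ten e
  set M : Subgroup G := Subgroup.centralizer ({y} : Set G) with hM
  have hji : j⁻¹ = j := inv_of_sq hj2
  let cj : G → Subgroup G → Subgroup G := fun g V => V.map (MulAut.conj g).toMonoidHom
  have hcomp : ∀ g h V, cj g (cj h V) = cj (g * h) V := fun g h V => map_conj_comp V g h
  have hbU : ∀ b i, cj (bOf e b) (U i) = U (act b i) := by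
    intro b i
    have hc : IsThreeSylow y (cj (bOf e b) (U i)) :=
      (hU i).1.conj (i := 1) (by
        rw [zpow_one]; exact mul_inv_eq_iff_eq_mul.mpr (mem_cent.mp (bOf_cent F.three e b)))
        (by rw [one_pow, zpow_one])
    have hm : bOf e (b * gT i * b⁻¹) ∈ cj (bOf e b) (U i) :=
      ⟨_, (hU i).2, by simp [bOf_mul, bOf_inv]⟩
    refine huniq _ _ hc ?_
    rcases act_spec b i with h | h <;> rw [h] at hm
    · exact hm
    · simpa [bOf_inv] using inv_mem hm
  have hjU : ∀ i, ∃ k, cj j (U i) = U k := fun i => by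
    obtain ⟨k, hk⟩ := hsurj _ ((hU i).1.conj (g := j) (i := -1) (by rw [zpow_neg_one]; exact hjy)
      (by rw [show ((-1 : ℤ) ^ 2) = 1 by norm_num, zpow_one]))
    exact ⟨k, hk.symm⟩
  choose π hπ using hjU
  have hππ : ∀ i, π (π i) = i := fun i => hinj (by
    rw [← hπ, ← hπ, hcomp, hj2]; exact map_conj_one _)
  have hequiv : ∀ b, j * bOf e b = bOf e b * j → ∀ i, π (act b i) = act b (π i) := fun b hb i => hinj (by
    rw [← hπ, ← hbU, hcomp, hb, ← hcomp, hπ, hbU])
  have hxk : ∀ k : ℕ, j * bOf e (xT ^ k) = bOf e (xT ^ k) * j := fun k => by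
    rw [bOf_pow]; exact ((show Commute j (bOf e xT) from hjx).pow_right k).eq
  obtain ⟨hreps, hwfix, hw0, hw9, hpi⟩ := ten_reps
  have hfix : ∀ i, act wT i = i → π i = 0 ∨ π i = 9 := fun i hi =>
    hwfix _ (by rw [← hequiv wT hjw, hi])
  -- `π` is not trivial
  have hne : π 0 ≠ 0 := by
    intro h0
    have h9 : π 9 = 9 := by
      rcases hfix 9 hw9 with h | h
      · exact absurd ((hππ 9).symm.trans (by rw [h, h0])) (by decide)
      · exact h
    have hid : ∀ i, π i = i := by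
      intro i
      obtain ⟨k, hk | hk⟩ := hreps i <;> rw [hk, hequiv _ (hxk k)]
      · rw [h0]
      · rw [h9]
    -- the intersection of the ten subgroups is `⟨y⟩`
    set R : Subgroup G := ⨅ i, U i with hR
    have hRy : R = zpowers y := by
      have hyR : y ∈ R := Subgroup.mem_iInf.mpr fun i => F.y_mem_all (hU i).1
      refine (Subgroup.eq_of_le_of_card_ge (zpowers_le.mpr hyR) ?_).symm
      rw [Nat.card_zpowers, F.three.order]
      have hd : Nat.card ↥R ∣ 3 ^ 3 := by
        have h := Subgroup.card_dvd_of_le (iInf_le U 0)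
        rw [(hU 0).1.2] at h
        rwa [show (3 : ℕ) ^ 3 = 27 by norm_num]
      obtain ⟨l, hl, hl'⟩ := (Nat.dvd_prime_pow Nat.prime_three).mp hd
      interval_cases l
      · rw [hl']; norm_num
      · rw [hl']; norm_num
      · exfalso
        have hxR : ∀ r ∈ R, bOf e xT * r * (bOf e xT)⁻¹ ∈ R := by
          intro r hr
          refine Subgroup.mem_iInf.mpr fun i => ?_
          obtain ⟨k, hk⟩ : ∃ k, act xT k = i := by
            have hi : cj (bOf e xT) (cj (bOf e xT)⁻¹ (U i)) = U i := by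
              rw [hcomp, mul_inv_cancel]; exact map_conj_one _
            obtain ⟨k, hk⟩ := hsurj (cj (bOf e xT)⁻¹ (U i)) ((hU i).1.conj (i := 1) (by
              rw [zpow_one]; exact mul_inv_eq_iff_eq_mul.mpr
                (mem_cent.mp (inv_mem (bOf_cent F.three e xT)))) (by rw [one_pow, zpow_one]))
            exact ⟨k, hinj (by rw [← hbU, hk, hi])⟩
          rw [← hk, ← hbU]
          exact ⟨r, Subgroup.mem_iInf.mp hr k, rfl⟩
        let T6 := {r : ↥R // (r : G) ∉ zpowers y}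
        have h6 : Nat.card T6 = 6 := by
          have h1 := Nat.card_congr (Equiv.sumCompl fun r : ↥R => (r : G) ∈ zpowers y)
          rw [Nat.card_sum, hl'] at h1
          have h2 : Nat.card {r : ↥R // (r : G) ∈ zpowers y} = 3 := by
            rw [← F.three.order, ← Nat.card_zpowers]
            exact Nat.card_congr
              { toFun := fun r => ⟨r.1, r.2⟩
                invFun := fun r => ⟨⟨r.1, zpowers_le.mpr hyR r.2⟩, r.2⟩
                left_inv := fun _ => rfl
                right_inv := fun _ => rfl }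
          rw [h2] at h1
          show Nat.card {r : ↥R // (r : G) ∉ zpowers y} = 6
          norm_num at h1
          omega
        have hxy : Commute (bOf e xT) y := (mem_cent.mp (bOf_cent F.three e xT) :)
        let σ : Equiv.Perm T6 := Equiv.ofBijective
          (fun r => (⟨⟨_, hxR _ r.1.2⟩, fun hmem => r.2 (by
            obtain ⟨i, hi⟩ := mem_zpowers_iff.mp hmem
            refine mem_zpowers_iff.mpr ⟨i, ?_⟩
            have hc := (hxy.zpow_right i).eq
            have hi' : y ^ i = bOf e xT * ((r.1 : ↥R) : G) * (bOf e xT)⁻¹ := hi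
            refine mul_left_cancel (a := bOf e xT) ?_
            rw [hc, hi']; group)⟩ : T6))
          (Finite.injective_iff_bijective.mp fun r r' h => Subtype.ext (Subtype.ext
            (mul_left_cancel (mul_right_cancel (congrArg (fun u : T6 => ((u.1 : ↥R) : G)) h :)))))
        haveI : Fintype T6 := Fintype.ofFinite T6
        have hσn : ∀ (m : ℕ) (r : T6),
            ((((σ ^ m) r).1 : ↥R) : G) = bOf e xT ^ m * ((r.1 : ↥R) : G) * (bOf e xT ^ m)⁻¹ := by
          intro m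
          induction m with
          | zero => intro r; simp
          | succ m ih =>
            intro r
            rw [pow_succ', Equiv.Perm.mul_apply]
            show bOf e xT * ((((σ ^ m) r).1 : ↥R) : G) * (bOf e xT)⁻¹ = _
            rw [ih, pow_succ']; group
        have h5 : σ ^ 5 = 1 := Equiv.ext fun r => Subtype.ext (Subtype.ext (by
          rw [hσn, ← bOf_pow, five_xw.1, bOf_one]; simp))
        have hcount := Equiv.Perm.card_compl_support_modEq (p := 5) (n := 1) (σ := σ)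
          (by rw [pow_one]; exact h5)
        obtain ⟨r, hr⟩ : ∃ r, σ r = r := by
          by_contra h
          push Not at h
          have hs : σ.support = Finset.univ := Finset.eq_univ_of_forall fun r => Equiv.Perm.mem_support.mpr (h r)
          rw [hs, Finset.compl_univ, Finset.card_empty, ← Nat.card_eq_fintype_card, h6] at hcount
          exact absurd hcount (by decide)
        have hr' : bOf e xT * ((r.1 : ↥R) : G) * (bOf e xT)⁻¹ = ((r.1 : ↥R) : G) :=
          congrArg (fun u : T6 => ((u.1 : ↥R) : G)) hr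
        have h := dvd_card_cent_of_conj
          (F.isConj_n_of_mem (hU 0).1 (Subgroup.mem_iInf.mp r.1.2 0) r.2) (mul_inv_eq_iff_eq_mul.mp hr')
        rw [(K.cent_three_data F.three).1,
          orderOf_eq_prime (x := bOf e xT) (p := 5) (by rw [← bOf_pow, five_xw.1, bOf_one])
            (fun k => five_xw.2.1 (bOf_injective e (k.trans (bOf_one e).symm)))] at h
        norm_num at h
      · exfalso
        have h0 : R = U 0 := Subgroup.eq_of_le_of_card_ge (iInf_le U 0) (by rw [hl', (hU 0).1.2]; norm_num)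
        have h1 : R = U 1 := Subgroup.eq_of_le_of_card_ge (iInf_le U 1) (by rw [hl', (hU 1).1.2]; norm_num)
        exact absurd (hinj (h0.symm.trans h1)) (by decide)
    -- so `j` centralises `B`
    have hgen3 : ∀ i, j * bOf e (gT i) * j⁻¹ * (bOf e (gT i))⁻¹ ∈ zpowers y := by
      intro i
      set k := j * bOf e (gT i) * j⁻¹ * (bOf e (gT i))⁻¹ with hk
      have hki : k ∈ U i := by
        have h1 : j * bOf e (gT i) * j⁻¹ ∈ U i := by
          have h2 : cj j (U i) = U i := by rw [hπ, hid]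
          exact h2 ▸ ⟨_, (hU i).2, rfl⟩
        exact mul_mem h1 (inv_mem (hU i).2)
      rw [← hRy]
      refine Subgroup.mem_iInf.mpr fun l => F.mem_of_normalizing (hU l).1 ((hU i).1.1 hki)
        (F.pow_mem_order (hU i).1 hki) fun u hu => ?_
      have hmap : cj k (U l) = U l := by
        have h3 : ∀ m, cj j (U m) = U m := fun m => by rw [hπ, hid]
        rw [hk, hji, ← hcomp, ← hcomp, ← hcomp, ← bOf_inv, hbU, h3, hbU, h3]
        obtain ⟨l', hl'⟩ : ∃ l', l' = act (gT i) (act (gT i)⁻¹ l) := ⟨_, rfl⟩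
        rw [← hl']
        refine congrArg U (hinj ?_)
        rw [hl', ← hbU, ← hbU, hcomp, ← bOf_mul, mul_inv_cancel, bOf_one]
        exact map_conj_one _
      exact hmap ▸ ⟨u, hu, rfl⟩
    let H : Subgroup A5 :=
      { carrier := {b | j * bOf e b * j⁻¹ * (bOf e b)⁻¹ ∈ zpowers y}
        mul_mem' := fun {b c} hb hc => by
          simp only [Set.mem_setOf_eq] at hb hc ⊢
          have h : j * bOf e (b * c) * j⁻¹ * (bOf e (b * c))⁻¹ = (j * bOf e b * j⁻¹ * (bOf e b)⁻¹) *
              (bOf e b * (j * bOf e c * j⁻¹ * (bOf e c)⁻¹) * (bOf e b)⁻¹) := by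
            rw [bOf_mul]; group
          rw [h]
          refine mul_mem hb ?_
          obtain ⟨m, hm⟩ := mem_zpowers_iff.mp hc
          rw [← hm, ((show Commute (bOf e b) y from mem_cent.mp (bOf_cent F.three e b)).zpow_right m).eq,
            mul_inv_cancel_right]
          exact zpow_mem_zpowers y m
        one_mem' := by simp [bOf_one]
        inv_mem' := fun {b} hb => by
          simp only [Set.mem_setOf_eq] at hb ⊢
          obtain ⟨m, hm⟩ := mem_zpowers_iff.mp hb
          have hc : Commute (bOf e b)⁻¹ (y ^ (-m)) :=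
            ((show Commute (bOf e b) y from mem_cent.mp (bOf_cent F.three e b)).inv_left).zpow_right _
          have h : j * bOf e b⁻¹ * j⁻¹ * (bOf e b⁻¹)⁻¹ = (bOf e b)⁻¹ * y ^ (-m) * bOf e b := by
            rw [zpow_neg, hm, bOf_inv]; group
          rw [h, hc.eq, inv_mul_cancel_right]
          exact zpow_mem_zpowers y _ }
    have hH : ∀ b, j * bOf e b * j⁻¹ * (bOf e b)⁻¹ ∈ zpowers y := by
      intro b
      have hg : ∀ i, gT i ∈ H := hgen3
      obtain ⟨i, k, h | h | h | h⟩ := five_three_products b <;> rw [h]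
      · exact H.mul_mem (hg i) (hg k)
      · exact H.mul_mem (H.inv_mem (hg i)) (hg k)
      · exact H.mul_mem (hg i) (H.inv_mem (hg k))
      · exact H.mul_mem (H.inv_mem (hg i)) (H.inv_mem (hg k))
    have hcomm : ∀ b, Commute j (bOf e b) := by
      intro b
      have hinv : ∀ u : A5, u * u = 1 → Commute j (bOf e u) := by
        intro u hu
        obtain ⟨m, hm⟩ := mem_zpowers_iff.mp (hH u)
        have hu' : bOf e u * bOf e u = 1 := by rw [← bOf_mul, hu, bOf_one]
        have hc : Commute (y ^ m) (bOf e u) :=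
          ((show Commute (bOf e u) y from mem_cent.mp (bOf_cent F.three e u)).zpow_right m).symm
        have h1 : j * bOf e u * j⁻¹ = y ^ m * bOf e u := by rw [hm]; group
        have h2 : y ^ m * y ^ m = 1 := by
          have h3 : (y ^ m * bOf e u) * (y ^ m * bOf e u) = 1 := by
            rw [← h1, show j * bOf e u * j⁻¹ * (j * bOf e u * j⁻¹) = j * (bOf e u * bOf e u) * j⁻¹ by group,
              hu', mul_one, mul_inv_cancel]
          rwa [mul_assoc, ← mul_assoc (bOf e u), ← hc.eq, mul_assoc (y ^ m) (bOf e u), hu', mul_one] at h3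
        have h4 : y ^ m = 1 := eq_one_of_coprime_orders (m := 2) (n := 3) (by norm_num)
          (by rw [pow_two]; exact h2)
          (by rw [← zpow_natCast, ← zpow_mul, mul_comm, zpow_mul, zpow_natCast, ← F.three.order,
            pow_orderOf_eq_one, one_zpow])
        rw [h4, one_mul] at h1
        exact mul_inv_eq_iff_eq_mul.mp h1
      obtain ⟨u, v, hu, hv, huv⟩ := five_inv_products b
      rw [← huv, bOf_mul]
      exact (hinv u hu).mul_right (hinv v hv)
    -- impossible inside `C(n)`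
    have hjn : j * L.n = L.n * j := by
      have := (hcomm (e ⟨L.n, K.n_mem⟩)).eq
      simpa [bOf] using this
    obtain ⟨t, ht, v, ⟨i, l, hil⟩, hd⟩ := (K.cent_three_data F.three).2.1 j hjn
    have hv : Commute v y := by
      rw [← hil]
      exact ((Commute.refl y).zpow_left i).mul_left (F.three.comm_n.symm.zpow_left l)
    have h1 : t * y * t⁻¹ = y⁻¹ := by
      rw [← hjy, ← hd, show t * v * y * (t * v)⁻¹ = t * (v * y * v⁻¹) * t⁻¹ by group, hv.eq, mul_inv_cancel_right]
    have h2 : y ^ (-2 : ℤ) * L.n ^ (0 : ℤ) ∈ L.T := by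
      rw [zpow_zero, mul_one, show y ^ (-2 : ℤ) = y⁻¹ * y⁻¹ by group]
      nth_rw 1 [← h1]
      rw [show t * y * t⁻¹ * y⁻¹ = t * (y * t⁻¹ * y⁻¹) by group]
      exact mul_mem ht ((Subgroup.mem_normalizer_iff.mp F.three.norm _).mp (inv_mem ht))
    have h3 := (F.three.indep h2).1
    have h4 : orderOf y ∣ 2 := orderOf_dvd_of_pow_eq_one (by
      rw [zpow_neg, inv_eq_one] at h3; exact_mod_cast h3)
    rw [F.three.order] at h4
    norm_num at h4
  -- `π` is the table
  have hπ09 : π 0 = 9 ∧ π 9 = 0 := by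
    have h0 : π 0 = 9 := (hfix 0 hw0).resolve_left hne
    exact ⟨h0, h0 ▸ hππ 0⟩
  have hπT : ∀ i, π i = piTab i := by
    intro i
    obtain ⟨k, hk | hk⟩ := hreps i <;> rw [hk, hequiv _ (hxk k)]
    · rw [hπ09.1, (hpi k).1]
    · rw [hπ09.2, (hpi k).2]
  obtain ⟨h5q, h8, hp8, hkey⟩ := ten_key
  set q := bOf e qT with hq
  set t := j * bOf e q1T * j⁻¹ with ht
  have hqU : q ∈ U 5 := by rw [hq, ← h5q]; exact (hU 5).2
  have htU : t ∈ U 5 := by
    have h : bOf e q1T ∈ U 8 := by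
      rcases h8 with h | h
      · rw [← h]; exact (hU 8).2
      · rw [show q1T = (gT 8)⁻¹ by rw [h, inv_inv], bOf_inv]; exact inv_mem (hU 8).2
    rw [← hp8, ← hπT, ← hπ]
    exact ⟨_, h, rfl⟩
  -- the commutator is in `⟨y⟩`
  have hcy : q * t * q⁻¹ * t⁻¹ ∈ zpowers y := by
    set V := U 5 with hV
    have hV27 : Nat.card ↥V = 27 := (hU 5).1.2
    set Yc : Subgroup ↥V := zpowers ⟨y, F.y_mem_all (hU 5).1⟩ with hYc
    haveI : Yc.Normal := ⟨fun n hn g => by
      obtain ⟨m, rfl⟩ := mem_zpowers_iff.mp hn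
      have hc : Commute g (⟨y, F.y_mem_all (hU 5).1⟩ : ↥V) := Subtype.ext (mem_cent.mp ((hU 5).1.1 g.2))
      rw [(hc.zpow_right m).eq, mul_inv_cancel_right]
      exact zpow_mem_zpowers _ m⟩
    have h9 : Nat.card (↥V ⧸ Yc) = 3 ^ 2 := by
      have h := Subgroup.card_eq_card_quotient_mul_card_subgroup Yc
      rw [hV27, hYc, Nat.card_zpowers, ← Subgroup.orderOf_coe, show orderOf y = 3 from F.three.order] at h
      rw [hYc]; omega
    have hab := (IsPGroup.isMulCommutative_of_card_eq_prime_sq h9).is_comm.comm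
      (QuotientGroup.mk (⟨q, hqU⟩ : ↥V)) (QuotientGroup.mk (⟨t, htU⟩ : ↥V))
    have hm : (⟨q, hqU⟩ : ↥V) * ⟨t, htU⟩ * ⟨q, hqU⟩⁻¹ * ⟨t, htU⟩⁻¹ ∈ Yc := by
      rw [← QuotientGroup.eq_one_iff, QuotientGroup.mk_mul, QuotientGroup.mk_mul, QuotientGroup.mk_mul,
        QuotientGroup.mk_inv, QuotientGroup.mk_inv, hab]
      group
    obtain ⟨m, hm'⟩ := mem_zpowers_iff.mp hm
    exact mem_zpowers_iff.mpr ⟨m, congrArg Subtype.val hm'⟩
  obtain ⟨m, hm⟩ := mem_zpowers_iff.mp hcy
  rcases three_cases F.three.order m with ⟨h', -⟩ | ⟨h', -⟩ | ⟨h', -⟩ <;> rw [h'] at hm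
  · -- `t` is outside `C(q) ∩ U 5 = ⟨q, y⟩`
    exfalso
    have hqt : q * t = t * q := mul_inv_eq_iff_eq_mul.mp (mul_inv_eq_one.mp hm.symm)
    have hq1 : q ≠ 1 := fun k => five_xw.2.2.2.2.2.2.2.2.1 (bOf_injective e (k.trans (bOf_one e).symm))
    have hq3 : q ^ 3 = 1 := by rw [hq, ← bOf_pow, five_xw.2.2.2.2.2.2.2.1, bOf_one]
    have hqy : q ∉ zpowers y := fun h => hq1 (K.center_trivial (bOf_mem e _) fun w hw => by
      obtain ⟨i, hi⟩ := mem_zpowers_iff.mp h
      rw [← hi]
      exact ((show Commute y w from F.three.comm w hw).zpow_left i).eq)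
    have hcyq : Commute y q := F.three.comm q (bOf_mem e _)
    set Eg := pairGroup y q hcyq with hEg
    set W : Subgroup G := U 5 ⊓ Subgroup.centralizer ({q} : Set G) with hW
    have hEW : Eg ≤ W := by
      rintro _ ⟨i, l, rfl⟩
      refine ⟨mul_mem (zpow_mem (F.y_mem_all (hU 5).1) i) (zpow_mem hqU l), mem_cent.mpr ?_⟩
      exact ((hcyq.zpow_left i).mul_left ((Commute.refl q).zpow_left l)).eq
    have hW9 : Nat.card ↥W ∣ 9 := by
      have h1 := Subgroup.card_dvd_of_le (inf_le_left : W ≤ U 5)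
      rw [(hU 5).1.2] at h1
      have h2 := Subgroup.card_dvd_of_le (inf_le_right : W ≤ Subgroup.centralizer ({q} : Set G))
      obtain ⟨g, hg⟩ := isConj_iff.mp (F.isConj_n_of_mem (hU 5).1 hqU hqy)
      rw [show Nat.card ↥(Subgroup.centralizer ({q} : Set G)) = 36 by
        rw [← hg, BSW.card_cent_conj, (K.cent_three_data F.three).1]] at h2
      exact (show Nat.gcd 27 36 = 9 by norm_num) ▸ Nat.dvd_gcd h1 h2
    have hgt : 3 < Nat.card ↥Eg := by
      rw [← F.three.order, ← Nat.card_zpowers]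
      by_contra hle
      have h := Subgroup.eq_of_le_of_card_ge (zpowers_le.mpr left_mem_pairGroup : zpowers y ≤ Eg)
        (by omega)
      exact hqy (h ▸ right_mem_pairGroup)
    have heq : Eg = W := Subgroup.eq_of_le_of_card_ge hEW (by
      have hd : Nat.card ↥Eg ∣ 3 ^ 2 := (Subgroup.card_dvd_of_le hEW).trans (by simpa using hW9)
      obtain ⟨l, hl, hl'⟩ := (Nat.dvd_prime_pow Nat.prime_three).mp hd
      have h9 := Nat.le_of_dvd (by norm_num) hW9
      interval_cases l <;> omega)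
    obtain ⟨i, l, hil⟩ : t ∈ Eg := heq ▸ ⟨htU, mem_cent.mpr hqt.symm⟩
    obtain ⟨m₀, hm₀⟩ : ∃ m₀ : Fin 3, q ^ l = q ^ (m₀ : ℕ) := by
      rcases three_cases (orderOf_eq_prime hq3 hq1) l with ⟨h, -⟩ | ⟨h, -⟩ | ⟨h, -⟩ <;> rw [h]
      · exact ⟨0, by simp⟩
      · exact ⟨1, by simp⟩
      · exact ⟨2, (eq_inv_of_mul_eq_one_left ((pow_succ q 2).symm.trans hq3)).symm⟩
    obtain ⟨r, hr⟩ := hkey m₀
    apply hr
    apply hinj
    rw [← hπT, ← hπT, ← hπ, ← hbU, ← hπ, hcomp, hcomp]
    nth_rw 2 [← hji]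
    rw [← ht, ← hil, hm₀, ← hcomp, ← bOf_pow, hbU]
    have hyV : ∀ r', cj (y ^ i) (U r') = U r' := by
      intro r'
      refine Subgroup.eq_of_le_of_card_ge ?_
        (le_of_eq (Subgroup.card_map_of_injective (MulAut.conj (y ^ i)).injective).symm)
      rintro _ ⟨u, hu, rfl⟩
      show y ^ i * u * (y ^ i)⁻¹ ∈ U r'
      have hcu : Commute u (y ^ i) := (show Commute u y from mem_cent.mp ((hU r').1.1 hu)).zpow_right i
      rwa [← hcu.eq, mul_inv_cancel_right]
    exact hyV _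
  · exact .inl hm.symm
  · exact .inr hm.symm

end Setup.Local.Factor

end Cfsg.Agent.HallJankoType
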