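import Cfsg.Agent.Lib.HallJankoType.SylowFive

/-!
Elements of order five of `C(z)` commute with no element of order prime to ten; consequences for the
elements of order five in a group of Hall–Janko type.
-/

set_option autoImplicit false
set_option linter.style.haveILetI false
set_option linter.unusedSectionVars false

namespace Cfsg.Agent.HallJankoType

open Cfsg.Agent.JankoOrder (Inv inv_iff_orderOf)
open Subgroup

universe u

theorem odd_mem_of_index_two {M : Type u} [Group M] {H : Subgroup M} (h : H.index = 2) {m : M}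
    (hm : Odd (orderOf m)) : m ∈ H := by
  obtain ⟨j, hj⟩ := hm
  have h2 : m * m ∈ H := Subgroup.mul_self_mem_of_index_two h m
  have e : (m * m) ^ (j + 1) = m := by
    rw [← pow_two, ← pow_mul, show 2 * (j + 1) = 2 * j + 1 + 1 by ring, ← hj, pow_succ,
      pow_orderOf_eq_one, one_mul]
  exact e ▸ pow_mem h2 _

theorem eq_one_of_coprime_orders {M : Type u} [Group M] {c : M} {m n : ℕ} (hmn : Nat.Coprime m n)
    (hm : c ^ m = 1) (hn : c ^ n = 1) : c = 1 :=
  orderOf_eq_one_iff.mp (Nat.eq_one_of_dvd_coprimes hmn (orderOf_dvd_of_pow_eq_one hm)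
    (orderOf_dvd_of_pow_eq_one hn))

theorem conj_comm_zpowers {G : Type u} [Group G] {w v r c : G}
    (h : (Subgroup.zpowers w).map (MulAut.conj c).toMonoidHom = Subgroup.zpowers v)
    (hr : r * w = w * r) : c * r * c⁻¹ * v = v * (c * r * c⁻¹) := by
  obtain ⟨u, hu, e⟩ := h.ge (Subgroup.mem_zpowers v)
  obtain ⟨k, hk⟩ := Subgroup.mem_zpowers_iff.mp hu
  have e' : c * u * c⁻¹ = v := e
  have hc : Commute r u := hk ▸ (show Commute r w from hr).zpow_right k
  rw [← e']
  calc c * r * c⁻¹ * (c * u * c⁻¹) = c * (r * u) * c⁻¹ := by group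
    _ = c * u * c⁻¹ * (c * r * c⁻¹) := by rw [hc.eq]; group

namespace Setup

variable {G : Type u} [Group G] (S : Setup G) [Finite G]

set_option maxHeartbeats 800000 in
/-- An element of order five of `C(z)` commutes with no nontrivial element of order prime to ten. -/
theorem cent_five_coprime {g r : G} (hg : g ∈ S.C) (h5 : orderOf g = 5)
    (hr : Nat.Coprime (orderOf r) 10) (hrg : r * g = g * r) : r = 1 := by
  classical
  haveI : Fact (Nat.Prime 2) := ⟨Nat.prime_two⟩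
  haveI : Fact (Nat.Prime 5) := ⟨by decide⟩
  set M : Subgroup G := Subgroup.centralizer ({g} : Set G) with hM
  have hgM : g ∈ M := mem_cent.mpr rfl
  have hzM : S.z ∈ M := mem_cent.mpr (S.z_comm hg).symm
  set zy : ↥M := ⟨S.z, hzM⟩ with hzy
  have hzo : orderOf zy = 2 := by rw [← Subgroup.orderOf_coe]; exact S.hz
  have h2 : 2 ∣ Nat.card ↥M := hzo ▸ orderOf_dvd_natCard zy
  have h4 : ¬ 2 ^ 2 ∣ Nat.card ↥M := fun h => by
    obtain ⟨V, hV, hzV⟩ := Sylow.exists_subgroup_card_pow_prime_le 2 (n := 1) (m := 2) h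
      (zpowers zy) (by rw [Nat.card_zpowers, hzo, pow_one]) (by norm_num)
    have hab := IsPGroup.isMulCommutative_of_card_eq_prime_sq hV
    have hle : V.map M.subtype ≤ S.C ⊓ Subgroup.centralizer ({g} : Set G) := by
      rintro _ ⟨v, hv, rfl⟩
      exact Subgroup.mem_inf.mpr ⟨mem_cent.mpr (congrArg (fun w : ↥V => ((w : ↥M) : G))
        (hab.is_comm.comm (⟨v, hv⟩ : ↥V) ⟨zy, hzV (mem_zpowers _)⟩)), v.2⟩
    have h' := Subgroup.card_dvd_of_le hle
    rw [Subgroup.card_map_of_injective M.subtype_injective, hV, S.card_cent_five hg h5] at h'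
    norm_num at h'
  obtain ⟨R⟩ : Nonempty (Sylow 2 ↥M) := inferInstance
  have hR2 : Nat.card ↥(R : Subgroup ↥M) = 2 := by
    obtain ⟨i, hi⟩ := R.2.exists_card_eq
    have hd : 2 ^ i ∣ Nat.card ↥M := hi ▸ Subgroup.card_subgroup_dvd_card (R : Subgroup ↥M)
    have hd2 : 2 ^ 1 ∣ Nat.card ↥(R : Subgroup ↥M) := R.pow_dvd_card_of_pow_dvd_card (by rwa [pow_one])
    rw [hi] at hd2 ⊢
    have h1 : 1 ≤ i := (Nat.pow_dvd_pow_iff_le_right (by norm_num)).mp hd2
    have h1' : i ≤ 1 := by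
      by_contra k
      exact h4 ((pow_dvd_pow 2 (by omega)).trans hd)
    rw [show i = 1 by omega, pow_one]
  have hcyc : IsCyclic ↥(R : Subgroup ↥M) := isCyclic_of_prime_card hR2
  have hmin : (Nat.card ↥M).minFac = 2 := (Nat.minFac_eq_two_iff _).mpr h2
  set M₀ := (MonoidHom.transferSylow R (hcyc.normalizer_le_centralizer hmin)).ker with hM₀
  have hc : M₀.IsComplement' (R : Subgroup ↥M) := IsCyclic.isComplement' hmin hcyc
  have hodd : ¬ 2 ∣ Nat.card ↥M₀ := fun h => R.not_dvd_index (hc.index_eq_card.symm ▸ h)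
  have hidx : M₀.index = 2 := by
    have h1 := M₀.card_mul_index
    rw [← hc.card_mul_card, hR2] at h1
    exact Nat.eq_of_mul_eq_mul_left Nat.card_pos h1
  have hin : ∀ m : ↥M, Odd (orderOf (m : G)) → m ∈ M₀ := fun m hm =>
    odd_mem_of_index_two hidx (by rwa [← Subgroup.orderOf_coe])
  haveI : M₀.Normal := MonoidHom.normal_ker _
  set gy : ↥M₀ := ⟨⟨g, hgM⟩, hin _ (by rw [h5]; decide)⟩ with hgy
  set Yc : Subgroup ↥M₀ := zpowers gy with hYc
  haveI hYn : Yc.Normal := ⟨fun n hn m => by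
    obtain ⟨k, rfl⟩ := mem_zpowers_iff.mp hn
    have hcm : Commute m gy := Subtype.ext (Subtype.ext (mem_cent.mp (m : ↥M).2))
    rw [(hcm.zpow_right k).eq, mul_inv_cancel_right]
    exact zpow_mem_zpowers _ k⟩
  let φ₀ : ↥M₀ →* ↥M₀ := (MulAut.conjNormal zy : MulAut ↥M₀).toMonoidHom
  have hφ₀ : ∀ m : ↥M₀, (((φ₀ m : ↥M₀) : ↥M) : G) = S.z * ((m : ↥M) : G) * S.z⁻¹ := fun _ => rfl
  have hzg : Commute S.z g := (S.z_comm hg).symm
  have hle : Yc ≤ Yc.comap φ₀ := zpowers_le.mpr (by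
    have e : φ₀ gy = gy := Subtype.ext (Subtype.ext (by
      rw [hφ₀]
      show S.z * g * S.z⁻¹ = g
      rw [hzg.eq, mul_inv_cancel_right]))
    rw [Subgroup.mem_comap, e]
    exact mem_zpowers _)
  let φ := QuotientGroup.map Yc Yc φ₀ hle
  have hfree : MonoidHom.FixedPointFree φ := by
    intro q hq
    obtain ⟨m, rfl⟩ := QuotientGroup.mk'_surjective Yc q
    have h1 : (QuotientGroup.mk (φ₀ m) : ↥M₀ ⧸ Yc) = QuotientGroup.mk m := hq
    obtain ⟨k, hk⟩ := mem_zpowers_iff.mp (QuotientGroup.eq.mp h1)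
    have e : g ^ k = (S.z * ((m : ↥M) : G) * S.z⁻¹)⁻¹ * ((m : ↥M) : G) :=
      congrArg (fun w : ↥M₀ => ((w : ↥M) : G)) hk
    set v : G := ((m : ↥M) : G) with hv
    have hzk : Commute S.z (g ^ k) := hzg.zpow_right k
    have e1 : v = S.z * v * S.z⁻¹ * g ^ k := by rw [e]; group
    have hck : Commute v (g ^ k) := (show Commute v g from mem_cent.mp (m : ↥M).2).zpow_right k
    have e2 : S.z * v * S.z⁻¹ = v * g ^ k := by
      calc S.z * v * S.z⁻¹ = S.z * (S.z * v * S.z⁻¹ * g ^ k) * S.z⁻¹ := by rw [← e1]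
        _ = (S.z * S.z) * v * (S.z⁻¹ * (g ^ k * S.z⁻¹)) := by group
        _ = v * g ^ k := by
          rw [← hzk.inv_left.eq, S.zz, one_mul, inv_of_sq S.zz, ← mul_assoc S.z S.z, S.zz, one_mul]
    have hk1 : g ^ k = 1 := by
      refine eq_one_of_coprime_orders (m := 2) (n := 5) (by norm_num) ?_ ?_
      · rw [e2, mul_assoc] at e1
        rw [pow_two]
        exact (mul_eq_left (a := v)).mp e1.symm
      · rw [← zpow_natCast, ← zpow_mul, mul_comm, zpow_mul, zpow_natCast, ← h5, pow_orderOf_eq_one, one_zpow]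
    rw [hk1, mul_one] at e2
    have hvH : v ∈ S.C ⊓ Subgroup.centralizer ({g} : Set G) :=
      Subgroup.mem_inf.mpr ⟨mem_cent.mpr (mul_inv_eq_iff_eq_mul.mp e2).symm, (m : ↥M).2⟩
    have hgH : g ∈ S.C ⊓ Subgroup.centralizer ({g} : Set G) := Subgroup.mem_inf.mpr ⟨hg, hgM⟩
    have hi2 : (zpowers (⟨g, hgH⟩ : ↥(S.C ⊓ Subgroup.centralizer ({g} : Set G) : Subgroup G))).index = 2 := by
      have h := Subgroup.index_mul_card
        (zpowers (⟨g, hgH⟩ : ↥(S.C ⊓ Subgroup.centralizer ({g} : Set G) : Subgroup G)))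
      rw [Nat.card_zpowers, ← Subgroup.orderOf_coe, show orderOf g = 5 from h5, S.card_cent_five hg h5] at h
      omega
    have hvodd : Odd (orderOf v) := by
      rw [Nat.odd_iff, ← Nat.two_dvd_ne_zero]
      intro h
      apply hodd
      refine h.trans ?_
      rw [hv, Subgroup.orderOf_coe, Subgroup.orderOf_coe]
      exact orderOf_dvd_natCard m
    obtain ⟨j, hj⟩ := mem_zpowers_iff.mp
      (odd_mem_of_index_two hi2 (m := ⟨v, hvH⟩) (by rwa [← Subgroup.orderOf_coe]))
    have ej : g ^ j = v := congrArg Subtype.val hj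
    exact (QuotientGroup.eq_one_iff m).mpr (mem_zpowers_iff.mpr ⟨j, Subtype.ext (Subtype.ext ej)⟩)
  have hinvol : Function.Involutive φ := by
    intro q
    obtain ⟨m, rfl⟩ := QuotientGroup.mk'_surjective Yc q
    show (QuotientGroup.mk (φ₀ (φ₀ m)) : ↥M₀ ⧸ Yc) = QuotientGroup.mk m
    congr 1
    refine Subtype.ext (Subtype.ext ?_)
    rw [hφ₀, hφ₀, inv_of_sq S.zz]
    calc S.z * (S.z * ((m : ↥M) : G) * S.z) * S.z = (S.z * S.z) * ((m : ↥M) : G) * (S.z * S.z) := by group
      _ = _ := by rw [S.zz, one_mul, mul_one]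
  have hinv := hfree.coe_eq_inv_of_involutive hinvol
  have hab : ∀ p q : ↥M₀ ⧸ Yc, p * q = q * p := fun p q => by
    have h1 : φ (p * q) = φ p * φ q := map_mul φ p q
    rw [congrFun hinv, congrFun hinv, congrFun hinv] at h1
    rw [← inv_inv (p * q), h1, mul_inv_rev, inv_inv, inv_inv]
  -- `r` centralises a Sylow 5-subgroup
  obtain ⟨P, hP⟩ := (IsPGroup.of_card (n := 1) (by rw [Nat.card_zpowers, h5, pow_one]) :
    IsPGroup 5 ↥(zpowers g)).exists_le_sylow
  obtain ⟨hself, h25, -⟩ := S.sylow_five P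
  have h10 : Nat.Coprime (orderOf r) 5 := hr.coprime_dvd_right ⟨2, rfl⟩
  have hrodd : Odd (orderOf r) := by
    rw [Nat.odd_iff, ← Nat.two_dvd_ne_zero]
    intro h
    exact absurd (Nat.dvd_gcd h (dvd_refl 2)) (by
      rw [show Nat.gcd (orderOf r) 2 = 1 from hr.coprime_dvd_right ⟨5, rfl⟩]; norm_num)
  have hpc : ∀ p ∈ (P : Subgroup G), r * p = p * r := by
    intro p hp
    have hpM : p ∈ M := mem_cent.mpr (by
      have := (IsPGroup.isMulCommutative_of_card_eq_prime_sq (p := 5)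
        (show Nat.card ↥(P : Subgroup G) = 5 ^ 2 by rw [h25]; norm_num)).is_comm.comm
          (⟨p, hp⟩ : ↥(P : Subgroup G)) ⟨g, hP (mem_zpowers g)⟩
      exact congrArg Subtype.val this)
    have hpodd : Odd (orderOf p) := by
      rw [Nat.odd_iff, ← Nat.two_dvd_ne_zero]
      intro h
      have h' := h.trans (Subgroup.orderOf_dvd_natCard _ hp)
      rw [h25] at h'
      norm_num at h'
    set r₀ : ↥M₀ := ⟨⟨r, mem_cent.mpr hrg⟩, hin _ hrodd⟩
    set p₀ : ↥M₀ := ⟨⟨p, hpM⟩, hin _ hpodd⟩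
    have h1 : (QuotientGroup.mk (r₀ * p₀) : ↥M₀ ⧸ Yc) = QuotientGroup.mk (p₀ * r₀) :=
      hab (QuotientGroup.mk r₀) (QuotientGroup.mk p₀)
    obtain ⟨k, hk⟩ := mem_zpowers_iff.mp (QuotientGroup.eq.mp h1)
    have e : g ^ k = (r * p)⁻¹ * (p * r) := congrArg (fun w : ↥M₀ => ((w : ↥M) : G)) hk
    have hc : Commute r (g ^ k) := (show Commute r g from hrg).zpow_right k
    have e1 : p⁻¹ * r⁻¹ * p = g ^ k * r⁻¹ := by rw [e]; group
    have hk1 : g ^ k = 1 := by
      refine eq_one_of_coprime_orders (m := orderOf r) (n := 5) h10 ?_ ?_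
      · have h := congrArg (· ^ orderOf r) e1
        simp only [hc.inv_left.symm.mul_pow, inv_pow, pow_orderOf_eq_one, inv_one, mul_one] at h
        rw [← h, show p⁻¹ * r⁻¹ * p = p⁻¹ * r⁻¹ * p⁻¹⁻¹ by rw [inv_inv], conj_pow, inv_pow,
          pow_orderOf_eq_one]
        group
      · rw [← zpow_natCast, ← zpow_mul, mul_comm, zpow_mul, zpow_natCast, ← h5, pow_orderOf_eq_one, one_zpow]
    rw [hk1] at e
    exact (inv_mul_eq_one.mp e.symm)
  have hrP : r ∈ (P : Subgroup G) := by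
    rw [← hself]
    exact Subgroup.mem_centralizer_iff.mpr fun p hp => (hpc p hp).symm
  have hd := Subgroup.orderOf_dvd_natCard _ hrP
  rw [h25] at hd
  exact orderOf_eq_one_iff.mp (Nat.eq_one_of_dvd_coprimes (h10.pow_right 2) dvd_rfl (by simpa using hd))

/-- If `r` of order prime to ten commutes with an element of order five, a conjugate of it commutes
with a given element of order five of `B`. -/
theorem exists_conj_comm_five {a : G} {L : Setup.Local S a} (K : Setup.Local.Factor L) {x : G}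
    (hx : x ∈ K.B) (hx5 : orderOf x = 5) {r w : G} (hw : orderOf w = 5)
    (hr : Nat.Coprime (orderOf r) 10) (hr1 : r ≠ 1) (hrw : r * w = w * r) :
    ∃ c : G, c * r * c⁻¹ * x = x * (c * r * c⁻¹) := by
  haveI : Fact (Nat.Prime 5) := ⟨by decide⟩
  obtain ⟨P, hP⟩ := (IsPGroup.of_card (n := 1) (by rw [Nat.card_zpowers, hx5, pow_one]) :
    IsPGroup 5 ↥(zpowers x)).exists_le_sylow
  obtain ⟨-, -, -, Y, -, -, hall⟩ := K.sylow_five_data hx hx5 P (hP (mem_zpowers x))
  obtain ⟨g, hg, hg5⟩ := S.exists_five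
  obtain ⟨c, hc | hc⟩ := hall (zpowers w) (by rw [Nat.card_zpowers, hw])
  · exact ⟨c, conj_comm_zpowers hc hrw⟩
  obtain ⟨c', hc' | hc'⟩ := hall (zpowers g) (by rw [Nat.card_zpowers, hg5])
  · exfalso
    have hcz := conj_comm_zpowers hc' (S.z_comm hg).symm
    have hzc : IsConj S.z (c' * S.z * c'⁻¹) := isConj_iff.mpr ⟨c', rfl⟩
    exact S.not_conj_outside L.outside
      (hzc.trans ((K.cent_five_data hx hx5).2.1 _ (conj_inv_iff hzc S.inv_z) hcz).symm)
  exfalso
  have hwg : (zpowers w).map (MulAut.conj (c'⁻¹ * c)).toMonoidHom = zpowers g := by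
    rw [← map_conj_comp, hc, ← hc', map_conj_comp, inv_mul_cancel, map_conj_one]
  refine hr1 (conj_eq_one_iff.mp (S.cent_five_coprime hg hg5 ?_ (conj_comm_zpowers hwg hrw)))
  rwa [← MulAut.conj_apply, MulEquiv.orderOf_eq]

end Setup

end Cfsg.Agent.HallJankoType
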