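import Cfsg.Agent.Lib.HallJankoType.SylowSeven

/-!
The centralizer of a 3-central element of order three in a group of Hall–Janko type has order 1080;
its ten Sylow 3-subgroups meet in `⟨y⟩`.
-/

set_option autoImplicit false
set_option linter.style.haveILetI false
set_option linter.unusedSectionVars false

namespace Cfsg.Agent.HallJankoType

open Cfsg.Agent.JankoOrder (Inv inv_iff_orderOf)
open Subgroup

universe u

local notation "A5" => alternatingGroup (Fin 5)

set_option maxRecDepth 8000 in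
theorem five_three_conj : ∀ g h : A5, g ^ 3 = 1 ∧ g ≠ 1 → h ^ 3 = 1 ∧ h ≠ 1 → ∃ b : A5, b * g * b⁻¹ = h := by
  decide +kernel

set_option maxRecDepth 8000 in
theorem five_three_cent' : ∀ g : A5, g ^ 3 = 1 ∧ g ≠ 1 → ∀ h : A5, h * g = g * h → h = 1 ∨ h = g ∨ h = g * g := by
  decide +kernel

namespace Setup

variable {G : Type u} [Group G] (S : Setup G) [Finite G]

/-- An element of order three of `C` centralises at most 24 elements of `C`. -/
theorem card_cent_C_three {y : G} (hy : y ∈ S.C) (h3 : orderOf y = 3) :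
    Nat.card ↥(S.C ⊓ Subgroup.centralizer ({y} : Set G) : Subgroup G) ≤ 24 := by
  classical
  set M := (S.C ⊓ Subgroup.centralizer ({y} : Set G) : Subgroup G) with hM
  have hy3 : y ^ 3 = 1 := h3 ▸ pow_orderOf_eq_one y
  have hyQ : y ∉ S.Q := fun h => by
    have := Subgroup.orderOf_dvd_natCard _ h
    rw [h3, S.card_Q] at this
    norm_num at this
  set K := (S.Q ⊓ Subgroup.centralizer ({y} : Set G) : Subgroup G) with hK
  have hK8 : Nat.card ↥K ≤ 8 := by
    have hd : Nat.card ↥K ∣ 2 ^ 5 := by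
      rw [show (2 : ℕ) ^ 5 = Nat.card ↥S.Q by rw [S.card_Q]; norm_num]
      exact Subgroup.card_dvd_of_le inf_le_left
    have hfix : ∀ k ∈ K, y * k * y⁻¹ = k := fun k hk =>
      mul_inv_eq_iff_eq_mul.mpr (mem_cent.mp hk.2).symm
    obtain ⟨i, hi, he⟩ := (Nat.dvd_prime_pow Nat.prime_two).mp hd
    interval_cases i <;> first | omega | skip
    · exact absurd (S.mem_Q_of_fix inf_le_left he hy hy3 hfix) hyQ
    · exfalso
      have hall : K = S.Q := Subgroup.eq_of_le_of_card_ge inf_le_left (by rw [S.card_Q, he]; norm_num)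
      exact hyQ (S.self y hy fun q hq => (mem_cent.mp (hall.symm ▸ hq : q ∈ K).2).symm)
  set g : A5 := S.ψ ⟨y, hy⟩ with hg
  have hg' : g ^ 3 = 1 ∧ g ≠ 1 := ⟨by
    rw [hg, ← map_pow]
    convert map_one S.ψ using 2
    exact Subtype.ext hy3, fun k => hyQ ((S.mem_Q_iff hy).mpr k)⟩
  let χ : ↥M →* A5 := S.ψ.comp (Subgroup.inclusion inf_le_left)
  have hk : Nat.card ↥χ.ker ≤ 8 := by
    refine le_trans (Nat.card_le_card_of_injective (fun m => (⟨((m : ↥M) : G), ?_⟩ : ↥K))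
      fun p q e => Subtype.ext (Subtype.ext (congrArg Subtype.val e :))) hK8
    exact Subgroup.mem_inf.mpr ⟨(S.mem_Q_iff (m : ↥M).2.1).mpr m.2, (m : ↥M).2.2⟩
  have hr : Nat.card ↥χ.range ≤ 3 := by
    refine le_trans ?_ (show Nat.card ↥(zpowers g) ≤ 3 by
      rw [Nat.card_zpowers, orderOf_eq_prime (hp := ⟨Nat.prime_three⟩) hg'.1 hg'.2])
    refine Nat.le_of_dvd Nat.card_pos (Subgroup.card_dvd_of_le ?_)
    rintro _ ⟨m, rfl⟩
    have hc : χ m * g = g * χ m := by
      show S.ψ ⟨(m : G), m.2.1⟩ * S.ψ ⟨y, hy⟩ = S.ψ ⟨y, hy⟩ * S.ψ ⟨(m : G), m.2.1⟩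
      rw [← map_mul, ← map_mul]
      exact congrArg S.ψ (Subtype.ext (mem_cent.mp m.2.2))
    rcases five_three_cent' g hg' _ hc with e | e | e <;> rw [e]
    · exact one_mem _
    · exact mem_zpowers g
    · exact mul_mem (mem_zpowers g) (mem_zpowers g)
  have h := χ.ker.card_mul_index
  rw [Subgroup.index_ker] at h
  have := Nat.mul_le_mul hk hr
  omega

end Setup

namespace Setup.Local.Factor

variable {G : Type u} [Group G] {S : Setup G} [Finite G] {a : G} {L : Setup.Local S a}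
  {K : Setup.Local.Factor L} {y : G}

/-- `y` commutes with no conjugate of `a`. -/
theorem IsThree.not_comm_a (hy : K.IsThree y) {j : G} (hj : IsConj a j) (hjy : j * y = y * j) : False := by
  obtain ⟨g, rfl⟩ := isConj_iff.mp hj
  set r := g⁻¹ * y * g with hr
  have hrD : r ∈ Subgroup.centralizer ({a} : Set G) := mem_cent.mpr (by
    calc r * a = g⁻¹ * (y * (g * a * g⁻¹)) * g := by rw [hr]; group
      _ = g⁻¹ * (g * a * g⁻¹ * y) * g := by rw [hjy]
      _ = a * r := by rw [hr]; group)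
  have hr3 : r ^ 3 = 1 := by
    rw [hr, show g⁻¹ * y * g = g⁻¹ * y * g⁻¹⁻¹ by group, conj_pow, ← hy.order, pow_orderOf_eq_one,
      mul_one, mul_inv_cancel]
  obtain ⟨t, ht, b, hb, e⟩ := K.decomp hrD
  have htb : Commute t b := K.T_comm ht hb
  have h3 : t ^ 3 * b ^ 3 = 1 := by rw [← htb.mul_pow, e, hr3]
  obtain ⟨ht3, hb3⟩ := K.unique (pow_mem ht 3) (pow_mem hb 3) h3
  have ht1 : t = 1 := eq_one_of_coprime_orders (m := 2) (n := 3) (by norm_num)
    (by rw [pow_two]; exact S.E_sq L.outside ht.1) ht3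
  rw [ht1, one_mul] at e
  have hr1 : r ≠ 1 := fun k => by
    have hy1 : y = 1 := by
      calc y = g * r * g⁻¹ := by rw [hr]; group
        _ = 1 := by rw [k, mul_one, mul_inv_cancel]
    have := hy.order
    rw [hy1, orderOf_one] at this
    norm_num at this
  obtain ⟨f⟩ := K.nonempty_iso
  have hmk : ∀ w (hw : w ∈ K.B), w ^ 3 = 1 → w ≠ 1 → f ⟨w, hw⟩ ^ 3 = 1 ∧ f ⟨w, hw⟩ ≠ 1 := fun w hw h3 h1 => by
    refine ⟨?_, fun k => ?_⟩
    · rw [← map_pow]
      convert map_one f using 2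
      exact Subtype.ext h3
    · rw [EmbeddingLike.map_eq_one_iff] at k
      exact h1 (congrArg Subtype.val k)
  have hrB : r ∈ K.B := e ▸ hb
  obtain ⟨c, hc⟩ := five_three_conj _ _ (hmk L.n K.n_mem L.n_cube L.n_ne) (hmk r hrB hr3 hr1)
  obtain ⟨c, rfl⟩ := f.surjective c
  rw [← map_inv, ← map_mul, ← map_mul] at hc
  refine hy.not_conj_pow (w := y) (isConj_iff.mpr ⟨g * c, ?_⟩) 1 (zpow_one y).symm
  have hc' : (c : G) * L.n * (c : G)⁻¹ = r := congrArg Subtype.val (f.injective hc)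
  calc g * (c : G) * L.n * (g * (c : G))⁻¹ = g * ((c : G) * L.n * (c : G)⁻¹) * g⁻¹ := by group
    _ = y := by rw [hc', hr]; group

/-- The Sylow data of `C(y)`. -/
structure Frame (K : Setup.Local.Factor L) (y : G) (P₀ : Sylow 3 G) : Prop where
  three : K.IsThree y
  le : (P₀ : Subgroup G) ≤ Subgroup.centralizer ({y} : Set G)
  y_mem : y ∈ (P₀ : Subgroup G)
  card27 : Nat.card ↥(P₀ : Subgroup G) = 27
  out : ∀ p ∈ (P₀ : Subgroup G), p ∉ zpowers y → IsConj L.n p
  card108 : Nat.card ↥(Subgroup.normalizer ((P₀ : Subgroup G) : Set G) ⊓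
    Subgroup.centralizer ({y} : Set G) : Subgroup G) = 108

theorem IsThree.exists_frame (hy : K.IsThree y) : ∃ P₀ : Sylow 3 G, Frame K y P₀ := by
  obtain ⟨P, h1, -, -, h27, -, -, hout, hc, h108⟩ := hy.sylow_three_data
  exact ⟨P, hy, fun p hp => mem_cent.mpr (hc p hp), h1, h27, hout, h108⟩

variable {P₀ : Sylow 3 G}

theorem Frame.card_sylow_and_cent (F : Frame K y P₀) :
    Nat.card ↥(Subgroup.centralizer ({y} : Set G)) = 1080 ∧
      Nat.card (Sylow 3 ↥(Subgroup.centralizer ({y} : Set G))) = 10 := by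
  classical
  haveI : Fact (Nat.Prime 2) := ⟨Nat.prime_two⟩
  haveI : Fact (Nat.Prime 3) := ⟨Nat.prime_three⟩
  haveI : Fact (Nat.Prime 5) := ⟨by decide⟩
  haveI : Fact (Nat.Prime 7) := ⟨by decide⟩
  have hy := F.three
  set M : Subgroup G := Subgroup.centralizer ({y} : Set G) with hM
  set H : Subgroup G := Subgroup.normalizer ((P₀ : Subgroup G) : Set G) ⊓ M with hH
  have hn : Subgroup.normalizer (((P₀.subtype F.le : Sylow 3 ↥M) : Subgroup ↥M) : Set ↥M) =
      H.subgroupOf M := by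
    ext c
    rw [Subgroup.mem_subgroupOf, hH, Subgroup.mem_inf, Subgroup.mem_normalizer_iff,
      Subgroup.mem_normalizer_iff]
    refine ⟨fun h => ⟨fun p => ⟨fun hp => (h ⟨p, F.le hp⟩).mp hp, fun hp => ?_⟩, c.2⟩, fun h p => h.1 p⟩
    have hpM : p ∈ M := by
      have := mul_mem (mul_mem (inv_mem c.2) (F.le hp)) c.2
      simpa [mul_assoc] using this
    exact (h ⟨p, hpM⟩).mpr hp
  have hidx : Nat.card (Sylow 3 ↥M) = (H.subgroupOf M).index :=
    (Sylow.card_eq_index_normalizer (P₀.subtype F.le)).trans (congrArg Subgroup.index hn)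
  have hlag := Subgroup.index_mul_card (H.subgroupOf M)
  rw [← hidx, Nat.card_congr (Subgroup.subgroupOfEquivOfLe (show H ≤ M from inf_le_right)).toEquiv,
    show Nat.card ↥H = 108 from F.card108] at hlag
  have hmod : Nat.card (Sylow 3 ↥M) % 3 = 1 := card_sylow_modEq_one 3 ↥M
  obtain ⟨x, hx, hx5⟩ := K.exists_five_mem
  have h5 : 5 ∣ Nat.card ↥M := hx5 ▸ Subgroup.orderOf_dvd_natCard _ (mem_cent.mpr (hy.comm x hx).symm)
  have h25 : ¬ 5 ^ 2 ∣ Nat.card ↥M := by
    intro h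
    obtain ⟨W, hW⟩ := Sylow.exists_subgroup_card_pow_prime 5 h
    have hWs : Nat.card ↥(W.map M.subtype) = 5 ^ (Nat.card G).factorization 5 := by
      rw [Subgroup.card_map_of_injective (Subgroup.subtype_injective _), hW, S.card_group,
        Nat.factorization_def _ (by norm_num : Nat.Prime 5), show (604800 : ℕ) = 5 ^ 2 * 24192 by norm_num,
        padicValNat.mul (by norm_num) (by norm_num), padicValNat.prime_pow,
        padicValNat.eq_zero_of_not_dvd (by norm_num : ¬ 5 ∣ 24192)]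
    have hy5 : y ∈ ((Sylow.ofCard _ hWs : Sylow 5 G) : Subgroup G) := by
      rw [← (S.sylow_five (Sylow.ofCard _ hWs)).1, Subgroup.mem_centralizer_iff]
      rintro _ ⟨p, -, rfl⟩
      exact mem_cent.mp p.2
    have h' := Subgroup.orderOf_dvd_natCard _ hy5
    rw [hy.order, (S.sylow_five _).2.1] at h'
    norm_num at h'
  have h7 : ¬ 7 ∣ Nat.card ↥M := by
    intro h
    obtain ⟨d, hd⟩ := exists_prime_orderOf_dvd_card' (G := ↥M) 7 h
    rw [← Subgroup.orderOf_coe] at hd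
    obtain ⟨D, hD⟩ := (IsPGroup.of_card (n := 1) (by rw [Nat.card_zpowers, hd, pow_one]) :
      IsPGroup 7 ↥(zpowers (d : G))).exists_le_sylow
    have hD7 : Nat.card ↥(D : Subgroup G) = 7 := by
      rw [Sylow.card_eq_multiplicity, S.card_group, Nat.factorization_def _ (by norm_num : Nat.Prime 7),
        show (604800 : ℕ) = 7 ^ 1 * 86400 by norm_num, padicValNat.mul (by norm_num) (by norm_num),
        padicValNat.prime_pow, padicValNat.eq_zero_of_not_dvd (by norm_num : ¬ 7 ∣ 86400)]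
      norm_num
    have heq : zpowers (d : G) = (D : Subgroup G) :=
      Subgroup.eq_of_le_of_card_ge hD (by rw [hD7, Nat.card_zpowers, hd])
    have hyD : y ∈ (D : Subgroup G) := by
      rw [← (S.sylow_seven D).1, Subgroup.mem_centralizer_iff]
      intro p hp
      obtain ⟨i, hi⟩ := mem_zpowers_iff.mp (heq.symm ▸ hp : p ∈ zpowers (d : G))
      rw [← hi]
      exact ((show Commute (d : G) y from mem_cent.mp d.2).zpow_left i).eq
    have h' := Subgroup.orderOf_dvd_natCard _ hyD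
    rw [hy.order, hD7] at h'
    norm_num at h'
  have h16 : ¬ 2 ^ 4 ∣ Nat.card ↥M := by
    intro h
    obtain ⟨W, hW⟩ := Sylow.exists_subgroup_card_pow_prime 2 h
    have hWp : IsPGroup 2 ↥W := IsPGroup.of_card hW
    haveI : Nontrivial ↥W := Finite.one_lt_card_iff_nontrivial.mp (by rw [hW]; norm_num)
    haveI := hWp.center_nontrivial
    obtain ⟨c₀, hc₀⟩ := exists_prime_orderOf_dvd_card' (G := ↥(Subgroup.center ↥W)) 2 (by
      obtain ⟨n, hn, hc⟩ := (hWp.to_subgroup (Subgroup.center ↥W)).nontrivial_iff_card.mp inferInstance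
      rw [hc]; exact dvd_pow_self 2 hn.ne')
    rw [← Subgroup.orderOf_coe, ← Subgroup.orderOf_coe, ← Subgroup.orderOf_coe] at hc₀
    set c : G := (((c₀ : ↥W) : ↥M) : G) with hc
    have hcy : c * y = y * c := mem_cent.mp (((c₀ : ↥W) : ↥M)).2
    rcases S.two_conj_classes L.outside (inv_iff_orderOf.mpr hc₀) with hz | ha
    swap
    · exact hy.not_comm_a ha hcy
    obtain ⟨g, hg⟩ := isConj_iff.mp hz
    set y' := g⁻¹ * y * g with hy'
    have hy'C : y' ∈ S.C := mem_cent.mpr (by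
      calc y' * S.z = g⁻¹ * (y * (g * S.z * g⁻¹)) * g := by rw [hy']; group
        _ = g⁻¹ * (g * S.z * g⁻¹ * y) * g := by rw [hg, hcy]
        _ = S.z * y' := by rw [hy']; group)
    have hy'3 : orderOf y' = 3 := by
      rw [hy', show g⁻¹ * y * g = g⁻¹ * y * g⁻¹⁻¹ by group, ← MulAut.conj_apply, MulEquiv.orderOf_eq, hy.order]
    have hmap : (W.map M.subtype).map (MulAut.conj g⁻¹).toMonoidHom ≤
        (S.C ⊓ Subgroup.centralizer ({y'} : Set G) : Subgroup G) := by
      rintro _ ⟨_, ⟨w, hw, rfl⟩, rfl⟩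
      have hwy : (w : G) * y = y * w := mem_cent.mp w.2
      have hwc : (w : G) * c = c * w :=
        congrArg (fun v : ↥W => ((v : ↥M) : G)) (Subgroup.mem_center_iff.mp c₀.2 ⟨w, hw⟩)
      refine Subgroup.mem_inf.mpr ⟨mem_cent.mpr ?_, mem_cent.mpr ?_⟩
      · show g⁻¹ * (w : G) * g⁻¹⁻¹ * S.z = S.z * (g⁻¹ * (w : G) * g⁻¹⁻¹)
        calc g⁻¹ * (w : G) * g⁻¹⁻¹ * S.z = g⁻¹ * ((w : G) * (g * S.z * g⁻¹)) * g := by group
          _ = g⁻¹ * (g * S.z * g⁻¹ * w) * g := by rw [hg, hwc]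
          _ = S.z * (g⁻¹ * (w : G) * g⁻¹⁻¹) := by group
      · show g⁻¹ * (w : G) * g⁻¹⁻¹ * y' = y' * (g⁻¹ * (w : G) * g⁻¹⁻¹)
        calc g⁻¹ * (w : G) * g⁻¹⁻¹ * y' = g⁻¹ * ((w : G) * y) * g := by rw [hy']; group
          _ = g⁻¹ * (y * w) * g := by rw [hwy]
          _ = y' * (g⁻¹ * (w : G) * g⁻¹⁻¹) := by rw [hy']; group
    have hd := Subgroup.card_dvd_of_le hmap
    rw [Subgroup.card_map_of_injective (MulAut.conj g⁻¹).injective,
      Subgroup.card_map_of_injective M.subtype_injective, hW] at hd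
    have hle := S.card_cent_C_three hy'C hy'3
    have hpos : 0 < Nat.card ↥(S.C ⊓ Subgroup.centralizer ({y'} : Set G) : Subgroup G) := Nat.card_pos
    have h3 : 3 ∣ Nat.card ↥(S.C ⊓ Subgroup.centralizer ({y'} : Set G) : Subgroup G) :=
      hy'3 ▸ Subgroup.orderOf_dvd_natCard _ (show y' ∈ _ from ⟨hy'C, mem_cent.mpr rfl⟩)
    omega
  set n := Nat.card (Sylow 3 ↥M) with hn'
  have hdvd : Nat.card ↥M ∣ Nat.card G := Subgroup.card_subgroup_dvd_card M
  rw [S.card_group, ← hlag] at hdvd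
  rw [← hlag] at h5 h25 h7 h16 ⊢
  have hn5 : n ∣ 5600 := Nat.dvd_of_mul_dvd_mul_right (by norm_num : 0 < 108) (by simpa using hdvd)
  have hn5' : 5 ∣ n := (Nat.Coprime.dvd_of_dvd_mul_right (by norm_num) h5)
  have hn25 : ¬ 5 ^ 2 ∣ n := fun k => h25 (dvd_mul_of_dvd_left k _)
  have hn7 : ¬ 7 ∣ n := fun k => h7 (dvd_mul_of_dvd_left k _)
  have hn4 : ¬ 2 ^ 2 ∣ n := fun k => h16 (by
    have := mul_dvd_mul k (show 2 ^ 2 ∣ 108 by norm_num)
    simpa using this)
  obtain ⟨k, hk⟩ := hn5'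
  rw [hk] at hn5 hn25 hn7 hn4 hmod ⊢
  have hk1 : k ∣ 2 ^ 5 * (5 * 7) := Nat.dvd_of_mul_dvd_mul_left (by norm_num : 0 < 5) (by simpa using hn5)
  have hk5 : ¬ 5 ∣ k * 1 := fun h => hn25 (by rw [pow_two]; exact mul_dvd_mul_left 5 (by simpa using h))
  have hk7 : ¬ 7 ∣ k := fun h => hn7 (dvd_mul_of_dvd_right h 5)
  have hk2 : k ∣ 2 ^ 5 :=
    ((((Nat.Prime.coprime_iff_not_dvd (by decide : Nat.Prime 5)).mpr (by simpa using hk5)).symm).mul_right
      (((Nat.Prime.coprime_iff_not_dvd (by decide : Nat.Prime 7)).mpr hk7).symm)).dvd_of_dvd_mul_right hk1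
  obtain ⟨i, hi, rfl⟩ := (Nat.dvd_prime_pow Nat.prime_two).mp hk2
  interval_cases i <;> omega

end Setup.Local.Factor

end Cfsg.Agent.HallJankoType
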