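import Cfsg.Agent.Lib.HallJankoType.ThreeBase

/-!
The elements of order three of `N(T) ≅ A₄ × A₅` and the centralizer of the one in `B`, in a group of
Hall–Janko type.
-/

set_option autoImplicit false
set_option linter.style.haveILetI false
set_option linter.unusedSectionVars false

namespace Cfsg.Agent.HallJankoType

open Cfsg.Agent.JankoOrder (Inv inv_iff_orderOf)
open Subgroup

universe u

local notation "A5" => alternatingGroup (Fin 5)

set_option maxRecDepth 8000 in
theorem five_three_cent : ∀ g : A5, g ^ 3 = 1 ∧ g ≠ 1 → Fintype.card {x : A5 // x * g = g * x} = 3 := by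
  decide +kernel

set_option maxRecDepth 8000 in
theorem five_three_inverter : ∀ g : A5, g ^ 3 = 1 ∧ g ≠ 1 →
    ∃ w : A5, w * w = 1 ∧ w ≠ 1 ∧ w * g * w⁻¹ = g⁻¹ := by
  decide +kernel

/-- The products of powers of two commuting elements. -/
def pairGroup {G : Type u} [Group G] (y x : G) (h : Commute y x) : Subgroup G where
  carrier := {w | ∃ i j : ℤ, y ^ i * x ^ j = w}
  mul_mem' := by
    rintro _ _ ⟨i, j, rfl⟩ ⟨k, l, rfl⟩
    refine ⟨i + k, j + l, ?_⟩
    have hc : Commute (x ^ j) (y ^ k) := (h.symm.zpow_left j).zpow_right k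
    rw [zpow_add, zpow_add]
    calc y ^ i * y ^ k * (x ^ j * x ^ l) = y ^ i * (y ^ k * x ^ j) * x ^ l := by group
      _ = y ^ i * (x ^ j * y ^ k) * x ^ l := by rw [hc.eq]
      _ = y ^ i * x ^ j * (y ^ k * x ^ l) := by group
  one_mem' := ⟨0, 0, by simp⟩
  inv_mem' := by
    rintro _ ⟨i, j, rfl⟩
    refine ⟨-i, -j, ?_⟩
    have hc : Commute (y ^ (-i)) (x ^ (-j)) := (h.zpow_left _).zpow_right _
    rw [hc.eq]; group

theorem mem_pairGroup {G : Type u} [Group G] {y x w : G} {h : Commute y x} :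
    w ∈ pairGroup y x h ↔ ∃ i j : ℤ, y ^ i * x ^ j = w := Iff.rfl

theorem left_mem_pairGroup {G : Type u} [Group G] {y x : G} {h : Commute y x} : y ∈ pairGroup y x h :=
  ⟨1, 0, by simp⟩

theorem right_mem_pairGroup {G : Type u} [Group G] {y x : G} {h : Commute y x} : x ∈ pairGroup y x h :=
  ⟨0, 1, by simp⟩

/-- An element of order three of the `A₄` part of `N(T)`. -/
structure Setup.Local.Factor.IsThree {G : Type u} [Group G] {S : Setup G} [Finite G] {a : G}
    {L : Setup.Local S a} (K : Setup.Local.Factor L) (y : G) : Prop where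
  order : orderOf y = 3
  norm : y ∈ Subgroup.normalizer (L.T : Set G)
  comm : ∀ b ∈ K.B, y * b = b * y
  free : ∀ t ∈ L.T, t * y = y * t → t = 1

namespace Setup.Local.Factor

variable {G : Type u} [Group G] {S : Setup G} [Finite G] {a : G} {L : Setup.Local S a}
  (K : Setup.Local.Factor L)

theorem n_order : orderOf L.n = 3 := by
  haveI : Fact (Nat.Prime 3) := ⟨Nat.prime_three⟩
  exact orderOf_eq_prime L.n_cube L.n_ne

theorem exists_isThree : ∃ y, K.IsThree y := by
  classical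
  haveI : Fact (Nat.Prime 3) := ⟨Nat.prime_three⟩
  set A : Subgroup G := Subgroup.normalizer (L.T : Set G) ⊓ Subgroup.centralizer (K.B : Set G) with hA
  have hcomm : ∀ g ∈ A, ∀ b ∈ K.B, g * b = b * g := fun g hg b hb =>
    (Subgroup.mem_centralizer_iff.mp hg.2 b hb).symm
  have h2 : (A ⊓ Subgroup.centralizer ({a} : Set G) : Subgroup G) = L.T := by
    refine le_antisymm (fun d hd => ?_) fun t ht => ?_
    · obtain ⟨t, ht, b, hb, rfl⟩ := K.decomp hd.2
      have hb1 : b = 1 := K.center_trivial hb fun w hw => by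
        have h := hcomm _ hd.1 w hw
        have e : t * (b * w) = t * (w * b) := by
          calc t * (b * w) = t * b * w := by group
            _ = w * (t * b) := h
            _ = (w * t) * b := by group
            _ = t * (w * b) := by rw [← K.T_comm ht hw]; group
        exact mul_left_cancel e
      rw [hb1, mul_one]; exact ht
    · exact ⟨⟨Subgroup.le_normalizer ht, Subgroup.mem_centralizer_iff.mpr fun b hb => (K.T_comm ht hb).symm⟩,
        T_le ht⟩
  have hmove : ∀ t ∈ L.T, t ≠ 1 → ∃ g ∈ A, g * t * g⁻¹ = a := by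
    intro t ht ht1
    obtain ⟨g, hg, hga⟩ := K.exists_move_T ht ht1
    obtain ⟨b, hb, hact⟩ := K.normalizer_data.2 g hg
    have hbT : ∀ s ∈ L.T, b⁻¹ * s * b = s := fun s hs => by
      rw [mul_assoc, K.T_comm hs hb, inv_mul_cancel_left]
    refine ⟨b⁻¹ * g, ⟨mul_mem ?_ hg, Subgroup.mem_centralizer_iff.mpr fun w hw => ?_⟩, ?_⟩
    · refine Subgroup.centralizer_le_normalizer _ (Subgroup.mem_centralizer_iff.mpr fun s hs => ?_)
      exact K.T_comm hs (inv_mem hb)
    · calc w * (b⁻¹ * g) = b⁻¹ * (b * w * b⁻¹) * g := by group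
        _ = b⁻¹ * (g * w * g⁻¹) * g := by rw [hact w hw]
        _ = b⁻¹ * g * w := by group
    · calc b⁻¹ * g * t * (b⁻¹ * g)⁻¹ = b⁻¹ * (g * t * g⁻¹) * b := by group
        _ = a := by rw [hga, hbT a L.a_mem_T]
  have h1 : Nat.card {v : G // ∃ g ∈ A, g * a * g⁻¹ = v} = 3 := by
    have e1 := Nat.card_congr (Equiv.sumCompl fun x : ↥L.T => (x : G) = 1)
    rw [Nat.card_sum, L.card_T] at e1
    have e2 : Nat.card {x : ↥L.T // (x : G) = 1} = 1 :=
      Nat.card_eq_one_iff_unique.mpr ⟨⟨fun p q => Subtype.ext (Subtype.ext (p.2.trans q.2.symm))⟩,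
        ⟨⟨1, rfl⟩⟩⟩
    have e3 : Nat.card {x : ↥L.T // ¬ (x : G) = 1} = Nat.card {v : G // ∃ g ∈ A, g * a * g⁻¹ = v} := by
      refine Nat.card_congr
        { toFun := fun x => ⟨x.1, ?_⟩
          invFun := fun v => ⟨⟨v.1, ?_⟩, ?_⟩
          left_inv := fun _ => rfl
          right_inv := fun _ => rfl }
      · obtain ⟨g, hg, e⟩ := hmove x.1 x.1.2 x.2
        exact ⟨g⁻¹, inv_mem hg, (congrArg (fun w => g⁻¹ * w * g⁻¹⁻¹) e).symm.trans (by group)⟩
      · obtain ⟨g, hg, e⟩ := v.2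
        exact e ▸ (Subgroup.mem_normalizer_iff.mp hg.1 a).mp L.a_mem_T
      · obtain ⟨g, hg, e⟩ := v.2
        exact fun k => L.outside.isInv.2 (conj_eq_one_iff.mp (e.trans k))
    omega
  have h := card_orbit_mul A a
  rw [h1, h2, L.card_T] at h
  obtain ⟨y, hy⟩ := exists_prime_orderOf_dvd_card' (G := ↥A) 3 (by rw [← h]; norm_num)
  rw [← Subgroup.orderOf_coe] at hy
  refine ⟨y, hy, y.2.1, hcomm _ y.2, fun t ht hty => ?_⟩
  by_contra ht1
  obtain ⟨g, hg, hga⟩ := hmove t ht ht1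
  have hmem : g * (y : G) * g⁻¹ ∈ L.T := by
    rw [← h2]
    refine ⟨A.mul_mem (A.mul_mem hg y.2) (A.inv_mem hg), mem_cent.mpr ?_⟩
    rw [← hga]
    calc g * (y : G) * g⁻¹ * (g * t * g⁻¹) = g * (y * t) * g⁻¹ := by group
      _ = g * (t * y) * g⁻¹ := by rw [hty]
      _ = g * t * g⁻¹ * (g * y * g⁻¹) := by group
  have hd := Subgroup.orderOf_dvd_natCard _ hmem
  rw [L.card_T, ← MulAut.conj_apply, MulEquiv.orderOf_eq, hy] at hd
  norm_num at hd

variable {y : G}

theorem IsThree.comm_n {K : Setup.Local.Factor L} (hy : K.IsThree y) : Commute y L.n :=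
  hy.comm _ K.n_mem

theorem IsThree.comm_z {K : Setup.Local.Factor L} (hy : K.IsThree y) : Commute y S.z :=
  hy.comm _ K.z_mem

/-- `⟨y, n⟩ ∩ T = 1` and `⟨y⟩ ∩ ⟨n⟩ = 1`. -/
theorem IsThree.indep {K : Setup.Local.Factor L} (hy : K.IsThree y) {i j : ℤ}
    (h : y ^ i * L.n ^ j ∈ L.T) : y ^ i = 1 ∧ L.n ^ j = 1 := by
  have h1 : y ^ i * L.n ^ j = 1 := by
    refine eq_one_of_coprime_orders (m := 2) (n := 3) (by norm_num) (by rw [pow_two]; exact S.E_sq L.outside h.1) ?_
    rw [((hy.comm_n.zpow_left i).zpow_right j).mul_pow, ← zpow_natCast, ← zpow_natCast (L.n ^ j), ← zpow_mul,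
      ← zpow_mul, mul_comm i, mul_comm j, zpow_mul, zpow_mul, zpow_natCast, zpow_natCast,
      ← hy.order, pow_orderOf_eq_one, hy.order, L.n_cube, one_zpow, one_zpow, one_mul]
  have hB : y ^ i ∈ K.B := by
    rw [eq_inv_of_mul_eq_one_left h1]; exact inv_mem (zpow_mem K.n_mem j)
  have hyi : y ^ i = 1 := K.center_trivial hB fun b hb => ((show Commute y b from hy.comm b hb).zpow_left i).eq
  rw [hyi, one_mul] at h1
  exact ⟨hyi, h1⟩

include K in
/-- `C(n) ∩ C(a) = T × ⟨n⟩`. -/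
theorem mem_cent_three {d : G} (hd : d ∈ Subgroup.centralizer ({a} : Set G))
    (hdx : d * L.n = L.n * d) : ∃ t ∈ L.T, ∃ i ∈ Subgroup.zpowers L.n, t * i = d := by
  obtain ⟨e⟩ := K.nonempty_iso
  obtain ⟨t, ht, b, hb, rfl⟩ := K.decomp hd
  refine ⟨t, ht, b, ?_, rfl⟩
  have hbx : b * L.n = L.n * b := by
    have e' : t * (b * L.n) = t * (L.n * b) := by
      calc t * (b * L.n) = t * b * L.n := by group
        _ = L.n * (t * b) := hdx
        _ = (L.n * t) * b := by group
        _ = t * (L.n * b) := by rw [← K.T_comm ht K.n_mem]; group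
    exact mul_left_cancel e'
  have hg : e ⟨L.n, K.n_mem⟩ ^ 3 = 1 ∧ e ⟨L.n, K.n_mem⟩ ≠ 1 := by
    refine ⟨?_, fun k => ?_⟩
    · rw [← map_pow]
      convert map_one e using 2
      exact Subtype.ext L.n_cube
    · rw [EmbeddingLike.map_eq_one_iff] at k
      exact L.n_ne (congrArg Subtype.val k)
  classical
  let f : ↥(Subgroup.zpowers L.n) → {g : A5 // g * e ⟨L.n, K.n_mem⟩ = e ⟨L.n, K.n_mem⟩ * g} := fun i =>
    ⟨e ⟨i, (Subgroup.zpowers_le.mpr K.n_mem) i.2⟩, by
      rw [← map_mul, ← map_mul]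
      refine congrArg e (Subtype.ext ?_)
      obtain ⟨k, hk⟩ := Subgroup.mem_zpowers_iff.mp i.2
      show (i : G) * L.n = L.n * (i : G)
      rw [← hk]
      exact ((Commute.refl L.n).zpow_left k).eq⟩
  have hf : Function.Bijective f := by
    refine (Nat.bijective_iff_injective_and_card f).mpr ⟨fun i j k => ?_, ?_⟩
    · have k' := e.injective (congrArg Subtype.val k)
      exact Subtype.ext (congrArg Subtype.val k' :)
    · rw [Nat.card_zpowers, n_order, Nat.card_eq_fintype_card, five_three_cent _ hg]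
  obtain ⟨i, hi⟩ := hf.2 ⟨e ⟨b, hb⟩, by
    rw [← map_mul, ← map_mul]; exact congrArg e (Subtype.ext hbx)⟩
  have hib : (i : G) = b := congrArg Subtype.val (e.injective (congrArg Subtype.val hi))
  exact hib ▸ i.2

set_option maxHeartbeats 1000000 in
/-- The centralizer of `n` is `A₄ × ⟨n⟩`. -/
theorem cent_three_data (hy : K.IsThree y) :
    Nat.card ↥(Subgroup.centralizer ({L.n} : Set G)) = 36 ∧
      (∀ d : G, d * L.n = L.n * d → ∃ t ∈ L.T, ∃ w ∈ pairGroup y L.n hy.comm_n, t * w = d) ∧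
      ∀ j : G, Inv j → j * L.n = L.n * j → IsConj a j := by
  classical
  haveI : Fact (Nat.Prime 2) := ⟨Nat.prime_two⟩
  haveI : Fact (Nat.Prime 3) := ⟨Nat.prime_three⟩
  haveI : Fact (Nat.Prime 5) := ⟨by decide⟩
  set M : Subgroup G := Subgroup.centralizer ({L.n} : Set G) with hM
  have hxM : L.n ∈ M := mem_cent.mpr rfl
  set Xs : Subgroup ↥M := Subgroup.zpowers ⟨L.n, hxM⟩ with hXs
  haveI : Xs.Normal := ⟨fun y hy g => by
    obtain ⟨k, rfl⟩ := Subgroup.mem_zpowers_iff.mp hy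
    have hc : Commute g (⟨L.n, hxM⟩ : ↥M) := Subtype.ext (mem_cent.mp g.2)
    rw [(hc.zpow_right k).eq, mul_inv_cancel_right]
    exact Subgroup.zpow_mem_zpowers _ k⟩
  have hX3 : Nat.card ↥Xs = 3 := by
    rw [hXs, Nat.card_zpowers, ← Subgroup.orderOf_coe]; exact n_order
  have hTM : L.T ≤ M := fun t ht => mem_cent.mpr (L.mem_T.mp ht).2
  set π := QuotientGroup.mk' Xs with hπ
  let ι : ↥L.T →* ↥M ⧸ Xs := π.comp (Subgroup.inclusion hTM)
  have hι : Function.Injective ι := by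
    rw [← MonoidHom.ker_eq_bot_iff, Subgroup.eq_bot_iff_forall]
    intro t ht
    have h : (⟨t, hTM t.2⟩ : ↥M) ∈ Xs := (QuotientGroup.eq_one_iff _).mp ht
    obtain ⟨k, hk⟩ := Subgroup.mem_zpowers_iff.mp h
    have e : L.n ^ k = (t : G) := congrArg Subtype.val hk
    exact Subtype.ext (K.T_inf_B t.2 (e ▸ zpow_mem K.n_mem k))
  have hιC : ∀ t : ↥L.T, (t : G) ≠ 1 →
      Subgroup.centralizer ({ι t} : Set (↥M ⧸ Xs)) = ι.range := by
    intro t ht1
    refine le_antisymm ?_ ?_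
    · intro q hq
      obtain ⟨m, rfl⟩ := QuotientGroup.mk'_surjective Xs q
      have h := mem_cent.mp hq
      have hmem : (⟨(t : G), hTM t.2⟩ : ↥M)⁻¹ * (m * ⟨t, hTM t.2⟩ * m⁻¹) ∈ Xs := by
        have hz : π ((⟨(t : G), hTM t.2⟩ : ↥M)⁻¹ * (m * ⟨t, hTM t.2⟩ * m⁻¹)) = 1 := by
          rw [map_mul, map_mul, map_mul, map_inv, map_inv]
          have h' : π m * π ⟨t, hTM t.2⟩ = π ⟨t, hTM t.2⟩ * π m := h
          rw [h']; group
        exact (QuotientGroup.eq_one_iff _).mp hz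
      obtain ⟨k, hk⟩ := Subgroup.mem_zpowers_iff.mp hmem
      have e : L.n ^ k = (t : G)⁻¹ * ((m : G) * t * (m : G)⁻¹) := congrArg Subtype.val hk
      have e' : (m : G) * t * (m : G)⁻¹ = t * L.n ^ k := by rw [e]; group
      have ht2 : (t : G) * t = 1 := S.E_sq L.outside t.2.1
      have hc : Commute (t : G) (L.n ^ k) :=
        (show Commute (t : G) L.n from (L.mem_T.mp t.2).2).zpow_right k
      have hsq : L.n ^ k * L.n ^ k = 1 := by
        calc L.n ^ k * L.n ^ k = ((t : G) * L.n ^ k) * ((t : G) * L.n ^ k) := by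
              rw [mul_assoc, ← mul_assoc (L.n ^ k), ← hc.eq, mul_assoc, ← mul_assoc (t : G), ht2, one_mul]
          _ = (m : G) * (t * t) * (m : G)⁻¹ := by rw [← e']; group
          _ = 1 := by rw [ht2]; group
      have h3' : L.n ^ k = 1 := by
        refine eq_one_of_coprime_orders (m := 2) (n := 3) (by norm_num) (by rw [pow_two]; exact hsq) ?_
        rw [← zpow_natCast, ← zpow_mul, mul_comm, zpow_mul, zpow_natCast, L.n_cube, one_zpow]
      rw [h3', mul_one, mul_inv_eq_iff_eq_mul] at e'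
      obtain ⟨g, hg, hga⟩ := K.exists_move_T t.2 ht1
      have hmD : (m : G) ∈ Subgroup.centralizer ({a} : Set G) := by
        have hd : Subgroup.centralizer ({a} : Set G) ≤ Subgroup.centralizer ({(t : G)} : Set G) :=
          fun d hd => mem_cent.mpr ((K.mem_T_iff.mp t.2).2 d hd).symm
        have hcard : Nat.card ↥(Subgroup.centralizer ({(t : G)} : Set G)) ≤
            Nat.card ↥(Subgroup.centralizer ({a} : Set G)) := by
          refine Nat.card_le_card_of_injective (fun d => ⟨g * d * g⁻¹, mem_cent.mpr ?_⟩) fun p q k =>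
            Subtype.ext (mul_left_cancel (mul_right_cancel (congrArg Subtype.val k :)))
          have hd' : (d : G) * t = t * d := mem_cent.mp d.2
          calc g * (d : G) * g⁻¹ * a = g * (d : G) * g⁻¹ * (g * t * g⁻¹) :=
                congrArg (fun w => g * (d : G) * g⁻¹ * w) hga.symm
            _ = g * ((d : G) * t) * g⁻¹ := by group
            _ = g * (t * d) * g⁻¹ := by rw [hd']
            _ = (g * t * g⁻¹) * (g * (d : G) * g⁻¹) := by group
            _ = a * (g * (d : G) * g⁻¹) := congrArg (fun w => w * (g * (d : G) * g⁻¹)) hga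
        exact (Subgroup.eq_of_le_of_card_ge hd hcard).ge (mem_cent.mpr e')
      obtain ⟨s, hs, i, hi, hsi⟩ := K.mem_cent_three hmD (mem_cent.mp m.2)
      refine ⟨⟨s, hs⟩, ?_⟩
      refine (QuotientGroup.eq.mpr ?_ : (π ⟨s, hTM hs⟩) = π m)
      obtain ⟨j, hj⟩ := Subgroup.mem_zpowers_iff.mp hi
      refine Subgroup.mem_zpowers_iff.mpr ⟨j, Subtype.ext ?_⟩
      show L.n ^ j = s⁻¹ * (m : G)
      rw [← hsi, hj, inv_mul_cancel_left]
    · rintro _ ⟨s, rfl⟩
      rw [mem_cent, ← map_mul, ← map_mul]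
      exact congrArg ι (Subtype.ext (S.E_comm L.outside s.2.1 t.2.1))
  have hrange : Nat.card ↥ι.range = 4 := by
    rw [← Nat.card_congr (MonoidHom.ofInjective hι).toEquiv, L.card_T]
  set at' : ↥L.T := ⟨a, L.a_mem_T⟩
  have hιa : orderOf (ι at') = 2 := by
    rw [orderOf_injective ι hι, ← Subgroup.orderOf_coe]; exact inv_iff_orderOf.mp L.outside.isInv
  have hCa := hιC at' L.outside.isInv.2
  let FC : BSW.FourCent (↥M ⧸ Xs) :=
    { x := ι at'
      hx := hιa
      card_four := by rw [hCa, hrange]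
      sq := fun q hq => by
        rw [hCa] at hq
        obtain ⟨s, rfl⟩ := hq
        rw [← map_mul, ← map_one ι]
        exact congrArg ι (Subtype.ext (S.E_sq L.outside s.2.1)) }
  have hall : ∀ c ∈ FC.C, c ≠ 1 → Subgroup.centralizer ({c} : Set (↥M ⧸ Xs)) = FC.C := by
    intro c hc hc1
    have hc' : c ∈ ι.range := hCa ▸ hc
    obtain ⟨s, rfl⟩ := hc'
    exact (hιC s fun k => hc1 (by rw [show s = 1 from Subtype.ext k, map_one])).trans hCa.symm
  have hyM : y ∈ M := mem_cent.mpr hy.comm_n.eq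
  have h3 : 3 ∣ Nat.card (↥M ⧸ Xs) := by
    have ho : orderOf (π ⟨y, hyM⟩) = 3 := by
      refine orderOf_eq_prime ?_ fun k => ?_
      · rw [← map_pow]
        convert map_one π using 2
        exact Subtype.ext (by show y ^ 3 = 1; rw [← hy.order, pow_orderOf_eq_one])
      · obtain ⟨j, hj⟩ := Subgroup.mem_zpowers_iff.mp ((QuotientGroup.eq_one_iff _).mp k)
        have e : L.n ^ j = y := congrArg Subtype.val hj
        have := (hy.indep (i := 1) (j := -j) (by
          rw [zpow_one, zpow_neg, e, mul_inv_cancel]; exact one_mem _)).1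
        rw [zpow_one] at this
        exact absurd hy.order (by rw [this, orderOf_one]; norm_num)
    exact ho ▸ orderOf_dvd_natCard _
  have h4 : 4 ∣ Nat.card (↥M ⧸ Xs) := FC.card_four ▸ Subgroup.card_subgroup_dvd_card FC.C
  have hMq : Nat.card ↥M = 3 * Nat.card (↥M ⧸ Xs) := by
    rw [Subgroup.card_eq_card_quotient_mul_card_subgroup Xs, hX3, mul_comm]
  have hH : Nat.card (↥M ⧸ Xs) = 12 ∨ Nat.card (↥M ⧸ Xs) = 60 := by
    rcases card_cases FC hall Nat.prime_three (by decide) h3 with h | h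
    · have hpos : 0 < Nat.card (↥M ⧸ Xs) := Nat.card_pos
      omega
    · exact .inr h.1
  have hTs : Nat.card ↥(L.T.subgroupOf M) = 2 ^ ((Nat.card ↥M).factorization 2) := by
    rw [Nat.card_congr (Subgroup.subgroupOfEquivOfLe hTM).toEquiv, L.card_T, hMq,
      Nat.factorization_def _ Nat.prime_two]
    rcases hH with h | h <;> rw [h]
    · rw [show 3 * 12 = 2 ^ 2 * 9 by norm_num, padicValNat.mul (by norm_num) (by norm_num),
        padicValNat.prime_pow, padicValNat.eq_zero_of_not_dvd (by norm_num : ¬ 2 ∣ 9)]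
      norm_num
    · rw [show 3 * 60 = 2 ^ 2 * 45 by norm_num, padicValNat.mul (by norm_num) (by norm_num),
        padicValNat.prime_pow, padicValNat.eq_zero_of_not_dvd (by norm_num : ¬ 2 ∣ 45)]
      norm_num
  have hinvs : ∀ j : G, Inv j → j * L.n = L.n * j → IsConj a j := by
    intro j hj hjx
    obtain ⟨R, hR⟩ := (IsPGroup.of_card (n := 1) (by
      rw [Nat.card_zpowers, ← Subgroup.orderOf_coe, pow_one]; exact inv_iff_orderOf.mp hj) :
      IsPGroup 2 ↥(zpowers (⟨j, mem_cent.mpr hjx⟩ : ↥M))).exists_le_sylow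
    obtain ⟨g, hg⟩ := MulAction.exists_smul_eq ↥M R (Sylow.ofCard _ hTs)
    have hgj : (g : G) * j * (g : G)⁻¹ ∈ L.T := by
      have h : g * ⟨j, mem_cent.mpr hjx⟩ * g⁻¹ ∈ ((g • R : Sylow 2 ↥M) : Subgroup ↥M) := by
        rw [Sylow.coe_subgroup_smul]
        exact ⟨_, hR (mem_zpowers _), rfl⟩
      rw [hg] at h
      exact h
    obtain ⟨c, -, hc⟩ := K.exists_move_T hgj (fun k => hj.2 (conj_eq_one_iff.mp k))
    exact (isConj_iff.mpr ⟨c * g, (by group : c * (g : G) * j * (c * (g : G))⁻¹ =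
      c * ((g : G) * j * (g : G)⁻¹) * c⁻¹).trans hc⟩ : IsConj j a).symm
  have h12 : Nat.card (↥M ⧸ Xs) = 12 := by
    refine hH.resolve_right fun h60 => ?_
    obtain ⟨w, hw⟩ := exists_prime_orderOf_dvd_card' (G := ↥M) 5 (by rw [hMq, h60]; norm_num)
    rw [← Subgroup.orderOf_coe] at hw
    obtain ⟨x, hx, hx5⟩ := K.exists_five_mem
    have hwn : L.n * (w : G) = (w : G) * L.n := (mem_cent.mp w.2).symm
    obtain ⟨c, hc⟩ := S.exists_conj_comm_five K hx hx5 hw
      (by rw [n_order]; norm_num) L.n_ne hwn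
    set r := c * L.n * c⁻¹ with hr
    have hr3 : orderOf r = 3 := by rw [hr, ← MulAut.conj_apply, MulEquiv.orderOf_eq, n_order]
    set M5 := Subgroup.centralizer ({x} : Set G) with hM5
    have hf : (Nat.card ↥M5).factorization 3 = 1 := by
      rw [(K.cent_five_data hx hx5).1, Nat.factorization_def _ Nat.prime_three,
        show (300 : ℕ) = 3 ^ 1 * 100 by norm_num, padicValNat.mul (by norm_num) (by norm_num),
        padicValNat.prime_pow, padicValNat.eq_zero_of_not_dvd (by norm_num : ¬ 3 ∣ 100)]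
    let R : Sylow 3 ↥M5 := Sylow.ofCard (zpowers ⟨r, mem_cent.mpr hc⟩) (by
      rw [Nat.card_zpowers, ← Subgroup.orderOf_coe, hf, pow_one]; exact hr3)
    let Y : Sylow 3 ↥M5 := Sylow.ofCard (zpowers ⟨y, mem_cent.mpr (hy.comm x hx)⟩) (by
      rw [Nat.card_zpowers, ← Subgroup.orderOf_coe, hf, pow_one]; exact hy.order)
    obtain ⟨d, hd⟩ := MulAction.exists_smul_eq ↥M5 Y R
    have hmap : (zpowers y).map (MulAut.conj (d : G)).toMonoidHom = zpowers r := by
      have hle : (zpowers y).map (MulAut.conj (d : G)).toMonoidHom ≤ zpowers r := by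
        rw [MonoidHom.map_zpowers, Subgroup.zpowers_le]
        have h : d * ⟨y, mem_cent.mpr (hy.comm x hx)⟩ * d⁻¹ ∈ ((d • Y : Sylow 3 ↥M5) : Subgroup ↥M5) := by
          rw [Sylow.coe_subgroup_smul]
          exact ⟨_, mem_zpowers _, rfl⟩
        rw [hd] at h
        obtain ⟨k, hk⟩ := mem_zpowers_iff.mp (h : _ ∈ zpowers (⟨r, mem_cent.mpr hc⟩ : ↥M5))
        exact mem_zpowers_iff.mpr ⟨k, (congrArg Subtype.val hk :)⟩
      exact Subgroup.eq_of_le_of_card_ge hle (le_of_eq (by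
        rw [Subgroup.card_map_of_injective (MulAut.conj (d : G)).injective, Nat.card_zpowers,
          Nat.card_zpowers, hr3, hy.order]))
    have hzr := conj_comm_zpowers hmap hy.comm_z.symm.eq
    have hzj : IsConj S.z (c⁻¹ * d * S.z * (c⁻¹ * d)⁻¹) := isConj_iff.mpr ⟨c⁻¹ * d, rfl⟩
    refine S.not_conj_outside L.outside (hzj.trans (hinvs _ (conj_inv_iff hzj S.inv_z) ?_).symm)
    calc c⁻¹ * d * S.z * (c⁻¹ * d)⁻¹ * L.n = c⁻¹ * ((d : G) * S.z * (d : G)⁻¹ * r) * c := by rw [hr]; group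
      _ = c⁻¹ * (r * ((d : G) * S.z * (d : G)⁻¹)) * c := by rw [hzr]
      _ = L.n * (c⁻¹ * d * S.z * (c⁻¹ * d)⁻¹) := by rw [hr]; group
  have hM36 : Nat.card ↥M = 36 := by rw [hMq, h12]
  refine ⟨hM36, fun d hd => ?_, hinvs⟩
  -- the decomposition
  let f : ↥L.T × ↥(zpowers y) × ↥(zpowers L.n) → ↥M := fun p =>
    ⟨(p.1 : G) * ((p.2.1 : G) * p.2.2), mul_mem (hTM p.1.2)
      (mul_mem (zpowers_le.mpr hyM p.2.1.2) (zpowers_le.mpr hxM p.2.2.2))⟩
  have hf : Function.Bijective f := by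
    refine (Nat.bijective_iff_injective_and_card f).mpr ⟨?_, ?_⟩
    · rintro ⟨t, ⟨_, i, rfl⟩, ⟨_, j, rfl⟩⟩ ⟨t', ⟨_, i', rfl⟩, ⟨_, j', rfl⟩⟩ k
      have k' : (t : G) * (y ^ i * L.n ^ j) = t' * (y ^ i' * L.n ^ j') := congrArg Subtype.val k
      have hc1 : Commute (L.n ^ j) (y ^ (-i')) := (hy.comm_n.symm.zpow_left _).zpow_right _
      have e : y ^ (i - i') * L.n ^ (j - j') = (t : G)⁻¹ * t' := by
        calc y ^ (i - i') * L.n ^ (j - j') = y ^ i * (y ^ (-i') * L.n ^ j) * L.n ^ (-j') := by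
              rw [sub_eq_add_neg, sub_eq_add_neg, zpow_add, zpow_add]; group
          _ = (t : G)⁻¹ * ((t : G) * (y ^ i * L.n ^ j)) * (y ^ (-i') * L.n ^ (-j')) := by
              rw [← hc1.eq]; group
          _ = (t : G)⁻¹ * t' := by
              rw [k', ((hy.comm_n.zpow_left (-i')).zpow_right (-j')).eq]; group
      obtain ⟨h1, h2⟩ := hy.indep (e ▸ mul_mem (inv_mem t.2) t'.2)
      rw [h1, h2, one_mul] at e
      rw [zpow_sub, mul_inv_eq_one] at h1 h2
      exact Prod.ext (Subtype.ext (inv_mul_eq_one.mp e.symm))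
        (Prod.ext (Subtype.ext h1) (Subtype.ext h2))
    · rw [Nat.card_prod, Nat.card_prod, L.card_T, Nat.card_zpowers, Nat.card_zpowers, hy.order, n_order,
        hM36]
  obtain ⟨⟨t, ⟨_, i, rfl⟩, ⟨_, j, rfl⟩⟩, hp⟩ := hf.2 ⟨d, mem_cent.mpr hd⟩
  exact ⟨t, t.2, _, ⟨i, j, rfl⟩, congrArg Subtype.val hp⟩

end Setup.Local.Factor

end Cfsg.Agent.HallJankoType
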